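import Mathlib.Data.Nat.Notation
import Cfsg.Agent.H64.O73Two
import Cfsg.Agent.H68.Bounds
import Cfsg.Agent.H6.QO.Frame
import Cfsg.Agent.H63.Odd
import Cfsg.Agent.H235.QS.O7L
import Cfsg.Agent.OddHalf.NI.Mult
import Cfsg.Agent.H928.Ore.Frame
import Cfsg.Agent.KFacts.RgdAut
import Cfsg.Agent.H194.Ore.RowThree_m3
import Cfsg.Agent.UGT.U2.FOne.TwESixEnd
import Cfsg.Agent.H92.QS.StHom
import Cfsg.Agent.H194.Ore.RowEF
import Cfsg.Agent.H584.Ore.ESixTwo_mg
import Cfsg.Agent.OddHalf.NI.ClosedSL
import Cfsg.Agent.H65.MultE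
import Cfsg.Agent.H235.Ore.McL
import Cfsg.Agent.H75.QO.Red_m3
import Cfsg.Agent.H58.McLCover
import Cfsg.Agent.S2047
import Cfsg.Agent.H847.Irr
import Cfsg.Agent.CoOneType.InvMain
import Cfsg.Agent.SporadicA.M24Frames
import Cfsg.Agent.H848.TrioK
import Cfsg.Agent.KFacts.Co1.CaseM_m3
import Cfsg.Agent.CoOneType.GenCrit
import Cfsg.Agent.CoOneType.InvCheck
import Cfsg.Agent.H419.LeechIrr
import Cfsg.Agent.S0377
import Cfsg.Agent.Characters.Core
import Cfsg.Agent.Schreier.ChevIso_m3
import Cfsg.Agent.Characters.Central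
import Cfsg.Agent.H590.Ore.CoOneSieve
import Cfsg.Agent.KFacts.Co1D4.Main
import Cfsg.Agent.H538.Ore.Small
import Cfsg.Agent.H134.Sq.Base_m3
import Cfsg.Agent.Characters.GaloisBasic
import Cfsg.Agent.Characters.SchurBound
import Cfsg.Agent.CoFive.FixRank
import Cfsg.Agent.CoFive.Ranks
import Cfsg.Agent.CpAutMSeven.Quo_m3
import Cfsg.Agent.BpSpor.MBigCo
import Cfsg.Agent.H451.Weak.MBase_m3
import Cfsg.Agent.LThreeCo1.Ranks
import Cfsg.Agent.H630.Ore.Co1.InA
import Cfsg.Agent.H868.Ore.CoOne
import Cfsg.Agent.H630.Ore.Co1.Frame_mg_m3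
import Cfsg.Agent.H322.Eng.CoThirteen_m3
import Cfsg.Agent.H171.Odd.SuzFive_m3
import Cfsg.Agent.H518.Ore.CoOneN
import Cfsg.Agent.S0372
import Cfsg.Agent.H752.Two.CoInv
import Cfsg.Agent.CoFive.Dims
import Cfsg.Agent.S2043
import Cfsg.Agent.ConwayFacts.AutCo1
import Cfsg.Agent.FastGrp
import Cfsg.Agent.Prune
set_option linter.all false

section
prune_inst 0x7ff0ecf829a889dfdfff7e3faef0dffc30848fffa6dff9437fe061bf8b9f23020bc5fb8f0de010fe1e56e09410b87813fb7ece7fe86bdc7ffffd57b41ffbee0fe5f63508519498340eac0ffe03f0570e6f3fdeff7ffffffffffffff7ffffffbeffffe3feffff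

-- part: H926/QS/O73Row_mg
section
set_option linter.all false
open scoped Cfsg.Agent.FastGrp

-- part: H926/QS/SixData
section
/-!
# Tables of eight elements of `2.Ω₇(3)` on 2160 vectors of the spin module

Digit `p` (12 bits) of `T2 j` is the image of the point `p` under the lift of the `j`-th involution; `- v` is `p xor 1`.
-/

set_option autoImplicit false
set_option maxRecDepth 100000

namespace Cfsg.Agent.H926.QS.SixData

/-- the tables -/
def T2 : ℕ → ℕ
  | 0 => 0x84684785385286186085985883e83f7a37a27a17a086a86b83383278078181f81e8688697e97e880880986c86d8458447dc7dd7db7da80c80d77877986f86e8508517357348288298678667d47d58258247277267d27d382b82a85e85f73273377577482782683483584184082c82d83a83b68468577d77c85a85b80a80b7a57a478978881481581781677677777b77a71f71e84b84a81d81c85585464164063f63e6af6ae66a66b66466565e65f65c65d65a65b65865965665765065164864964464564264373673785685761661775c75d7407416b36b27ac7ad84f84e84c84d7917906f36f283d83c83783676e76f64c64d65365276c76d77077176a76b6c36c25a95a85a75a65a15a059f59e59d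59c59b59a59959859359258f58e58d58c58b58a7df7de5cd5cc5c75c65b75b681a81b86486586286373973853c53d53a53b5385396ea6eb60d60c5da5db7d87d96ac6ad4ee4ef69e69f81881969a69b68c68d68668785d85c68068182082181081184984881381282e82f6676667c97c87d17d07cb7ca7c77c672c72d4c44c574d74c4cd4cc4c74c65fd5fc7e57e44b34b26d86d96066075d65d75d45d55ca5cb5bc5bd7647656ee6ef5f95f86ed6ec5eb5ea5ef5ee7e37e24844856c76c66bb6ba79e79f7eb7ea8428438318305d35d25c85c97697684a24a34f14f08388395c15c046a46b68b68a80e80f6a86a94644654b84b94b64b76016004ac4ad5145154a04a14964974944954864875f25f348048147e47f47c47d47a47b47247347047146e46f46c46d5ec5ed7d67d768e68f74b74a74674779779659759642c42d6e06e16db6da6e56e46036024254246e26e37597586106114184196cf6ce6c86c96d26d35ce5cf40e40f6d16d073c73d5df5de7c47c56766775bb5ba5b45b573a73b6b46b55b95b86b96b87e07e13fa3fb80280378f78e6a46a571d71c3ea3eb6ab6aa3e63e769669778b78a6696687877866946956a16a06996986906916936926f16f07857847207214d84d97837828238224db4da77f77e4ff4fe40140067867967b67a6c16c03bf3be3bd3bc3bb3ba3b93b84d04d180180069c69d7727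737ff7fe4cf4ce6546557fd7fc7fb7fa7f97f87f77f67f57f46616607cc7cd7f37f24d44d57cf7ce4ca4cb7f17f04d24d37ef7ee7ed7ec8068078048053923933b53b451d51c3b33b23b13b03af3ae3ad3ac3ab3aa3a93a83a73a63a53a43a33a23a13a039f39e39d39c39b39a3993983973963953947e77e641e41f5ff5fe6d76d637137079479556a56b5655647577565175166de6df71471561261375e75f35c35d7487494594584b14b07077065e15e07427436f56f47447453f93f85885895ac5ad34f34e5f05f16c46c53423437937925575567557547537527307315075066cd6cc7aa7ab75175072f72e7a87a94fa4fb4fd4fc72472543e43f74f74e6be6bf6b66b77a67a76bd6bc44d44c48d48c48e48f5e55e44024037c27c37c07c14604614c94c87be7bf7bc7bd7ba7bb7b87b97b67b76e86e94674667b47b54684697b27b37b07b17ae7af5e75e631231331031130e30f30c30d30a30b3083093063073023033003012fe2ff2fc2fd37837937637737437560b60a36c36d36436560860936036137a37b35435534a34b3463473443455d85d933e33f33833933633733433533033132a32b32632732432532232331e31f32832932d32c79d79c79b79a7997983403413493484824834894882bd2bc2b92b843b43a3633622b12b043943843743643543443343263863942942842742660460571171029c29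d41d41c41b41a49f49e4134124114105d05d140940840740640540467e67f5c25c35c55c435735628f28e28d28c3ed3ec72872978d78c3e13e03dd3dc3d53d43d33d23cf3ce3cd3cc3c53c43c33c23c13c068268368968827a27b64f64e64764666d66c66266376276364b64a5a25a376076176776627827927627727427527227327027171971871771649d49c75a75b5f45f526426571371236936836736633d33c33333272b72a70f70e50c50d4b44b535a35b35835970d70c70b70a35235331b31a5af5ae5b05b124e24f53053170970873f73e5335327057047037027017006ff6fe33a33b2ba2bb2a32a26fd6fc6fb6fa6f96f86f76f672372259159059459571b71a4304315a55a423b23a2692682672665f65f72632622612602592582572562532525b25b324b24a24924824724624524424124023f23e5bf5be21f21e52a52b52452552252352052151e51f4634622082096e76e642142051a51b5185196dc6dd1fe1ff42a42b61561451051150e50f6d56d440a40b40c40d50a50b5085096cb6ca4154144174165045055025035005015ab5aa67c67d3203213193186b16b05e85e91e91e81e71e61e51e41e31e23e93e84f24f36a76a63ee3ef6a36a23d83d93d63d74ec4ed3da3db4ea4eb3df3de3e53e43e33e24e84e94e64e73ca3cb4e44e54e24e33d13d03c63c73c93c84e04e14de4df4dc4dd674675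67267367067166e66f1c01c163a63b63663763463563263363063162e62f62c62d62a62b62862962662762462562262362062161e61f61c61d61a61b61861963d63c1be1bf1bc1bd1ba1bb1b81b91b61b71b41b51b21b31b01b11ae1af1ac1ad1aa1ab56156057157056f56e56d56c35e35f60e60f1961975695682e92e84aa4ab4a84a95675665285295635623733725fb5fa49b49a4994984f84f955f55e4934923163175e25e317e17f55d55c53453555b55a5595585dd5dc5375365555544a64a747947855355255155054f54e4a44a554d54c22322253e53f54b54a5415405495485475465455443ff3fe5435422d92d84904913fc3fd35135023823958758658558458358258158057f57e57d57c57b57a23c23d57957857757657557457357216316216116015f15e15d15c15b15a19f19e19d19c19b19a19919836a36b19519419319218f18e18d18c18918818718618318231c31d17d17c17b17a17917817717617317217117016f16e16d16c16b16a16916816716616516424324252e52f47747652c52d24d24c13c13d22022152652721421513613721021120e20f20c20d20a20b4744752022032002015135121f81f91f61f71f21f31f01f11ec1ed1ea1eb4f64f74f44f51221231dc1dd1d61d71ce1cf1cc1cd1ca1cb1c61c71c21c34d74d64c34c24c14c04bf4be4bd4bc4bb4ba1191181171161151144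5c45d45a45b4af4ae45645745445519019118a18b17417545245345045118518444e44f18118048b48a2b62b744a44b4484494464474444452be2bf44244344044130530445e45f3153140fa0fb11011110e10f10c10d10a10b1061071021031001010fe0ff0fc0fd32e32f2b32b243c43d21b21a21c21d2132120ea0eb2af2ae2182192ab2aa2a92a82a72a62a52a442f42e1fb1fa1fd1fc2a12a029f29e42342220420520620729b29a2992981ef1ee2972962952941f41f52932922912903f63f73f43f53f23f33f03f10c20c31d91d82892881d51d41de1df2872861da1db1d11d01d21d32852842832822812801c51c427f27e1c81c927d27c3b73b639139038f38e38d38c38b38a38938838738638538438338238138037f37e37d37c0ab0aa0a90a80a70a60a50a40a30a22f02f12ee2ef2ec2ed2ea2eb36f36e2e62e72e42e525f25e2e22e32e02e125d25c2de2df2dc2dd2542552da2db25025134d34c2d62d72d42d52d22d32d02d125b25a2ce2cf2cc2cd2ca2cb2c82c92c62c72c42c52c22c32c02c12fa2fb2f82f92f62f72f42f52f22f308008109e09f09c09d09a09b09809909409509209309009108c08d08a08b0880890860870840850820832b52b40ef0ee0ed0ec2ad2ac0e30e20db0da0d90d80d70d60d30d20d10d00cd0cc0c90c80c50c428b28a0b70b60b30b20af0ae0ad0ac26e26f26c26d26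a26b05c05d23523423323223123022f22e09709622d22c08e08f22b22a22922822722622522423723605b05a0590580570560550540e80e913a13b1381392172160f10f00e40e50e70e61341350de0df0e10e00c00c113213313013112e12f0ce0cf12c12d12a12b0d50d41281290c60c71261270cb0ca1241251e11e00dd0dc0bc0bd0bf0be0b90b80ba0bb1201210b00b111e11f0b50b411c11d11a11b1a81a91a61a71a41a51a21a31a01a102a02b15715615515415315215115010810914f14e14d14c14b14a10510414914814714614514414314214114013f13e15915802902802702602502402302202102001f01e04e04f04c04d04404504204304004103c03d03803903603703203302e02f02c02d1131120f80f90f60f70f40f50f20f301201304b04a07307207107005005104704604804906f06e06d06c06b06a03b03a06906803e03f06706606506403103006306203403506106005f05e0a10a007e07f07c07d07a07b07807907607707407500400500f00e00b00a00900800700605305200c00d01a01b01101001801901601701401501d01c000001003002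
  | 1 => 0x82a82b8308318118107ee7ef7c67c77b87b982d82c78b78a85185082382281d81c77e77f80580477c77d77777685e85f7a67a780680772f72e78778676e76f71e71f7857846ff6fe78378283b83a83c83d6aa6ab7d57d47d17d080e80f86d86c69669786286386f86e8008017ff7fe7d27d385c85d7ed7ec7f07f185a85b7ba7bb66866969969865065173273386a86b83383264e64f64864964264384d84c85685763b63a8298288268276916907f47f57f67f77f97f87fb7fa69569481f81e86986882082161d61c61961863c63d5f95f85ea5eb7517505e65e761b61a61e61f7617606376368368378258248348357357347c97c85c05c17cc7cd86786658b58a5b95b87267275c35c25ba5bb81b81a86586469269373873973a73b5d65d75cc5cd5725736c26c379179084f84e54f54e54d54c66566454354257f57e57d57c57b57a6b66b770f70e70b70a7a87a97257246a26a38608614ec4ed84884984284383e83f4e24e385985885585469e69f4d24d38528534d04d14ea4eb4e84e98478466ad6ac6876864c94c87307314c24c36226237d87d94b84b94b64b76016006e06e15fe5ff5455445f15f07e07e14a74a64a54a44a14a07167174944957087094894884874865f35f26ce6cf7b37b27b57b46bd6bc7ce7cf81381276776684a84b4784795805816a76a67c17c078e78f5ed5ec47d47c8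4584447147068f68e56256374974845d45c6db6da4544557947956f96f879279374574444a44b6c96c86bf6be4e74e684084151e51f4f34f270c70d49649744044144644744444560c60d5db5da5a95a843643761561442a42b51851975975842842960560471271342142041d41c49f49e41641750950873d73c4134125d05d170470540a40b4064077ab7aa4154147027037367373fe3ff4094087977964054045915905c55c43ee3ef76c76d8398383ed3ec7287295a75a678d78c66d66c77b77a3e03e164664781681782f82e7f27f37b77b67fc7fd71a71b64c64d3d23d366f66e76a76b3cc3cd67267364464567c67d67f67e3d03d13c63c73c03c16716706836826746756886896a06a147a47b8198183ae3af7a07a16246253a83a95995983e43e53de3df3da3db3d83d93d63d73d43d581581480d80c68d68c62162080b80a69b69a68168080980839b39a3953947e77e68028033903917d67d762f62e3dd3dc62b62a6346353e33e263063162762662862966366276376264a64b7db7da7ea7eb7dc7dd7e87e937c37d6e66e757157037637760b60a6ef6ee60e60f5295283783796dc6dd36536475a75b75775636136037b37a7e47e54af4ae35835973e73f7527533543557227237e37e23563577df7de3523535b05b155d55c3473465d95d86ec6ed5dc5dd7b17b034a34b4ba4bb6cb6ca3363377af7ae46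94684d54d44c74c66b06b17be7bf7cb7ca45f45e4614607bd7bc7c27c339739639839948b48a5e35e232b32a31b31a3193186ea6eb6a46a533d33c33b33a33933847e47f33533433133065e65f32732632532431f31e6b26b33213203223237c47c52fc2fd32932847247332c32d72b72a79c79d79a79b7987993413403483494834827ad7ac6126135115105685692ed2ec56d56c51a51b2e02e17197182dc2dd5305315e05e15025035545552d22d35595584fc4fd50b50a7a47a57a27a344f44e52252344944875475579e79f2d42d52d02d12ce2cf2cc2cd2ca2cb2c62c72c42c52c22c355f55e2f82f92f42f52b22b360860943d43c3743755495483453446fd6fc2a52a45675666e36e22a12a029f29e42342256e56f4504512982995505516d06d129429550050155b55a5055042962975535522922932902913f53f43f13f06fa6fb2882892862877897887737727717707007014e04e17817804e54e43cf3ce40c40d27f27e27d27c3b73b65c85c97797787757742852842832822812807687695c65c727027176576438738638338237f37e5d35d275f75e75d75c41b41a2692682672665f65f74274262aa2ab35f35e74e74f74c74d25a25b74a74b6d46d525625729a29b45b45a6f76f67477464904914934922532522512505b25b374274374074124a24b57457541141059f59e72072166b66a72d72c2f7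2f642e42f58558471c71d46c46d46f46e23e23f5ca5cb2482492442452402415bc5bd5be5bf7147154984992322332e32e27117102df2de50f50e54a54b22a22b7077065465476f36f26f16f02a62a76f56f422722652652721921836d36c6e96e833e33f31031120d20c4754742062076e56e46df6de4ac4ad2032025125136d86d91fa1fb6d66d74b44b51f61f76d36d26c06c16cc6cd4804811f01f14dd4dc6c76c66b86b96c56c46b46b51f41f51f21f36bb6ba1ee1ef1ec1ed1ea1eb3f23f34f64f73f73f64f44f56af6ae6a86a91dc1dd3b53b41d61d765d65c62c62d69d69c65b65a63263365965865765665565465365268b68a67b67a4de4df6856843c93c83ca3cb6796783c33c23c43c56776761c91c81c71c61c51c41c31c24d64d73e83e92462471df1de6676661db1da1d91d86616601d51d41d31d21d11d01cf1ce1cd1cc1cb1ca6406415b55b45b65b763e63f1aa1ab63963838c38d38f38e38938838a38b4c04c13803814be4bf3853844bc4bd6176165fa5fb6076066116105255242f12f019b19a36a36b43843936f36e21c21d19e19f60260318c18d5fc5fd4a84a91861871fc1fd5f55f45e95e85ef5ee5e55e418318218118031c31d5d55d45775765de5df5205211781795785794354345a45a55a25a35a05a15cf5ce59c59d27827959a59b2362375835825ae5af58658759659759459558d5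8c58e58f59259334d34c5ac5ad5aa5ab16416517c17d17a17b43343217617717417517217317017116e16f16c16d16a16b16816916616758958824224352f52e47647752d52c24c24d3723732e62e756a56b2e52e41521532ef2ee2ea2eb4564575655644524535615602c12c014814922422554154055755653f53e53d53c53b53a5395382282295375365355345335322da2db14714614514414314214114013f13e15915852b52a13b13a1391382162174ab4aa19919844344251c51d12e12f51651751451512a12b49b49a50d50c4ff4fe5075064fb4fa4f94f81271261251241e01e14f14f04ef4ee4ce4cf4cc4cd4ca4cb4da4db4d84d911a11b33333212012111e11f11c11d4c54c41a61a71a21a31a01a14b24b34b04b110e10f1351342002011331321311304a34a212d12c49d49c12912848e48f48c48d1021032f32f24854844674663b33b24654642fb2fa46346246b46a1011000ff0fe0fd0fc32f32e15415545945814e14f14c14d14a14b44d44c2c92c843e43f2d72d60f20f32132120ef0ee36936821121043a43b2ad2ac0e00e122022121a21b1921934304311bf1be0d60d742d42c1f91f84244252612600d00d135b35a41f41e20420541941840340240140040f40e3fd3fc3fb3fa3f93f80cb0ca0c90c80c70c60c50c428b28a3b03b13eb3ea3ac3ad3aa3ab3e73e63a63a73a43a53a23a33a03a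139e39f39c39d3be3bf3bc3bd3ba3bb3b83b90ac0ad20a20b0be0bf0bc0bd0ba0bb0b80b90b60b70b40b50b20b30b00b10ae0af3933921a51a426f26e1a81a926d26c26b26a3673660f10f03703712a82a909a09b0e90e820f20e0e70e60e30e23633620dd0dc0d30d235d35c0cf0ce35035134e34f08c08d31531431331234334230f30e30d30c30b30a3093083073063053043033023013002ff2fe31731608b08a0890880870860850840830822b42b51511502352342e92e815615723123022f22e22d22c2d92d82be2bf2bc2bd2ba2bb2b82b92b62b70740752b02b12ae2af07007126226325e25f25c25d2a32a225825929d29c25425528e28f28c28d06406527727627527427327227b27a06306206106005f05e0a10a007207326526406e06f06c06d06a06b06806906606724f24e23c23d23a23b23823905405507d07c07907807707622322219c19d21e21f0de0df04c04d1941951901910da0db18e18f2152140ed0ec18a18b0e50e40c10c02092080cc0cd1881891ff1fe1841850d50d41e81e91e61e71e41e51e21e30360370d80d91bd1bc1bb1ba1b91b81b71b61b51b41b31b21b11b01af1ae1ad1ac1c11c003503403303203103002f02e02d02c11211305005104e04f19719604a04b04804904404504204303c03d03a03b17f17e16216316016115e15f15c15d15a15b01e01f07a07b0f80f907f07e0f60f70f40f513d13c11111013713610d10c10b10a10910810710610510412312211811911611711411501401501b01a0190180170160fb0fa01c01d09f09e09d09c0eb0ea09909809709604104009509409309204604703903809109008f08e03e03f0c30c20aa0ab0a80a90a60a70a40a50a20a300600701101000f00e00d00c00b00a00900808108005305205a05b05805905605705d05c00200302802902602702402502202302002102b02a000001013012005004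
  | 2 => 0x83283382882984b84a86786686886981e81f79879980d80c8468478088097a37a283f83e79079178178084184076876984c84d84f84e86a86b72872985f85e72c72d7387398528538588597267276ad6ac7d47d56a86a96f06f186f86e69f69e78c78d69269368e68f86d86c69069178e78f7f77f668368286586467a67b6766776af6ae72172068b68a64e64f66a66b71a71b86086167967885d85c67567466f66e78878977a77b63063162a62b64d64c64264382282365365262062162662762262365b65a7017007d87d97317306d86d97557545e95e85ef5ee7da7db7dd7dc7e97e879a79b83983871c71d5a25a365c65d6576565a75a65925937627635aa5ab58758676d76c58f58e57e57f59559462962857a57b7707715a05a15775765755747427436d26d36886896716706c16c085a85b53853973573467e67f7d77d68638626c46c571871953653785785682582482f82e7327338038024ea4eb4e94e84e54e48548554e04e14da4db8018004f04f14d54d44ee4ef6a66a77b57b44c84c97c07c14cc4cd8518504d64d76386397c77c64bd4bc6dc6dd75875952752675d75c4ab4aa7e27e34a64a773f73e72372251d51c51751649b49a5225234924937ad7ac5d65d77507514834826cb6ca84384247c47d79e79f78b78a7e67e747b47a84584447447584984883d83c47047174e74f8168174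644657d37d280f80e79579456e56f56a56b45745656456545345255955844e44f5345354f94f84484496cc6cd7ea7eb5c85c96b86b95c05c153e53f4434425e05e153a53b8358346046054374365de5df5785796d56d46d76d642842961061152a52b75f75e51a51b7e57e46e46e56e66e77ab7aa4144155cc5cd70370273a73b40d40c5325337977964024037a47a540140069969840f40e6fd6fc3fa3fb4724733f83f95b85b981881983a83b3ec3ed8378367737724f34f26556543e33e28308316356343dc3dd6bc6bd3d63d75b55b482d82c82782682b82a3d53d48148157a97a83cf3ce6586598208213c43c579d79c5ba5bb81d81c80a80b81b81a8068073df3de7a67a78048054bf4be8118103b03b13ea3eb3ac3ad3b53b43e63e73a63a77cf7ce7ec7ed6856847cc7cd6a26a37f47f539c39d8138127fa7fb3983993a23a34c14c039e39f7f97f83be3bf3b83b93b63b74ce4cf76576438a38b69c69d3863877ff7fe3a03a13823837fd7fc7b87b97f17f03ab3aa7ef7ee7f37f23853844ca4cb38138037f37e5d35d24b14b056c56d6e16e043d43c4b84b96006015145153693686ef6ee43b43a60b60a37437542542442342235b35a36a36b41f41e3573565ec5ed7de7df5f15f03523537e07e13503515445453f33f26f56f46eb6ea51e51f34134040840974174033c33d61661733933847e47f6cf6ce48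44856ff6fe4d84d93283294f74f66fb6fa52d52c46a46b67d67c6b16b03ba3bb69469531c31d4f54f43263273233227c57c43133127ca7cb3153147d17d07b37b230a30b4664673a43a53063073023037ba7bb7c97c83053047be7bf3013002ff2fe3173167c27c32f82f946346238f38e7bd7bc3893887b77b66e96e87b07b17ae7af2f22f32ee2ef7177166136127157142e72e62e32e27117102df2de50f50e2da2db2d62d72d52d470c70d5045052d02d15075062ce2cf5085093d13d02c62c748f48e4dd4dc5e55e43e53e44fb4fa6f96f84fe4ff6f36f27a17a07937927097086c76c62b62b74054045be5bf6df6de2ae2af75a75b2ab2aa7477462a62a75dd5dc74c74d6db6da2b22b374a74b6096084b54b429b29a56056145a45b29729654f54e5525535575562922932bc2bd53d53c28e28f5405417067075c25c35b05b16a46a577977877577428428578778678478528028178278327e27f77f77e28228354654777d77c5c75c676776677677727627727427563b63a76b76a61d61c76f76e27327227b27a26e26f64664766c66d76076126a26b60d60c3773765125132b02b16146152ac2ad26326275675725e25f75375225d25c2a22a325925826726629c29d7487492542553443452522537457442c42c554854928c28d28a28b24d24c3483495cb5ca73c73d2482495cf5ce73773672e72f244245242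24372b72a6b56b472572432c32d2412405bd5bc23c23d59d59c71f71e58258323823926c26d23523450d50c2e92e871271323023170e70f22c22d70b70a2d92d822822970570422e22f33a33b6f66f72242252b92b860e60f6026032112106ec6ed20c20d34334230f30e38d38c4184192042056e36e22202215fc5fd5fa5fb1fd1fc5f45f51f91f837a37b42d42c1f41f56d16d01f31f23353346ba6bb6c86c91ee1ef5d95d81ec1ed52e52f6c36c26be6bf1e61e72c22c36b76b66b36b23f03f13203215e25e33f73f61de1df6ab6aa6676661d91d86616605425436a06a11ce1cf67267369b69a3bc3bd31f31e69769668c68d1ca1cb54c54d6866871c61c73313301d21d31d01d16816801cc1cd3243256416403db3da5b75b663f63e63d63c6626631b81b96696681b41b56656646246251b01b165f65e59b59a64964862f62e6456446516501b31b264b64a1af1ae1ad1ac1c11c01a61a758058142e42f63763657c57d63363261e61f62d62c61a61b6186191a01a141b41a19c19d4b64b75ff5fe2eb2ea21e21f2162171951945f75f660660719019118f18e2142151891881991981fe1ff5f85f91841855f25f31821835eb5ea5e75e61e41e51e01e117c17d48748617b17a4974964324335da5db1761775d55d44454445d05d117217341041118b18a3ca3cb2b42b546f46e16a16b5c55c45af5ae3c13c05ac5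ad3f53f43d83d95b35b21691681671665885895a45a55a85a91601614304311bc1bd59f59e1b61b759959859059159759658c58d58a58b15a15b1a81a95855841a41a51a21a357357215615757157015515437237345845956856915015156656714e14f56256314a14b55f55e44c44d55d55c55a55b14414555555455155014c14d1da1db29129054b54a4914903fd3fc13e13f2ba2bb5015002bf2be43e43f53153032f32e5195184b34b25295284af4ae5245251321335215201311304a34a212d12c13913849d49c51051112812950a50b1261275035022c82c94fd4fc48d48c48b48a12012111e11f4ed4ec4df4de4e74e64e34e211d11c4c44c51181194d34d24d14d04c64c71141154c34c245f45e4bb4ba11111049e49f1371364ac4ad10c10d4a94a84a44a51081094a04a110610749949849549410510412312248848910010148148010a10b47947847747646c46d0fc0fd46946811711646146011311245c45d0f80f94554544474464514500f40f544b44a0f70f644144013c13d4274263713700f00f10e80e90e30e236f36e3633621351344384390da0db4354340d90d81ba1bb0d40d542b42a0d30d20ed0ec35d35c4204210ce0cf41c41d0cc0cd4174164124130c80c940b40a40740616c16d1e31e23ff3fe34f34e1e81e934d34c3ef3ee0b60b72cb2ca3e83e90b20b316e16f3c93c83c73c63e13e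03c33c23d33d20b50b43cd3cc0b10b00af0ae3923930a80a930d30c2092083b33b23093083af3ae39a39b3a93a83963973943950a20a32fb2fa3913902f72f62f52f437d37c09e09f37937809d09c35e35f0eb0ea36c36d09809936736636436509409533233336036109009135935835535408f08e0c30c234b34a34634708808933f33e0960973373360920931d51d41eb1ea32b32a31a31b3183190820830ab0aa3113100a70a60a50a42fd2fc0a10a02f12f02ec2ed07c07d2e52e42e12e02cd2cc2dd2dc07607707f07e2d32d207b07a0790782c12c022322207307229e29f2642652122132a92a82a42a506a06b2a02a106806929929829529406706624e24f28928828728627c27d05e05f27927823a23b27127023623726826905a05b26126024724625b25a25725625025105605724b24a05905823f23e05c05d23323222622722b22a05205321d21c04f04e20020119619721b21a05105004b04a21821904404506e06f06306220f20e20a20b04004120720620220303c03d1fb1fa1f71f603f03e1f11f003b03a03903817e17f03203304804904604706c06d0420431dd1dc1c81c91d71d61c41c51c21c302c02d1621631bf1be15e15f15c15d1ab1aa15815919f19e19a19b02602719319217517418d18c17117018718618018102002102902817917802502402302216516402a02b14614715315214214314014114914801c01d13a13b01a01b0df0de0bb0ba12f12e12b12a1241250160170dc0dd01901811b11a0fb0fa10f10e0fe0ff1031020120130f30f20e60e70ee0ef00e00f0e40e50bf0be0bd0bc0e10e00b90b80d70d60ca0cb0d10d00c60c70c40c50080090110100c10c000d00c00b00a0ad0ac08108008a08b09b09a08608708408508d08c00400507507407107006006106506400200305505403403504d04c03003102e02f03703600000101f01e015014007006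
  | 3 => 0x82c82d82f82e81981880b80a7c47c579d79c82a82b78878978678781a81b77e77f81c81d77c77d80480577477584884975575475175074d74c8518508268277787797027036f36f26c26c36b66b77977966fd6fc7c37c27a17a069a69b69669786c86d86f86e8638627d67d78478466eb6ea7ba7bb7e97e868068185985885d85c86a86b6586597f67f766d66c66966864764676476586886963e63f7e07e185585463863963663776f76e77377262962865165081581462762665a65b64564464864961861973a73b8208217de7df75b75a73f73e8078067e77e65d65d75cb5ca5c35c28298285b85b95a95a866466559e59f62262359659776376258a58b86786683683758458576076164c64d82382257f57e63263357457561c61d61a61b76a76b61661778278355255354554478178053d53c83483553253386486578c78d52c52d83a83b5115105025034fc4fd52352279b79a4ec4ed86186085f85e6bf6be7ab7aa7a47a585b85a85785669d69c8458444d04d18538527fc7fd4cd4cc7fe7ff6e96e87af7ae72b72a74e74f80d80c7c87c97bf7be6076064b34b27e47e56df6de5fd5fc84e84f5ee5ef84c84d76776684a84b6106117157145de5df7077065d45d54844857e27e36cd6cc7eb7ea4824836ba6bb47e47f6a06a14a64a74a44a54a24a376876947547447347254854948a48b4674664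d34d246246345e45f57157045d45c7487496dc6dd51351256f56e54a54b55b55a44a44b7447456cb6ca84384244944844744683883944244344f44e5af5ae44d44c84084143e43f6d66d76c46c582482576c76d60960851a51b5175164284297587597137126056046036026ef6ee49c49d50a50b50650741341273c73d7047055d15d05cf5ce6ed6ec83f83e66e66f7847853fe3ff7377366b06b183d83c3fb3fa6406416b96b851d51c43743651e51f43143042f42e43243357d57c7337323e03e177a77b8338323da3db8318303de3df3dc3dd4eb4ea5be5bf5bb5ba5955944154145cd5cc59c59d4f74f681f81e3c53c43c33c24034025ab5aa3b83b93f73f63f53f43f33f26c16c08128133b23b381081165e65f7d17d03a83a96256246676663a53a47f37f28178163a33a23a13a039f39e7f87f94c34c27bd7bc4bd4bc7ef7ee80e80f7f07f13943956b36b28098085e75e639039180380280180038b38a7b77b638e38f3883894cf4ce38c38d7fa7fb7f47f56606617cd7cc37e37f4694687b37b27b17b07ed7ec7ad7ac52852956356274b74a43843941c41d36d36c6e66e775e75f6da6db6d86d95f95f83613607567573663676006013583594ae4af5ea5eb3543557537525b25b35f35f23f13f063c63d5e25e35e55e455f55e74774643443540640733e33f7dd7dc74374233d33c6c86c96c66c76866877d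a7db3323333383394084097d87d932632768f68e4c44c568c68d7d57d43233223213205ed5ec3523536f66f734e34f6786797d27d33103114bb4ba30c30d4c74c67cf7ce68568430b30a3af3ae7cb7ca68a68b2fe2ff39b39a3993983973967c77c639339230e30f7c17c03133124c84c97b87b96a26a32f42f52f92f82f72f67b57b437d37c71871970e70f2ed2ec56956856a56b42b42a42c42d6126132f02f15e05e153153070a70b2d22d35555545565577a97a84164174e34e22cf2ce70d70c7257244e64e77a67a72c22c32d02d12d52d47a27a34ef4ee2b82b92bd2bc2bb2ba79f79e55c55d3413407997982b12b061561443a43b37137078e78f3423436ab6aa6ae6af6e56e42a12a06e26e329c29d7107117947952982994514506d36d22942956d16d04fa4fb7937922932924e14e079179050550428c28d6826833573562a62a72a22a353a53b78b78a69069128328254754629629754e54f4fe4ff40040127c27d28e28f40c40d28a28b27827971e71f77777662c62d7707712722735815805a05a15bd5bc64e64f26c26d26f26e64a64b5a45a537837926926841841975c75d2642655f55f442442526226335c35d73173072f72e72d72c3763772562576d56d42e72e645845932b32a34634748c48d25025146d46c49349272372234a34b24a24b74174073973840e40f73573424924824724625b25a349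34872872972672724024125325248e48f24f24e61e61f72072123a23b71d71c27027171b71a71671723223349949836936842342223423550c50d6f86f96f46f57097087007016fe6ff2262276fb6fa22a22b6f16f021921852752660f60e6ac6ad5dd5dc6a56a46a86a96a66a75655645665676e16e02032024ad4ac45445536436536236360d60c1f61f74b54b45515506886896ce6cf1f01f14814804d94d83363375c55c45db5da1ed1ec67a67b4df4de6bd6bc3c83c96b46b51e21e36746756726736706715e85e92a52a420c20d20820920b20a3083091d31d228428569f69e6956946936926996981d11d01cf1ce1cd1cc3253241f41f51f21f33343351ee1ef3fd3fc31931867e67f67c67d1c21c31e81e91e61e71e41e56776761e01e11be1bf66b66a1b91b85985991bc1bd1b61b76636621ba1bb65c65d6566576546556526531ac1ad59059158e58f58c58d64364258858963b63a63163062b62a63463562f62e1a21a31a91a81a71a61a51a462162057257319e19f4b94b84a14a019b19a2dc2dd52452520f20e60a60b1921934564575fb5fa42142041f41e5fe5ff1861874a94a81951945f75f64f44f55f15f05b15b034c34d5ad5ac35135048948847647749549417817952152052e52f5d95d85d25d31741755c75c640b40a3cd3cc5c95c817317217c17d17a17b4964971761775c15c03d23d35b65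b75b45b51661671831821811803c63c717f17e2372365825835a75a65875865a35a259a59b3e73e615c15d16316216116015f15e5935921aa1ab23d23c57857957657757b57a15815956156029a29b56c56d1521532e42e549a49b2e92e821d21c2072061541553733722d82d92db2da22322253e53f55955854154054c54d28628714014114714614514414314254354214814922922853653753453553953813c13d24c24d13b13a52a52b1361372152141341351961974f34f23ee3ef4f14f051851912a12b5155142ef2ee50f50e4e54e45095085005011241254db4da4f94f84d74d612f12e2cd2cc3e33e24e84e911c11d1271264dd4dc1231224d54d41161171191184cb4ca4614604be4bf4c14c01121134b64b710e10f4b14b04ab4aa1ff1fe10d10c10b10a47847911011149f49e15015146e46f49149046a46b2b52b448748647c47d47a47b0fe0ff1011004714701021032fa2fb4654640fa0fb31431545345245b45a19019118a18b0f90f84414402be2bf4454440f20f32d62d70ef0ee2122132e22e318f18e43c43d0e00e12ac2ad21f21e0e20e336e36f3ed3ec3e83e93eb3ea2e02e10f10f04264270d00d12602610e90e818d18c19d19c41b41a3d13d03cf3ce4114103cb3ca4044050c40c53bf3be3bd3bc3bb3ba3f93f83b73b60bb0ba0d70d60be0bf0b80b91711700bc0bd3e43e53d83d93d63d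73d43d50ae0af0cb0ca0c90c80c70c63c13c00c30c23b53b43ad3ac3a73a63b03b13ab3aa0a40a50ab0aa0a90a80a70a639d39c2fd2fc3843853823833803813873860a00a137b37a1f81f937437509a09b2a92a835a35b36b36a23123021a21b1fa1fb22f22e09c09d35f35e09809931c31d31a31b31631732f32e32d32c34534432932833b33a3303311d61d708408508b08a08908808708631f31e08c08d3043053023033003013073060800812f32f21291282df2de2eb2ea2552540e60e70dc0dd07d07c2c12c02c82c92c62c72c42c52cb2ca0740752b72b62b22b30700712af2ae2ab2aa06f06e06d06c28828907207329f29e15615727e27f29129027a27b06006106306228128006406527427527727605c05d26b26a25925826726625e25f25c25d05805905b05a07b07a23f23e24224324524405405523923822c22d09709605205322522420420522022104c04d0df0de1fc1fd14f14e0940952112102172160ea0eb14d14c0450440430421dc1dd05005104e04f20120004a04b09e09f1c81c91c61c71c41c51eb1ea1c01c10920931db1da1d51d41de1df1d91d802e02f0350340330320310301cb1ca0360371b21b31b01b11ae1af1b51b402a02b1a11a00cd0cc1891881991981851840f60f70e50e40c10c002702602502416516416c16d16a16b16816916f16e01e01f15b15a06606714a14b10410504904801c01d13f13e12d12c13913813213313013101801901b01a07f07e11b11a11e11f1211200140151151141061071091080120130fd0fc0f50f40d50d40d30d20ed0ec0cf0ce0780790230220da0db0d80d900a00b01101000f00e00d00c0290280ad0ac0b40b50b20b30b00b10b70b60060070a30a203803909009108e08f04604700400508308207707606806906b06a00200305f05e05705603e03f03c03d03a03b04104000000102d02c021020017016009008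
  | 4 => 0x83883984184080c80d85d85c8098087dd7dc84384284b84a83d83c86886984d84c7817807e67e783e83f82982883a83b7a37a285a85b86086173673772672782582486286386c86d85585485e85f85185086f86e80f80e6a46a57d57d46ff6fe6af6ae7847856ab6aa85285368c68d8448457ee7ef6876867da7db8078066b26b378d78c77277366666766b66a64e64f83683786b86a64164086686781c81d63c63d77477577677764c64d65265363063176376262262362a62b63363261f61e82382276b76a7797786166178578567957947937927a57a47ab7aa86486581f81e5d25d363863983283371f71e5a75a666566465e65f5a35a259959864264358858958f58e76f76e58658758458559059161b61a77177057a57b5a85a95785795725735cd5cc7de7df76676754d54c7e07e184e84f73473553853952f52e7647657387396bb6ba7e47e57e27e373073172d72c81881972e72f4ef4ee6bd6bc82d82c77d77c8588594e24e37827834d44d57ea7eb8018008038028178167b67b77c07c14c94c87ec7ed6ac6ad7a97a879b79a7f87f94ba4bb6e16e060d60c5195184b84b956856953753655555454e54f53e53f53b53a7177164a14a07097084944956cf6ce5da5db5085094894886eb6ea7997988498487a17a047a47b79179078b78a78e78f47647747d47c8478464794786f96f86a66a77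d27d34644656a96a86d96d874a74b6da6db45d45c4594585f95f85ec5ed5ea5eb7467476c86c944a44b51e51f4f14f08308316be6bf44444572272344044149749651d51c4f24f34b64b748748673a73b5765775fb5fa5fd5fc60160075e75f60f60e6106117157147187194244254224235ee5ef5f35f27427435dc5dd5df5de70770653153040f40e5e75e65e95e86fd6fc7867877967974004013fe3ff67d67c81b81a3f53f482e82f76976882a82b71a71b7217208358346696683e93e85c95c83e73e65b45b54ea4eb3ee3ef3dc3dd4e84e93d43d53ec3ed8278263ea3eb4d74d68208216456443ce3cf3cc3cd4054046b46b56756743bf3be3f93f867a67b4df4de3d03d13b63b73b43b58128136a26a38158147ce7cf4bf4be6356347cd7cc3ac3ad4cd4cc39e39f3a63a73b13b07fd7fc3af3ae8118107ff7fe4c14c039b39a3993986846857c77c680a80b3923938058044d04d17d77d63903916606617f27f37fb7fa3a83a93ab3aa7f57f43803813853843833827f77f63863877f07f14d34d27b87b937c37d7e97e837a37b3753746dd6dc6de6df75c75d42842936a36b36d36c3763773703716e26e356c56d6e46e56e66e770e70f51551450e50f6d06d15585596d36d270d70c70b70a6c06c16c26c354a54b5b25b33443456ca6cb6cd6cc74174041241334034133e33f7d97d83473463433427ac7ad33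533469e69f4c44c54f74f632932833b33a32e32f32c32d47347232032133133069b69a5e35e248a48b31a31b32b32a3163177b37b27d07d130f30e7ca7cb3123133103114684693963977c87c93003013053043063077bb7ba7c27c33023032fc2fd7c57c47bf7be7bd7bc4604612f62f72f92f84c24c37b57b47b17b06e96e82f22f37af7ae5245255165175ff5fe51b51a7577562ed2ec2e92e842142041f41e40a40b5205215075065f15f050a50b7527532d42d52d22d37517507a67a75e55e42c42c52c92c82c72c62ca2cb4fd4fc74f74e2bd2bc74c74d79f79e7547555235222b62b76c66c779c79d2b42b543d43c36f36e2b32b257157053453555d55c7037026f26f356a56b75a75b56f56e5f65f749f49e2a12a05f55f429d29c55755673f73e55a55b2962972942954fe4ff50150054054128f28e40d40c5c45c528a28b6f16f07007017887892862876996986936922892884db4da77f77e27f27e6726732902914e44e527a27b68868977b77a61c61d63b63a27527465a65b27627776c76d2702715c75c657d57c64a64b66266326a26b7617607597586ef6ee26626742642741b41a29e29f2692682e72e62e52e42d02d12cd2cc2bb2ba74874951251345a45b2582592562576f46f574574425325248e48f49149024e24f5b15b073c73d6ec6ed41041124c24d24a24b43243372872973373272472572b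72a2432425ba5bb24424546b46a23e23f46e46f59d59c23d23c71d71c23823958358223623771271349d49c71071123423523223335a35b35835935335234e34f7057042292282a52a46fb6fa2242256f76f622222352a52b21e21f37937834934834b34a47f47e3143152fb2fa35c35d36136060b60a4b34b26d76d66d56d45625635605612032024b04b11ff1fe3553543573565d95d84854846c46c54f84f955f55e1f21f31f01f167e67f3503516b96b86b76b62c12c01e71e667667734d34c6b06b131c31d1e01e169769668f68e68b68a6a06a169c69d1da1db1d81d91d61d72832826956941cc1cd1d41d51df1de6916901dd1dc6716706836826816803bb3ba1c41c51c91c81c71c63bd3bc1ea1eb6786793c23c33ca3cb1c01c166f66e66d66c1be1bf65465565065165d65c62c62d62f62e6576561ae1af1b31b21b11b06596581b41b564864964664759b59a1aa1ab63f63e6376361a41a51a91a81a71a626e26f6216206266276246256296281a01a161961861561443843960560461261319819960360252852960660760960819419519219319b19a19719642a42b2eb2ea42d42c45345245145041441541641744e44f40340244d44c3f63f74344354364375d05d15e15e05ce5cf5d75d65d55d41771765c05c117a17b1781795ca5cb1701715b65b75bf5be5bd5bc5ac5ad5c25c316816916d16c16b1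6a5b95b816e16f3f33f25af5ae1641655ab5aa4314305a15a059f59e5a45a515e15f16116027927859359259459558d58c59759615a15b58b58a42e42f57e57f5815801581595755742a82a92aa2ab56656735e35f5645654aa4ab4a84a91541551521531fc1fd1fa1fb1ef1ee1e41e52a72a65535525515504a74a61451444a44a554354254654754454554954813e13f3fc3fd2a22a353c53d4a24a313c13d53353252d52c5265272212202162171381392ef2ee2f12f02d62d74464472bf2be5105114af4ae50c50d12c12d12a12b5055045035021271264dd4dc4fa4fb1221234f54f44e64e74ed4ec11f11e3de3df1201214e04e111a11b4d94d83083094cb4ca4ce4cf1141154c74c63893881121134bd4bc4ac4ad4b54b420120011011110e10f15015114d14c14314249b49a49949810710649249310210348d48c48348248148010110020b20a4714704744750fc0fd46d46c4664670fa0fb46346245f45e4574564554540f90f81311301851841801814484490f20f344344243f43e2b02b143b43a0e80e90f10f00ef0ee2af2ae0eb0ea13b13a19d19c19f19e17c17d24624716316218718618918841c41d2642654184192df2de2dd2dc0d20d30d00d11821834094084074062da2db0c90c83c13c017f17e3fa3fb2d92d80c20c33f13f03d63d73d23d33e53e43e33e23e13e03d93d80b00b10b50b40b30b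23db3da0b60b73c63c73c43c53c93c80ac0ad3b93b83b33b20a60a70ab0aa0a90a811811939d39c3a23a33a03a13a53a40a20a339539438c38d38a38b38f38e0a00a137f37e20e20f21021136436537337236236336936836736609909809c09d09a09b09209320420520620722c22d1f51f422b22a1e81e920d20c33933833733633c33d08608708908833333231f31e32432532232332732608208331931820820930a30b30d30c0800812ff2fe2f52f41331322e32e22e12e025f25e07d07c25c25d0cf0ce0c60c712e12f2ce2cf25a25b0740752c32c22b92b82122132ad2ac0ec0ed07207315615722e22f14714629b29a29929806906829229306406528d28c28128028428505e05f27d27c1b71b605c05d27327226d26c26326226126005b05a0d90d807b07a25425505605725125024824905405524124023b23a23023105205308e08f22722621a21b21821913713621421521d21c04b04a05005104e04f04c04d07007104204309e09f10a10b08b08a0900911f91f81f71f614a14b03d03c08d08c1ec1ed1491480360371e31e206c06d0300310350340330320620631cb1ca1d01d11ce1cf1d31d202c02d1c31c21ba1bb1b81b91bd1bc02a02b1ad1ac1a31a20db0da18f18e18d18c19019102402502702618b18a0d50d40f50f40ca0cb0d60d717217317517401e01f16716615d15c06a06b14e14f10810901c01d03a03b1411401351340df0de01b01a0c10c007f07e1281290160171251240b90b801401511d11c11711610c10d0120131051040ff0fe0f70f60e50e40e30e20e10e00e60e700c00d01101000f00e0dd0dc0290280210200cc0cd0770760080090c50c40bc0bd0ba0bb0bf0be0060070af0ae0a50a404004109409509709600400503e03f08508407907806e06f00200306706606106005905804604704404504904800000103903802f02e02302201901800b00a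
  | 5 => 0x83183082a82b8448457e87e97d87d985c85d82e82f85085178b78a86586485585485685785985885a85b8348358618607e77e673173072c72d78878973273386b86a7017006f06f179079172572478f78e6fa6fb7cb7ca85385269f69e86e86f86386269669786d86c68f68e6a16a06ad6ac7b97b880b80a80980877d77c79d79c77877965c65d7fa7fb76f76e71e71f77b77a76876982082181e81f76776677f77e72972871a71b66c66d62c62d81581462762662862965065165765664264361861964964873973886986884e84f5fc5fd5ef5ee74e74f7547556166175d25d38678665be5bf5c15c076c76d77677772072162162083683764b64a7607615c25c359759671c71d58b58a59559457f57e82282365465561d61c5745755725735a05a15d75d655255378378263c63d53d53c78078177577473773681a81b52c52d78d78c52252356e56f55a55b83f83e83a83b79879985e85f8498484ec4ed4e64e77a87a97a37a280480581c81d80e80f8198187d17d07a07a14cf4ce4ca4cb8128137d37d24c64c780d80c80680772a72b4bc4bd7c77c675c75d75f75e7567576dc6dd75b75a7df7de73f73e4a74a67e17e04a24a36d66d75635626c56c455e55f7417407427437527536cb6ca4824837ea7eb79e79f47d47c84784684c84d47847984b84a76576480280347047183c83d5e85e97cf7ce8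118107c17c08018007167177197186136126de6df6086095115105045055025035315305e05e16cc6cd4494488428434444454424438398385005016b86b94f84f943e43f8418406116105de5df4364375a85a951351251751651b51a60460571371275975842842942442574b74a4b44b550650750b50a5d05d170570473c73d41341240f40e7467474fd4fc4ff4fe5475465435425335326f76f654854946c46d5bc5bd5af5ae4f04f18248254f24f35a75a663b63a3ec3ed57a57b8268278328336476463e03e13e43e582d82c3d93d83d73d63e33e28288293d23d364d64c4e54e45c65c759b59a67867963e63f6776763c03c14da4db68368267e67f4d74d63c73c63b63b74e14e07ff7fe4654644d34d26636624d14d06666675985993a83a98178163a33a23a43a57f27f37b77b639c39d7f57f44c84c968a68b7c87c97ec7ed69c69d3943957f17f04c54c46816807a77a66a66a747547445f45e4c04c13a03a14be4bf3873867fd7fc3833827f77f67f87f93af3ae37e37f7cc7cd4bb4ba7b47b537c37d7ef7ee7dd7dc4224237147156ee6ef5245253763773743757117104b34b26e16e04ad4ac5fe5ff6016007e57e44b14b036136035f35e35d35c5f15f05f25f37e27e335635735435572372254454535135034c34d7077066ed6ec5205213473463453447ac7ad4844857db7da6cf6ce48048133833933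d33c33b33a68768632a32b7c57c47d47d57d77d66b36b232532432632739239331e31f4f54f431d31c6b06b13163174f64f76e96e86a86a94684694d44d57af7ae46646730b30a6846856616607c27c37bc7bd3983994614602fe2ff2fc2fd7be7bf3233223033024634622f92f84c24c37ba7bb2f42f56a36a23123132f22f37b37b27b17b045d45c79579456b56a56c56d2ed2ec51851951551474874945a45b74574444b44a7937925575565585592d22d37ab7aa5085092cf2ce4e24e34fb4fa6b76b66be6bf5e75e66bc6bd2c72c62bd2bc7a47a52b82b94ee4ef2d42d52b62b76ba6bb70870932c32d79b79a4574564554544ab4aa60f60e7977965dd5dc2a72a62a22a36e26e35675666e46e55645656e66e770e70f50d50c50e50f6d06d15515506d36d270d70c70b70a6f96f86c06c16c26c354a54b6f56f45ab5aa5b25b36ab6aa6af6ae53953878778628528428028178578468868954d54c66e66f27c27d40140067b67a3cf3ce6746755a35a266866966466577277327227377177064f64e76b76a64064158158063563463163076376261e61f4b74b64b84b96d56d46066075fa5fb4a94a86026035265274ae4af75075125a25b74d74c41d41c41b41a4194182de2df2dc2dd4084094064072db2da2c12c03fb3fa2d82d93f03f14864874894885d55d473b73a5cf5ce24924873473524424572f72e2b5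2b46386392402417277264044056b56b43f83f95a55a459f59e66a66b58458559059163663757057156156037237352a52b52852929a29b29829929329228c28d55c55d7027032262276ff6fe6fd6fc2912906f36f22ab2aa2622633703716eb6ea34334220d20c31131039139029c29d2a12a06db6da3653646d96d86156142032021ff1fe4a04a149e49f49c49d2952942972966c86c93373366c66c71f21f31f01f149749649549446f46e28e28f4dc4dd2c22c31e71e648e48f46b46a28b28a3183191e01e148b48a2892886a56a43b53b41dd1dc30730669969869069169b69a1d11d01cf1ce1d21d36946956926931ca1cb68d68c27e27f4d84d93313301c71c63bd3bc6726733b93b81c21c367d67c27b27a3c83c91c01c13c43c56716703ea3eb23a23b2762776246252742751b51b465f65e1b11b065965865a65b6336321ac1ad6536522712705935921aa1ab6456445b75b642e42f26e26f1a71a626c26d1a21a362e62f26b26a62a62b1a01a162362261b61a26626726926860d60c60b60a4594584394382a92a819b19a1991982b12b02642654264272602615f85f95f65f75f45f51881891861875ed5ec5eb5ea1831825e45e517e17f5e35e224b24a24d24c5da5db5d85d943443517a17b1781795ca5cb5c85c95cd5cc4104111731721741753cc3cd24224352f52e5c55c416b16a5b95b85ba5bb5885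891661675b55b45b05b11641653f53f45ad5ac23c23d57957843043116116027927859c59d15c15d3e63e723923858658715a15b58f58e58d58c23723658258315815957d57c5775762332322352345685692e82e92eb2ea1541551521532b22b329f29e49b49a49949849249348d48c22822953753655555414514454e54f14014128728622522454054113e13f3ff3fe49049122322253e53f13c13d53b53a5355344764772e32e236836923023125e25f43c43d36e36f51e51f12e12f51d51c42a42b2e02e142d42c45345245145041441541641744e44f44044140340244d44c3f63f73ee3ef2ca2cb4ea4eb11c11d4e94e83d13d04df4de3be3bf30c30d3b13b03ad3ac4cd4cc39a39b38f38e38b38a38438537837937b37a36736643b43a3633622ad2ac1081094a54a41f81f91f61f714b14a1ed1ec1481491e21e334834934a34b47e47f0fe0ff47b47a32f32e4734721eb1ea3153143b33b23043052fa2fb2ee2ef2f02f12af2ae0f60f71291281241252d72d64474462c82c92be2bf18f18e21121013b13a0ee0ef13513413213310d10c0e20e321e21f1971964324330d60d71be1bf12b12a12d12c42042118c18d41e41f0d20d30d00d125925825725612612740d40c40b40a0c90c825225323e23f1231223fc3fd0c20c324f24e3f33f21201213e83e911e11f0b70b616e16f0b30b23db3da3de3df3dc3d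d0ae0af3d53d411b11a3ca3cb0ac0ad3c33c23bb3ba2092081181190a90a81161170a40a53aa3ab1151143a63a70a20a339f39e39739611311238c38d0a00a138938838138010f10e11111036c36d36a36b20e20f09c09d09a09b13613722022120120009609735b35a35935809109035235308c08d34f34e10010134134033f33e0890883333323343350840851d71d60fd0fc32832908208332132031b31a0fb0fa30e30f0800813093083013002f72f60f80f92e72e62e52e407d07c1391380780792542552512500f30f22d02d10740752cd2cc2c52c42bb2ba21c21d14e14f19119021821921721606a06b2a52a420420520620722c22d1f51f422b22a1e81e91df1de1db1da2832821c81c91bd1bc1b91b81b21b31a81a919c19d19e19f21421505805925d25c0cd0cc0760770c40c517d17c24724616c16d16216315715622f22e06606714614707307221b21a0940950da0db04e04f07007104d04c21321206e06f0450440480490eb0ea04004120b20a0680691fd1fc1fb1fa03d03c1061070650641ee1ef0360371031021e51e404604706206303303206006102e02f1d81d905f05e1d41d502c02d1cd1cc1c51c405d05c1ba1bb02a02b1b71b61af1ae1a51a405a05b19519419319202702618b18a0ed0ec02202318418502002118118005505417617701e01f17117016916815f15e05305215015101c01d14d14c1051041431420f00f10e70e60e10e00180191311300d50d40f50f40ca0cb0bf0be0bb0ba0b40b50aa0ab09f09e10b10a03803908a08b07e07f01a01b0e90e80e40e500f00e0dd0dc0c10c00de0df00a00b0d90d80170160ce0cf0080090570560c70c60150140bc0bd0060070b90b80b10b00a70a601301209809900400509309208f08e08708607b07a05105006d06c03e03f03403502802900300204a04b00000104304203b03a03103002502401001100d00c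
  | 6 => 0x82f82e82d82c80a80b8198187d47d579879983183081d81c85585478c78d78a78b78878984884985e85f82682777d77c79e79f72e72f8068078578567757748218206fe6ff78578483c83d83f83e7827836af6ae7c67c76a06a180980886286386e86f86c86d69669768c68d8538526866876a26a384484569e69f86086179a79b86886965a65b7f87f966566464864964264364064186b86a83283384b84a78778672672764d64c77677777177062662781581465065162962865965877a77b66866971e71f6166177787797377367567575f45f574d74c6ba6bb7387395c85c95c05c15ba5bb86786676b76a66d66c66a66b59859976076165e65f8378365b95b858a58b63a63b59759663663757c57d57a57b65365261a61b5725735755745a95a873b73a79679778f78e54254353a53b53853973373284f84e52c52d81b81a8658647ab7aa56856950e50f7247257a87a985d85c85b85a85985880480584084183b83a4ef4ee4ed4ec8508517f17f07e97e87ff7fe8468474cc4cd7fc7fd4d04d14c64c77d27d34c44c572d72c6b26b36676667cb7ca4b24b36076065fd5fc4ac4ad7e57e45325334a84a94a44a54a24a37e07e152452561361249d49c4994985fb5fa4b04b14ae4af6146157ac7ad7dd7dc7e67e747a47b7a07a147847984d84c7667675bd5bc4704718038027917906f66f74644657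ed7ec6a76a668a68b45c45d5715705625636d96d86c96c856d56c6f46f545045145b45a45945845545444644744444584384251c51d4f04f144044172372270d70c6be6bf4e64e74384394b54b45cd5cc5a05a16ce6cf51851942b42a42642742442560360242042171271360e60f5de5df42c42d5145156e76e652852942242371071141e41f4184196b76b64004016f36f263c63d7df7de5e85e96c26c33f83f97657643f03f18388395c65c73ee3ef3ea3eb71c71d3e83e982382283583481f81e64464563e63f3de3df82b82a3db3da3d43d54e94e83d23d382982871b71a3ce3cf8258243e73e64d64d73e13e03c03c16766773be3bf67567467d67c6786793b63b73c63c74de4df7d07d17cf7ce7ef7ee7627638128134bc4bd6206217c97c83a23a38178167f27f33a53a439c39d7b67b77f77f639a39b8008013a83a981181039439569d69c80f80e80d80c69b69a6bd6bc7c17c04724737bd7bc38638739f39e3843854c04c14ca4cb3803817f47f57fb7fa37e37f3ae3af6616604d44d537c37d7b57b44d24d37eb7ea73d73c7487493703716d76d636c36d41c41d41341275c75d3643656dc6dd3603615f95f875a75b7427435fe5ff5f35f27e37e25f65f735f35e35d35c4964973593586b96b83ff3fe34e34f5ac5ad3723736d56d436e36f41a41b36a36b48348236636733a33b5135123623636ea6eb33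23337db7da6ad6ac4f44f53263277d97d832432572a72b7d77d67c47c531e31f39339232a32b31a31b48b48a5e35e23f63f77ae7af3b53b430c30d4ba4bb6e96e83b33b23083093063077cd7cc7be7bf45f45e3973964c34c22fc2fd2ff2fe7c37c23203213003013913902f62f74614602f42f57bb7ba7b97b82f22f33133127b07b17b37b27167172ec2ed70e70f51151079579451651750b50a7157145315302dc2dd2f12f050c50d2eb2ea2e92e82e52e45235222e12e02cc2cd2ca2cb44c44d4fc4fd43f43e2c22c37a77a62c42c52ba2bb2b82b97a57a47a37a22b62b72d52d47557545605612b42b579d79c5265276cd6cc52b52a74b74a5525532a82a92a42a56fd6fc2a02a16e56e45675666d16d05d05d156a56b79379255b55a56456529f29e29d29c4f94f82992982902914dc4dd54954828c28d50450528a28b5c55c42882896fb6fa78078177e77f2822836906916f16f04d84d928628727c27d66f66e4ff4fe27a27b4e54e468368261f61e61961876f76e27227377377262d62c27027176d76c76976859059162f62e26a26b6636625a35a22682693783796ec6ed75f75e74174073f73e75975845645775375225a25b75175074f74e3743753473467467474524537447455ed5ec25625725025148d48c24e24f4904915ae5af37a37b2672662652645d65d726126024624724424573573473173032c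32d24024163963872972823e23f46a46b46d46c27827923a23b72172042f42e5805815945957197187087097067074ab4aa70470549b49a70b70a22a22b54b54a2322332262277037027017002a32a26f96f85465472b32b22b12b06ef6ee33833920e20f20a20b2082094624636d36d26e26e32022036e16e06df6de6cb6ca6db6da6c76c660b60a5db5da6c56c42072061f21f36086092012001ff1fe2962971fb1fa3563571f71f61ea1eb1e81e96c16c05e65e71e41e51e21e36b56b45ab5aa1e01e13193186b16b06ab6aa1dc1dd6a96a86a56a46846851d01d12812806806816996981cc1cd6946951d31d21ca1cb69369268f68e1c81c96896881d61d71c41c53ba3bb6716701c21c33b83b967f67e67b67a1c01c13c93c83c33c26736725a65a759e59f1b41b56236221b21b327627764b64a1ae1af65665765d65c1ac1ad63263365565464f64e1aa1ab5925936476465b45b55845851a81a91a41a51a21a326d26c6356346316301a01a162b62a62562461d61c4894884b74b619a19b4a14a05e15e06116105dd5dc60d60c5d95d82632625d55d46056045cf5ce6016005f05f15ee5ef2582595ea5eb40940818618718018117e17f5e55e431731619f19e17a17b49e49f19919819719624c24d1931921741755d35d243743618d18c1701715cb5ca16e16f16c16d4774765b35b21681695c35c25bf5be1661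675895885b75b61641655b15b03f23f334c34d1621635765771be1bf15e15f5a55a415c15d59d59c59b59a23723615a15b58758658c58d58f58e23823915815958358257f57e57957855c55d15415556f56e5585595565572342355545552ab2aa55055129b29a55f55e1481492c02c114614753453515215314214314014154f54e54d54c22322213e13f5415405455442d92d822422513c13d53f53e53d53c53753652f52e43c43d43a43b22f22e25d25c2e22e352152012e12f51f51e44244351b51a5085095065072de2df50250340d40c12a12b1241255015001221234fb4fa4f74f64f34f24e34e211c11d4eb4ea3e23e311a11b4e14e04db4da4694683ab3aa1141154cf4ce4c94c81121133883894bf4be4b94b84864874844853683694804811081092ac2ad4a74a635b35a49549410410510210349349248f48e34134010e10f0fe0ff47f47e47d47c0fc0fd47547446f46e0fa0fb4674662fb2fa3043052e72e644b44a0f60f72ae2af0f40f544f44e0f20f34494482bf2be2c82c921e21f2212201351340e20e313a13b13113010a10b0ef0ee18e18f4354340d60d74334324314304164170d20d342942841041140e40f12c12d40a40b1881894064070ca0cb4154140d00d10c60c70c40c54054044034020c20c33fd3fc3fb3fa3f53f40b60b73ed3ec0b40b51201213cd3cc0b00b13d83d93e53e40ae0a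f3dd3dc3d73d63d13d00ac0ad3cb3ca3c53c43bd3bc3113100aa0ab0a60a70a40a51171163b13b03ad3ac0a20a33a73a63a13a039939838f38e0a00a138d38c38b38a38338234a34b09c09d37737634434534234311011133e33f0960972112103363371371361f91f835535408e08f08c08d35335235135008a08b34934809a09b08608733d33c08408533533433133032f32e08208332932832332231d31c31531408008130f30e30b30a3033022f92f807e07f2ef2ee2d32d207a07b0780791381390760772db2da2d72d60740752d12d02cf2ce2c72c62bd2bc21921814d14c18a18b21c21d06a06b2162172a72a61fd1fc29529406606706406529329228f28e1d91d805e05f28528427f27e05c05d1b61b727527426f26e19519424b24a05805921521425f25e05605725525425325205405524924824324223d23c05205323123022d22c22922804e04f2122130930920d90d807207304804904604721b21a06d06c0420430710700400410ea0eb20d20c03e03f2052041f11f003a03b0380391f51f40360371ef1ee1ed1ec1e71e604c04d03403503003102e02f0610601df1de1db1da02c02d1d51d41cf1ce1c71c61bd1bc02a02b1bb1ba1b91b81b11b01a71a602802919d19c1791780240251911900220230ec0ed02002118518418318217d17c01e01f17717617317216b16a16116015715601c01d15115014f14e14b14a1451440e90e80dc0dd0180190e00e11331320160171291281271260140150b80b911f11e11911801201310d10c1071061011000f90f80100110f10f00c10c000c00d0e70e60e50e400a00b0df0de0db0da0d50d40080090cf0ce0cd0cc0c90c80bf0be0060070bd0bc0bb0ba0b30b20a90a809f09e00400509909809509409109008908807d07c00200306f06e06906806306205b05a05105000000104b04a04504403d03c03303202702601b01a00f00e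
  | _ => 0x85f85e86086185385280880985d85c7d87d984984886d86c86e86f86686785785685585485a85b85885986a86b82a82b7307317e77e684084186286383383283483573773684b84a7807818388396aa6ab83d83c7c07c184584484684778a78b78878978678785185080c80d69a69b6a46a57c67c76806817e87e98048057c57c47757747707717c87c977a77b77677776f76e82982863e63f86986863c63d81d81c78d78c64f64e64664763263364a64b62262376276362062165265361861964364264464573573481f81e84c84d5f45f57527535e65e77507515d25d36176168658647657647267275a65a771f71e61c61d65065171c71d81581482382281a81b58458583783657e57f58e58f58b58a76076177277372072159f59e5a45a559c59d5cb5ca54e54f54c54d7667676c26c37917907797787007015c35c263863972872951e51f50e50f5555547a27a34f24f380280383183082f82e82d82c6bc6bd4e24e383f83e77c77d77f77e8138127a07a18118108188197b77b681781680e80f6a96a868468568f68e7a77a67d67d77f77f67b97b85fa5fb4b04b14ae4af6156144a84a94a64a77e37e27df7de5455446f36f249c49d4984995215205e05e14844855d55d45ee5ef48048147e47f47c47d8428437ea7eb69f69e84f84e6ff6fe6f16f05bf5be7997987d57d46fa6fb5e45e57b57b47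d07d17cb7ca4c84c956156045a45b4584594544556da6db45045144e44f55855955c55d55f55e6c66c76ba6bb79f79e72e72f6b76b672572454a54b48e48f49349274c74d72c72d4b54b44344354324334304316e16e042c42d5145156e66e752952842242371171041e41f41841961161050950841741641041140e40f5cf5ce40a40b7057045dc5dd7a57a44024033fe3ff7857847037023fa3fb6fc6fd6b06b15885896b56b44ef4ee3ec3ed83b83a76c76d57a57b82582463a63b3e03e173273366c66d8278264e84e94ed4ec3d43d54eb4ea3dd3dc7687695b55b45925933d03d13cc3cd76b76a3c43c58218204f74f63f53f466e66f3b83b95aa5ab3b63b73c23c34d64d767b67a69d69c4d44d54d04d15985994d34d26616606626633ae3af4cb4ca39e39f4cc4cd39c39d4ce4cf7f37f27cd7cc8008013983997fb7fa3943957ff7fe7ed7ec7ee7ef39239380b80a8078066a36a279b79a4c34c24bf4be7fd7fc4c04c13823833a13a03873864bd4bc37e37f3a83a97f97f87f57f437c37d7cf7ce4ba4bb7f17f07da7db7587593723736d46d536e36f41b41a36a36b4294283663675125133623635f65f735e35f35c35d75f75e3583596016007e57e43543555eb5ea73f73e3523535f05f13503517e17e072372248a48b7457443423436c56c433e33f40740633c33d7407417dd7dc3363376ca6cb3343357a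c7ad47a47b33033140440579c79d47047172a72b3223233203214724734c44c568c68d5b05b15b35b246d46c46a46b6776763103117d37d27b17b046446530a30b7b27b37af7ae4c74c66676664634622fe2ff68b68a2fc2fd7bd7bc4604617ba7bb6b36b22f82f97c37c230330245f45e7bf7be3903916a76a630e30f3153144664674694682f12f050c50d2ea2eb2e82e92e42e52e02e151b51a2dc2dd7187197067077097082d22d370b70a5035027927932ce2cf5065077ab7aa7a97a86f96f84434422c22c374e74f4e74e62bc2bd2c72c64fd4fc51c51d4f04f12d02d12d72d644844944b44a3283294744752ae2af6de6df2ac2ad2a82a92a62a774674779779653b53a56456529e29f29c29d6e36e260560429829979579456f56e2942956d26d35515502922935565574fa4fb28e28f53c53d5015002db2da67e67f31d31c78f78e5395386ae6af69669769269369969854254327e27f7837824db4da3bd3bc3fd3fc4e04e13cb3ca67167066b66a66466566966865565465965865c65d71b71a59a59b5b75b663663763163063463562862961b61a37a37b2662676ee6ef26426575d75c75b75a26026125e25f75775675575444744643e43f25625737737674b74a2542557497482522533453446f46f54414406f76f644c44d5e35e224a24b34b34a74374224824973d73c73b73a7397385c95c844444532e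32f52d52c5b95b85c15c032b32a5ae5af5ad5ac5725735755745a35a259659758d58c58058123223371771671571423023171371222c22d70f70e70d70c48d48c5305315335324a44a54794785485494904914a34a221621721421520e20f20c20d6ed6ec6eb6ea6e96e82f42f56e56e42072066086092002011fe1ff6dd6dc1fa1fb6d96d81f61f760c60d6d76d66d06d11f41f51f01f16cf6ce6cd6cc1ee1ef6c96c81ec1ed5d85d95c55c46c16c01e61e76bf6be4dc4dd6b96b83163171e01e167c67d28a28b34c34d2862876ad6ac3073061d61d73b43b52812801ce1cf6a16a01cc1cd6906912822831ca1cb28428569569431e31f6896881c61c76876864d84d927d27c1c21c36836826736723183191c01c14de4df27a27b6796786756743e73e627927827527465f65e2762771b01b16256241b51b42732721ac1ad62c62d65b65a6576561aa1ab64d64c27027164964864164057d57c26d26c1a21a326e26f1a61a762a62b1a01a162f62e26a26b62762661f61e4b94b819f19e49e49f19819961361219619760f60e19219360b60a19019160760618c18d6036021861875ff5fe5fd5fc1841855f95f81821835f35f25ed5ec5e95e824e24f3f13f048648717c17d1781794944955df5de1761775db5da5d75d62442451721735d15d05cd5cc2462475c75c647747616a16b46e46f52f52e2412401661675bd5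bc5bb5ba3d33d24f44f523e23f3c13c03f93f85765771601615a95a857957823b23a5a15a01bf1be3ea3eb15a15b58258323823959559459159015815958758623623742f42e23c23d57057115615715215356d56c56b56a15015156956814e14f56756614a14b5635624f84f928d28c53453514414555b55a5375365535522a42a528928813e13f53e53f22422554754629029113c13d5415402222232a32a222822924224313813913613752b52a5275261321335255245235222cd2cc2b82b912a12b51951851751612812951151012612750b50a5055042c12c04ff4fe2d82d93f33f22ca2cb3ef3ee3d73d63db3da3e43e54e54e43c83c93bb3ba3b23b33ad3ac3b03b13a43a539739638b38a38e38f38138010e10f4b74b64b34b210c10d4ad4ac4ab4aa22f22e2262271061074a14a049b49a49749622a22b34f34e10010148948848348233333233b33a2b52b432632731b31a2f32f230c30d3013002f72f60f80f945d45c45745625c25d4534522512502b72b625b25a2c52c42bb2ba0ec0ed0ea0eb0e60e70e40e50e00e143d43c43b43a0de0df0da0db43943843743617117015c15d42a42b0d40d50d00d14274264254240ce0cf4214200cc0cd41d41c4154140c80c941341240d40c4094081651640c20c340140012212317e17f3f73f611f11e16e16f1201210b20b33e93e80b70b611d11c0ae0af3e33e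23df3de3d93d80ac0ad3cf3ce11a11b3c73c63bf3be3083091171160a40a51181190a80a93a63a70a20a33ab3aa1141153a33a239b39a0a00a138938811211338d38c38538437837909e09f09a09b37537437137009809936d36c36936809409536536410a10b09009136136035b35a3573561021031e31e23493480880893473463413400ff0fe33933820a20b1dd1dc08208332d32c0fc0fd3253241ea1eb0800813133120fa0fb2092083053042fb2fa2ef2ee07c07d2ed2ec2e72e62e32e21301312df2de1251240740752d52d40f20f312f12e2c92c82bf2be0700712b32b22b12b006e06f2ab2aa14d14c1401410680692a12a029b29a2972961481491e51e41db1da1de1df1d21d31c51c41b91b81bc1bd1af1ae1a51a405a05b26926826326218b18a0f60f72592580f40f518118024d24c17417516916815f15e23523410910810510414314205005104c04d22122021f21e04a04b21d21c21b21a04404521921821321206c06d21121009309208408520520403c03d2032021fd1fc1f91f80360371f31f206406508c08d1e91e804304206106002e02f0620630320331d41d502c02d1d91d805e05f1d11d01c91c802a02b1b71b605c05d1bb1ba1b31b21a91a819d19c02602719b19a19519405905818f18e0d80d91891880560570c50c401e01f17b17a0540550d70d616d16c16316201c01d15515405205306b06a06706614714601a01b13b13a1351340dd0dc07807912d12c0760770c70c60bb0ba0be0bf0b10b00a70a611111009609708f08e08708607b07a0f10f000e00f0ef0ee0e90e801901800a00b0e30e20c00c10220230080090d30d20160170200210cb0ca0060070b90b80140150bd0bc0b50b40ab0aa00400509d09c01201304104003903808b08a07f07e07307204804903b03a03103002502400000104f04e00200304704603f03e03503402902800d00c011010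

end Cfsg.Agent.H926.QS.SixData
end

-- part: H926/QS/Six
section
/-!
# The six-fold cover of `Ω₇(3)` as a permutation group (helper926)

Eight permutations of 2160 vectors of the spin module together with the eight permutations of degree 1134 of the triple
cover generate a perfect central extension `Six` of `H8 ≅ Ω₇(3)` with kernel cyclic of order six.

* `exists_six` : the map `σ : Six → H8`, `σ (y6 j) = x8 j`, kernel `⟨ω⟩`, `orderOf ω = 6`;
* `comm_six` : `chk2`, `chk3` for two words `X`, `C` : `C X = ω X C` in `Six`.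
-/

set_option autoImplicit false
set_option maxRecDepth 100000

namespace Cfsg.Agent.H926.QS.Cover6

open Cfsg Cfsg.Agent.H926.QS.SixData Cfsg.Agent.H64.O73Perm Cfsg.Agent.H51.Mult
open Cfsg.Agent.Fischer.Derived Cfsg.Agent.Fischer.Y322 Cfsg.Agent.Fischer.Y322Iso
open scoped commutatorElement

/-! ### The permutations of degree 2160 -/

/-- value of a word at a point -/
def ap2 : List ℕ → ℕ → ℕ
  | [], p => p
  | l :: w, p => dg (T2 l) (ap2 w p)

/-- `-1` -/
def sg (p : ℕ) : ℕ := Nat.xor p 1

theorem sg_check : ((List.range 2160).all fun p => Nat.blt (sg p) 2160 && Nat.beq (sg (sg p)) p) = true := by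
  decide +kernel

theorem sg_lt {p : ℕ} (hp : p < 2160) : sg p < 2160 := by
  have h := List.all_eq_true.1 sg_check p (List.mem_range.2 hp)
  rw [Bool.and_eq_true] at h
  exact Nat.le_of_ble_eq_true h.1

theorem sg_sg {p : ℕ} (hp : p < 2160) : sg (sg p) = p := by
  have h := List.all_eq_true.1 sg_check p (List.mem_range.2 hp)
  rw [Bool.and_eq_true] at h
  exact Nat.eq_of_beq_eq_true h.2

/-- the codes of the networks -/
def C2 : ℕ → ℕ
  | 0 => 0xc00c00000000000000000000000000000000c00c00c00c00000000000000c00c00c00c00000000000000000000000000000000000000000000000000000000000000000000000000000000000000000000000000000000000000000000000000000000000000c00c00c00c00c00c00000000000000000000000000000000000000000000000000000000000000000000c00c00000000000000000000c00c00000000c00c00c00c00c00c00c00c00c00c00000000000000000000000000000000000000000000000000000000000000000000000000000000000000000000000000000000000000000000000000000000000000000000000000000000000000000000000000000000000000000000c00c00c00c0000000000000000000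0000000000000c00c00000000000000000000c00c00000000000000000000000000000000000000000000000000000000000000000000000000000000000000000000000000000000000000000000000000000000000000000000000000000000000000000000000000000000000000000000000000000000000000000000000000000000000000000000000000000000000000000000000000000000000000000000000000000000000000000000000000000000000000000000c00c00000000000000000000000000000000000000000000000000000000000000000000000000000000000000000000000000000000000000000000000000c00c00000000000000000000000000000000000000000000000000000000000000000000000000c00c00000000000000000000000000000000000000000000000000000000000000000000000000000000000000000000000000000000000000000000000000c00c00c00c00000000000000000000000000000000000000000000000000000000000000000000000000000000000000000000000000000000000000000000000000000000000000000000000000000000000000000000000000000000000000000000000000000000000000000000000000000000000000000000000000000000000000000000000000000000000000000000000000000000000000000000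0000000000000000000000000000000000000000000000000000000000000000000000000000000000000000000000000000000000000000000000000000000000000000000000000000000000000000000000000000000000000000000000000000000000000000000000000000000000000000000000000000000000000000000000000000000000000000000000000000000000000000000000000000000000000000000000000000000000000000000000000000000000000000000000000000000000000000000000000000000000000000000000000000000000000000000000000000000000000000000000000000000000000000000000000000000000000000000000000000000000000000000000000000000000000000000000000000000000000000000000000000000000000000000000000000000000000000000000000000000000000000000000000000000000000000000000000000000000000000000000000000000000000000000000000000000000000000000000000000000000000000000000000000000000000000000000000000000000000000000000000000000000000000000000000000000000000000000000000000000000000000000000000000000000000000000000000000000000000000000000000000000000000000000000000000000000000000000000000000000000000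0000000000000000000000000000000000000000000000000000000000000000000000000000000000000000000000000000000000000000000000000000000000000000000000000000000000000000000000000000000000000000000000000000000000000000000000000000000000000000000000000000000000000000000000000000000000000000000000000000000000000000000000000000000000000000000000000000000000000000000000000000000000000000000000000000000000000000000000000000000000000000000000000000000000000000000000000000060060000000000000000000000000000000060060060060000000000000060060060060000000000000000000000000000000000000000000000000000000000000000000000000000000000000000000000000000000000000000000000000000000000000060060060060060060000000000000000000000000000000000000000000000000000000000000000000060060000000000000000000060060000000060060060060060060060060060060000000000000000000000000000000000000000000000000000000000000000000000000000000000000000000000000000000000000000000000000000000000000000000000000000000000000000000000000000000000000000000060060060060000000000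000000000000000000000060060000000000000000000060060000000000000000000000000000000000000000000000000000000000000000000000000000000000000000000000000000000000000000000000000000000000000000000000000000000000000000000000000000000000000000000000000000000000000000000000000000000000000000000000000000000000000000000000000000000000000000000000000000000000000000000000000000000000000000000060060000000000000000000000000000000000000000000000000000000000000000000000000000000000000000000000000000000000000000000000000060060000000000000005005000000000000000000000000000000000000000000001801900000060860806006020020000000000a00b200200000000000000000000000000000000000000000000000000000000000000000000028029000000000000000000600600640640000000000000000000000000000000000000000000000000000000000000240240000000000000000000000000000000000000000000000000000000000000000000000000000000000000000000000000000000000000000000000000000000000000000000000000000000000000000000000000000000000000000000300300000000000000000000000000000000300300300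30000000000000030030030030000000000000000000000000000000000000000000000000000000000000000000000000000000000000000000000000000000000000000000000000000000000000030030030030030030000000000000000000000000000000000000000000000000000000000000000000030030000000000000000000030030000000030030030030030030030030036036000000000000000000000000000000000000000000000000000000000000014414400000010010100000000000003003000000000000000000000000000000000000000600701001010410400000002802800000000000011011000c00d24024030030000000000c00c0000000060060100112082080000000000000000003603600000000000000000000000000000000000000000000000000000000000000000000000000000000000000000000000000780780000000300300060060c80c90240240000000000000900900000001801810000000000000820830400400000001e81e81801800a00a00000001001011a01a00000000000000000000000000000000000000000000000000000000180180c00c00a00a000000000a00b0400400000000000002902900000000000000000000060061a01a11841841401400000000500500300300900910000000000000000000000000060070180180140141001000000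0022c22c00000010010101201316816917c17d12012014e14e1d01d10200210000000760760880882442440c00c02002000480480800802002001001000a00a01e01e00b00b10420430540550e00e001001102602604804900000100000005c05c00400414a14a2002002362360d80d90cc0cc10010001201207807913a13a0200210e60e701c01c0640652682690140140d40d409009002002113e13e03003104404408008005005106006002202302002003c03c05c05c00e00e02802805205300400504a04b0000004e84e92e02e16a06a11401405625636fc6fc5c05c06f06f162c62c168168400401c88c893483483e43e56526534204210bc0bce94e958f68f6768768484485cc4cc49509511301303ce3cf6bc6bc1941953683691dc1dd56c56d4964963003014a84a863c63d1a01a02e02e03023037907906f26f27707714de4de2242257e87e915015046c46cc64c64f16f16e40e404de4df2b02b01201211f81f902a02b0280295245251c01c032a32b1c41c52b02b0d00d017567572282295005008008007e27e2a5ca5df60f60d88d88ec6ec6f70f704024022102101a41a511c11c2202202c02c15e25e23683693d83d95a05a00940946486484ae4af62862861061072472548a48b7307310b20b23443453803806086082bc2bd41c41d2a02a078078055855804c04d7ee7ef6086094b04b1920921b26b2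759059114a14b2e42e56826821801818648640d40d502e02e42042193e93e4d44d440a40a1281296146151841851c81c84b04b01441440d40d46586595805804164161281281aa1aa5005014224230c00c12ec2ec1d01d03243255b05b077e77f6e06e102e02e11c11c1881893f83f87e67e67347344c24c34c04c17be7be61c61c6426435f05f00880883f43f57fe7ff1b01b15f25f30480481581581b01b11141145bc5bc7607600000012902906ec6ec64e64f2c82c81621622a82a84ac4ad1f01f082c82d2f42f42062076206211921920540547ca7ca66066115a15a7c07c172a72a0f80f97787781601607707717807807fe7fe320321582582588588536537aa4aa452852860060127e27f3ec3ec6186194a04a13043041901912522527b07b070e70e390390d84d846386392e82e86086081e61e63c03c12a82a977c77c0060066b06b057257238c38d6806806f06f12122123803807f07f16a86a96266276e46e40ac0acf40f40df4df40cc0cc1c61c633833938a38b3c03c03d43d47507503503506b06b11201211501510b60b63fc3fc1441444404417367374044054a04a17107100ec0ed1b41b551a51b0100117aa7aa1a01a13043040700701ae1af19c19d6b86b92002005fa5fa72072054a54b42842827a27b1441455e45e51d01d014c14c4fc4fd59a59b7087094b24b263c63c4a04a032032178e78f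71c71c4184195905917fc7fd50450453e53e4d04d02d62d76d06d05745753083092bc2bd21821918a18a2c02c146a46a32432500c00d3883896a06a05ec5ec33633764064130e30e5205213023027807800d20d258c58c5c85c96a06a04d24d22b82b91c21c30d80d805e05f40c40c4804813d03d176c76d6286285b25b24704705ca5cb30830941841950050005c05d2782792422435d85d92122122582597947953e03e002802811c11d1d81d86306305605613f83f92862861601601041057cc7cd4264263883885a45a42082081b81b937037140040136036010010175875841c41d53c53d46246368068146c46c0400403123133c03c008c08c1d41d460660645045119e19f6606611ac1ad0e00e14d84d85585587ce7ce5605604a04a10c80c90020035a85a96266277447451ca1cb1401400060075145141901900e00e05645641341350c00c000000104c04c0240251521524f04f11a61a65785787b87b831031120620730c30d06a06b3a03a07527527c47c51a41a43003003183194cc4cd7107105d05d009a09b0400416f06f15905912842855c85c945a45a5905905945944c04c02062076c06c07147146a86a817a17b3003004124123d43d45fa5fa2302301a01a02bc2bc48e48e21821944c44d7407416aa6aa2802816126132382383cc3cc0800802402415a45a53663672a02a00b00b066c66c6886884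0040169a69a7487485425432002003ba3bb4404417547540080090b80b917017122a22a1201202d22d20400412822830180186566577bc7bc6086096406406ba6bb0980990340351401415d45d472c72c1001012f02f013a13b3e03e11a41a41c81c80e80e81841850b20b220020019419502c02d6526527987986266277cc7cd4ac4ac65065161c61c6a46a51001001081096386387407400b20b21a01a02822820b80b91221231381393e43e51201213e03e01301313d23d312c12d0640650080081a41a51641642402410000006c26c23443454dc4dd36836867467566866958058066066041c41c28c28d41e41e49049130a30b6c06c17e47e57c07c01fc1fc7fc7fc3a63a63f83f849649749c49d3a83a82702712a22a37dc7dd1da1da15815936c36c6706704ea4eb30030175c75c4d44d52e02e13183180620637a47a44d44d575075167467508c08c7e67e602802874a74a79879979479546046062c62c15c15d1a01a031031107607633433560260348048132e32e1341343fa3fa6d06d071c71d3243247067063803807447453ac3ac7687685c05c160c60c6e46e43863863503510540551b81b82a82a92a82a84a24a20f40f57627637807817f87f91701704484487007002ee2ef6fc6fc7327325e05e01c41c42182191781784604601c21c34c04c10c40c57007007fc7fc3603607787786706707e07e120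c20d14a14a6006011de1de2bc2bd54a54a1a81a93a43a503c03d1061067607603983996586595fe5ff0080084aa4aa05405401c01c5305311be1be3f03f16426425f85f95845843903903b03b14004017f67f60b40b42702710e80e92be2be51051154a54b62062007007130830905e05f2402406ca6cb7147147c47c550050172e72f4c04c07707714c84c92982990d00d14ea4ea10010152652624824919819827027114c14c54c54d42a42b0c00c026a26b6906905d45d53583593803800200205865870d00d13983982b02b01381396306301f21f225c25c6446444604610cc0cd72072060e60f31831848a48a19819850050067067068a68a2502515425425185186ec6ed3383385005004004012a62a61f81f97047055805811b81b912c12d22622660060140440467867940640677077066c66c4404410820822e02e013e13e5f45f515a15b4004005485490a40a442642669069012e12e3e83e858a58b7287286666677207213343345405406c26c32182181181183c83c928028007407529029177077013c13d7347350160171c01c12402413343352b62b66c06c14fe4fe71471574474560060032232232c32d7407401101115b85b818c18c2162162b82b968668764464444244320020145045010010017a17b7907900ea0eb17c17c7127132b02b125c25d7c47c463063148848878e78e43c43c624624120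12075e75e6986995aa5aa7887885325335845844c24c25e05e111611740c40d68068029829902202314c14c3ca3cb3c03c12f22f203003127227201801951c51d4c84c80580587a07a10c40c46946940e00e06e86e836e36f7447446ea6eb4804807bc7bd32432411e11e28828932032161461448e48e2c02c079a79a4bc4bc42c42c7187197ba7bb2242257a07a04004001d01d11e01e027e27e5805813383392442457327321f01f02882891401402f82f96906907cc7cd2ac2ac08608638038011e11f6b86b86a86a81001006346353243243ee3ef3203205dc5dc1841842be2bf4104117ee7ee78c78c4d84d87c07c159a59a2f02f116c16d3083090d40d42e42e454054058058023e23f5145144604605585587c07c16a86a86a26a35c05c06d06d03183183b63b67a87a80b40b562c62d0c00c122022112212240c40d3903901f01f07727733043052e02e03003001de1df0100110bc0bc07807818c18d44c44d4e84e937037121221320420502c02d39839850650640c40c3603602a02a114214243843965c65d6f06f01d41d412c12c5985991001001381390580597e67e76506514c24c26646652802817407406fc6fc57c57c26e26f0b00b07ba7ba10410569469406006024c24c0780795885882f02f15ca5cb7807816ca6cb0000007fa7fa2582592fc2fc0e00e10f00f042c42d2a62a71501512882897c07c16166177787786046054fc4fc4424422802811661676086084584582e82e93963970d40d512a12b3e03e13183183943941301303403416a26a27247256c46c576076172a72b1701715025023783796d66d75285283d03d00b00b02a22a232432525c25c3a83a924824807c07d21a21a0000017067062a82a93c03c15185185a25a27647646b26b24304315945945445450e60e72e82e94a44a47807801021031601610060063783791421423e83e82b02b02e02e11281290900902082090300303e23e322022036a36b30c30d322323000001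
  | 1 => 0xc00c00000000000000000000000000000000000000c00c00c00c00c00c00000000000000000000000000000000000000000000000000000000000000000000c00c00c00c00c00c00000000000000000000000000c00c00000000000000000000000000000000c00c00c00c00000000000000000000000000000000000000000000000000c00c00000000000000000000000000000000000000000000000000000000000000000000000000000000c00c00000000c00c00c00c00c00c00000000c00c00c00c00000000000000c00c00000000000000000000c00c00000000000000000000000000000000000000000000000000000000000000000000000000000000000000000000000000000000000000000000000000000000000000000000000000000000000000000000000000000000c00c00000000c00c00000000000000000000000000000000000000000000c00c00000000000000000000000000000000000000000000000000000000000000000000000000000000000000000000c00c000000000000000000000000000000000000000000000000000000000000000000000000000000000000000000000000000000000000000000000000000000000000000000000000000000000000000000000000000000000000000000000000000000000000000000000000000000000000000000000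00000000000c00c00000000000000000000000000000000000000000000000000c00c00c00c00000000000000000000000000000000000000000000000000000000000000000000000000000000000000000000000000000000000000000000000000000000000000c00c00000000000000000000000000000000000000000000000000000000000000000000c00c00c00c00000000000000c00c00000000000000c00c00000000000000000000c00c0000000000000000000000000000000000000000000000000000000000000000000000000000000000000000000000000000000000000000000000000000000000000000000000000000000000000000000000000000000000000000000000000000000000000000000000000000000000000000000000000000000000000000000000000000000000000000000000000000000000000000000000000000000000000000000000000000000000000000000000000000000000000000000000000000000000000000000000000000000000000000000000000000000000000000000000000000000000000000000000000000000000000000000000000000000000000000000000000000000000000000000000000000000000000000000000000000000000000000000000000000000000000000000000000000000000000000000000000000000000000000000000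0000000000000000000000000000000000000000000000000000000000000000000000000000000000000000000000000000000000000000000000000000000000000000000000000000000000000000000000000000000000000000000000000000000000000000000000000000000000000000000000000000000000000000000000000000000000000000000000000000000000000000000000000000000000000000000000000000000000000000000000000000000000000000000000000000000000000000000000000000000000000000000000000000000000000000000000000000000000000000000000000000000000000000000000000000000000000000000000000000000000000000000000000000000000000000000000000000000000000000000000000000000000000000000000000000000000000000000000000000000000000000000000000000000000000000000000000000000000000000000000000000000000000000000000000000000000000000000000000000000000000000000000000000000000000000000000000000000000000000000000000000000000000000000000000000000000000000000000000000000000000000000000000000000000000000000000000000000000000000000000000000000000000000000000000000000000000000000000000000000000000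0000000000000000000006006000000000000000000000000000000000000006006005005006006000000000000000000000000000000000000000000000000000000000000000000006006006006006006000000000000000000000000006006000000000000000000000000000000006006006006000000000000000000000000000000000000000000000000005005000000000000000000000000000000000000000000000000000000000000000000000000000000006006000000005005005005006006000000006006006006000000000000006006000000000000000000006006000000000000000000000000000000000000000000000000000000000000000000000000000000000000000000000000000000000000000000000000000000000000000000000000000000000000000000000000000000006006000000006006000000000000000000000000000000000000000000006006000000000000000000000000000000000000000000000000000000000000000000000000000000000000000000006006000000000000000000000000000000000000000000001a81a80000000000000000000400410000000000000000000000000000000000000000000000000000000000000000000a00a00000000000000c00c00060070400400840840000000000000000000000000000000000000000000000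0000000000000000000060060000000014014000000000000000000000000000000000000060060060060000000000000000000000c00c00000000600604004110810814014000000000000000000000000000000000000000000000000000000000000008408400000000600760060000000000000000000000000020820800000000000000000000c00c0000000060076006006806800000000000006806800000000000006806800000000060062002016046040000000000000000000000000000000000000000000000000000000000000000000000000000000000000000000000000000000000000000000000000000000000000000000000000000000000000000000000000000003803800000000000000000000000000000000000003003000000003003000000000000000000000000000000000000000000000000000000000000000000003003003003003003000000000000000000000000003003000000000000000000000000000000003003003003000000000000000000000000000000000000000000000000000000000000000000000000000000000000000000000000000000000000000000000000000000000000003003000000000000000000003003000000003b03b030030000000000000030030000000000000000000023823800000000000000000000a00b02002000000000000007807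900000000000000000001001000000000000000000003803800000014014000000011c11c1201200060061001010000000000000000000000000000000000002202210000002202200000000000000000000000000000000000000000002402400000000000000000000000000000001001000000000240240000000400410000000000000000000000000000003a03a00980980000000000000a00a007c07c0000001c01c10000001981990000000c00c00a00a00100100000000c00c00240240000000060070800800240241a41a51801811001000000000000000000000000001001010000000000000000000b80b80000001201211b01b00200210c00c00000000c00c009009000000022822804004100000000000000a00a0400410300300000000920932a02a022022000000000000000000001801800000013013000000000c00d0000001001000000001c01c01801800000000000001861870100100240240c00c00040040c80c804004128028008608705805800400408008020e20f0440440020030c00c00480480c40c40a00a020020120220304004010a10b2402401001001001002082081001000d60d622022123c23c0980980020030a00a003a03a0d00d009a09a04c04c0500500380390200210440440100100200210280280780780a80a80c00c005405506c06c13613703003100a00b078078022023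04804901c01d008008010010000001b00b0140c40d5785782002011aa1ab4a84a81c01c1b60b60bd8bd9b78b780f20f35d85d93c63c63d03d038438442042010410448c48c1ae1af538539560560b00b01b42b43fb0fb12482493043043e03e11b81b9f0ef0f1e01e01301301401402ee2ef06c06cea4ea5b38b394b24b255455424a24a3c03c043e43e7e87e8354354458458b9eb9e2202210620626006017da7db44044002c02c2d82d96dc6dd04404450650669069011e11e144144f6af6b6a06a0a26a27d50d50dc4dc4480481ebaebab90b900580582b02b18f68f77947944fc4fc770771e34e3451c51d6de6df1701711fe1fe0bc0bc1701716c06c108208258c58d1fa1fb2102106806812342345f25f379079100e00e29c29c43c43d6186187467470900915245253403407927924d84d925c25d7d87d81261271fc1fcb68b69130131e30e3106006134e34e3983991ec1ed18c18c6d06d0340341aa6aa63383395a85a82202217147151a41a40160173803810b40b45d45d57227230b00b13c23c26d46d4324325700701a32a335d85d836836956056133633703c03d1da1da59059163463557857823823812012079279315015019219336036016e16f46c46d1721723f83f870c70d6f46f45b25b225025172e72f39039009a09b6c06c068a68b32c32c3483483003012582580340346ca6ca3183184e64e73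fc3fd49249357057162e62f5d85d9faafaa5e85e937e37e08408506006044044019a19b1b81b8398399f80f80d60d610a00a15605616906907d67d738038077c77d3803815ea5ea4644655245257007010720722042042782783283286786785985994da4da5405413f43f4628628020020ed0ed017c17c63463555e55f1a01a04b24b32a02a16606606e86e90680680ac0ac5ca5cb970970c40c412b42b5150151ef8ef93dc3dc44044194294348048074274227c27d8908902602617f87f804404415a15a3903911ac1ac74c74d3463467f07f158e58e7547540800810e00e10e60e71881897347356f06f05e25e24a44a50a80a969069062862856856850a50a0d80d94ca4cb12c12d5225230000006b46b40700705185194f84f93c23c240440452252277077179c79d6a06a10de0de0480493d23d22882882d02d05c05c00680691b81b84324331301301ea1ea3dc3dd3523533803815fa5fa4e04e07587592d02d03c63c658c58d07007108008163c63d15415538a38b2782781621625645652302303703704e04e02c82c979a79b1f01f034c34c2342355685691c01c005c05d40c40d4ae4ae6886896426435f45f44444446a06a05d85d918018026a26a2582587f07f00800804464470000006d26d32682680500502b82b80860867c07c05045052302312a82a85805802d82d94684680820834304300e00e068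068111611654c54d4cc4cd2382382ea2eb3903911221223a03a10980993403414c84c82e82e92f22f31341354204210400406586590600616c26c353853901401577477477e77e4904913103105345353d03d02a82a840040110010134a34a5805806066067707700d40d42a82a82f62f75705714344342802815a05a013013034a34a06806976a76b2e02e178078020020026826900800931231305005022e22e63c63d1e21e25b05b13d43d44684686126124584587a67a74284284444447c07c146e46e1c81c840240378878937c37c1ac1ac1b01b17307303283282f42f50180182982993e23e23b43b42da2db7c07c12402401181193b83b82c82c84004002702700c00c15a05a106c06d0fc0fd1b81b85485483243250140150c00c05405405425434d04d06226232802801a41a45245244164176306303243257787792ae2ae2002015605604004005ca5ca30030123a23a0000012c82c82302314d64d71401401d41d50800802c02c125425507e07e6606600c80c82302312322330e00e14464463b03b134c34c6906904804801801805ca5cb4c04c04424437947940400412d02d02c82c95ec5ec48e48f24024122a22a6006010b80b83f03f125c25d1d01d15aa5aa3103111401403e43e42d82d92302310540543003005a65a71001010c60c65985982682686a06a046046000000007207224024134c34c13c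13c5b25b301801810a10b1181181921930000002f02f14484497ea7ea3f03f11cc1cc4a04a01ee1ef2b02b10600602742751c21c24b84b81121134944940ec0ed4e04e126a26a6486482a42a446846978678712012112a12b54054114c14d16c16c16e16e1f01f16446440e40e41181183403402a82a812c12c5c05c02302314ce4ce67c67c20a20a02002160a60b51851907207361861836e36f2102112a42a44604606d86d84cc4cd0e80e810810970a70a2c42c542442471071029429420020049049164064028e28e61c61d54054050050076e76e03803928c28c3b83b83163166806816546544b04b04384396d86d840a40b25025005e05e3803800920936c06c014c14c46446535635606006055855822022040240346046026a26b2542556d86d85b85b87487483843851c21c27007016a06a17287281021036b06b02b62b726826918018003003060460537c37c1d01d01601601aa1aa03803858858814014139c39c33433549049100800954454539039139a39b2702701581594684695d85d927027033633744c44d20c20c6006003bc3bd42c42d20a20a5d85d81a01a10500501781784a04a05925935dc5dc0c00c03b03b05165171501512542550600602422421cc1cd1101112e82e85f85f977477478e78f1801807c87c83203201d81d85e05e05005011cc1cc24e24e0c00c00700710a80a97167160a80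a876e76f1541554344356006005e05e06086084504506386391721730f40f51201204204210d80d83dc3dc2d22d36086085b25b203c03d5c45c45d05d05705702502514f04f10280295ca5ca4fc4fc7527527807802582590240243b63b70600607587596c06c17827837207200e40e54e04e13363374d84d80a60a758c58c6c06c00c00c17a47a45d85d96e26e37907910340343303314c24c30f00f17207213d43d53983985b85b91e61e64484493fc3fc74074069069111411501a01b2402417cc7cd1081080c00c11e01e01b01b15a45a521e21e6e86e87287294704700a00a12202211821833143157da7da5185195905915185192502517607607d27d26086096886883a03a15e05e04004007007010000016d66d61041044744742782791b61b76e06e14e84e87607604344346806800560561481481bc1bd0740751221234604602ae2ae2202217c47c43903902502500040040220221e01e05a25a35405414024031a81a83d43d551851808208220020160e60f05005101401426026012e12e7447451781791601616be6bf0d00d16e26e32002012c02c02fc2fc79e79f1001012d02d04f44f46f26f25385386806807887894f04f17707716ba6ba3c83c90a80a82882897cc7cd29829850a50b1801807727730f00f008a08a5085083e43e56506507ae7af0d00d00fa0fa6cc6cc0420437b87b80c60c77bc7b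c0400401c01c147247348048174a74b2302310800812f42f40b20b21201203963962d82d86d06d000000124c24d36036043a43a3003016446442702715a05a07f87f83923927347355025022402412ec2ed7607600ee0ef19819853a53a1581590620625805807047046346340d80d82402410200216146155605602302305805800ac0ad08808823023170c70c0d00d06126123003013923921101102f82f90980991e61e74044042802807707702de2de5745754d24d27a07a040e40f4044056846844a04a16d86d81441455b85b87507500e60e72142142fa2fb5005013d23d22c82c90980990f80f917617705c05d2022024804811a61a61041053a23a203003078c78d3643650d60d76806801081083c43c41081097287280ea0ea0480481ca1cb58058144a44a7f07f048c48c3a83a90b20b25145145a85a942042118c18d6ac6ac1801807b07b11661664644647ea7eb1801803a43a50040053a83a91a81a973c73c24824934e34f20020016c16d1401412262275885891561561e41e410c10d16016162c62c0280293f63f765065054054121021146a46a49049172272341c41d2f82f802802823c23d7ac7ac6066060400402cc2cd49449400200238038134234308c08c5a45a50400400e00e110410413613736836932e32f2c82c962462534034120a20a6d06d03c23c34404404304310480483963972c02c029e29e1c41c4722723208208288289114115220220000001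
  | 2 => 0xc00c00000000000000000000000000000000000000000000000000000000000000000000000000000000000000000000000000c00c00000000000000000000000000000000000000000000000000000000000000000000000000000000000000000000000000000000000000000000000000000000000000000000000000c00c00000000000000000000000000c00c00000000000000000000c00c00c00c00c00c00000000c00c00000000000000000000c00c00000000000000c00c00000000000000000000000000000000000000000000000000c00c00000000000000000000000000000000000000000000000000000000000000000000000000000000000000000000000000000000000000000000000000000000000000000000c00c00000000000000000000000000000000c00c00000000c00c00c00c00000000000000c00c00000000000000c00c00000000000000000000000000000000000000000000000000000000000000000000000000000000000000000000000000000000000000000000000000c00c00000000000000000000000000000000000000000000000000000000000000000000000000000000000000000000000000000000000000000000000000000000000000000000000000000000000000000000000000000000000000000000000000c00c00c00c00000000c00c000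00000000000000000000000c00c00000000000000000000000000000000c00c00c00c00c00c00000000c00c00000000000000000000c00c00000000000000000000c00c00c00c00c00c00c00c00000000000000c00c00000000c00c00000000000000000000000000000000000000000000000000000000000000000000000000000000c00c0000000000000000000000000000000000000000000000000000000000000000000000000000000000000000000000000000000000000000000000000000000000000000000000000000000000000000000000000000000000000000000000000000000000000000000000000000000000000000000000000000000000000000000000000000000000000000000000000000000000000000000000000000000000000000000000000000000000000000000000000000000000000000000000000000000000000000000000000000000000000000000000000000000000000000000000000000000000000000000000000000000000000000000000000000000000000000000000000000000000000000000000000000000000000000000000000000000000000000000000000000000000000000000000000000000000000000000000000000000000000000000000000000000000000000000000000000000000000000000000000000000000000000000000000000000000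0000000000000000000000000000000000000000000000000000000000000000000000000000000000000000000000000000000000000000000000000000000000000000000000000000000000000000000000000000000000000000000000000000000000000000000000000000000000000000000000000000000000000000000000000000000000000000000000000000000000000000000000000000000000000000000000000000000000000000000000000000000000000000000000000000000000000000000000000000000000000000000000000000000000000000000000000000000000000000000000000000000000000000000000000000000000000000000000000000000000000000000000000000000000000000000000000000000000000000000000000000000000000000000000000000000000000000000000000000000000000000000000000000000000000000000000000000000000000000000000000000000000000000000000000000000000000000000000000000000000000000000000000000000000000000000000000000000000000000000000000000000000000000000000000000000000000000000000000000000000000000000000000000000000000000000000000000000000000000000000000000000000000000000000000000000000000000000000000000000000000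0000000000000000000006006000000000000000000000000000000000000000000000000000000000000000000000000000000000000000000000000006006000000000000000000000000000000000000000000000000000000000000000000000000000000000000000000000000000000000000000000000000000000000000000000000000006006000000000000000000000000006006000000000000000000006006006006006006000000006006000000000000000000006006000000000000006006000000000000000000000000000000000000000000000000006006000000000000000000000000000000000000000000000000000000000000000000000000000000000000000000000000000000000000000000000000000000000000000000006006000000000000000000000000000000006006000000006006006006000000000000006006000000000000006006000000000000000000000000000000000000000000000000000000000000000000000000000000000000000000000000000000000000000000000000006006000000000000000000000000000000000000000000000000000000000000000000000000000000000000000000000000000000000000000000000000000000000000000000000000000000000000000000000000000000000000000000000000006006006006000000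0060060000000000000000000000000060060000000000000000000000000000000060060060060060060000000060060000000000000000000060060000000001801800000060060060060060c60c6006000400410000006106100000006206210000000000000000000000000000000000000000000000000000000000000000000000000000006026022002012002000000000000000000000000000000000000000000000000000000000000000000002402400000000000000000000000000000000000000000000000000000000000000000000000000000000000000000000000000000000000000000000000000000000000000000000000000000000000000000000000000000003003000000000000000000000000000000000000000000000000000000000000000000000000000000000000000000000c00c030030000000000000000000000000000000000000000000000000000000000000000000000000000000000000000000000000000000000000002402500000008008000000000000000000032232208008100000000000000000030030004404400000000600620020132032030030000000030030000000000000012012030030000000005005034034006006014014000000000000000000000a00b07007000000036036114814800000000000000000000000000000000000003003018018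000000000000000000000000002802900a00a11011100000010010010810800000000c00d14014006006024024004804800000000000000000000c00c2402401861862402412482480000000000003803800060071001003243240000000000000000000000000000000000000000000000000000000000000000000000000000000000000000000300300000001801800000000000002802800000000000000180190000000000000000000c00c00000000060060c80c90b40b40000000000001c81c800000000000000000000000005005000000000000000000000000000000000000000000000a00a02002109409400000003e03e0a00a12ae2ae28428400a00b20020109a09b08008015815800000020820804404400000013013100c00c0d00d02262262202213223221001012402401901900000000140153003001001000140140000003603612582593f03f02702700000000a00a027027006c06d2402401101101141140580580860870400400160160940940e20e30400411601600a40a40100100200212782782302302002001001000000011001001121130000000380381001000720730400400ec0ed0600602202200800800f20f30e80e817a17a0200210800800cc0cc02802814014102402410010017e17e0400410720730a00a002a02b01001006206302402502c02c0a80a901801900c00c026026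0000007947944b44b51c81c8650650ab2ab256456557057037037004e04f4a04a07687683e03e048c48d73c73d3803801601604f64f670470461c61c3603606666669749751901914004014da4da5b05b07d87d96506513a23a258458439239328028076076178c78d1961970780794024030b80b82302300700700840851e01e15a05a16c86c94c64c61f01f0d2ad2b0800817ae7ae584584578579c30c306026023c83c94fc4fdfa0fa0f48f48d34d355b25b3c40c4152252246046148848980080055a55a2b02b1d94d947507517b47b424c24c0480491401414684683d03d1062063b88b895f65f656856827827932032060e60e51051111011176076026c26d2a42a53703713c03c14584587b87b81b21b21c01c16e26e35d45d40820835805803763771b81b82cc2cde38e3960a60a62462563c63c7307310b00b0d30d301a01a0fc0fc0b94b952dc2dd6a66a6dc0dc03b63b61b01b181481520020171c71d3143152f02f128028032432455c55d3b63b76486493a23a32042053243256006001441440dc0dc5a25a30380386c66c774874912812993093006e06e2a02a13143145e05e14fc4fd4a44a47ce7ce7407415a05a17e87e850050074874973e73f70c70d7307305805802c22c23003003e43e461061017c17d5445455665660c00c13c23c35e05e01a01a00380394c64c63143143aa3aa3203218a68a7e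20e21110110ac0ac117217338c38c0ac0ac6a06a1a06a0706806927c27d450450294294304305cd2cd2f80f819c29c37707719449456a86a818418528c28ce48e49000000536536618618f00f00d00d01a2aa2ae54e55190190410410a3ca3c1f41f48288295185193243245785795005011801811bc1bc5e45e451a51a3483494fa4fa14c14d5985980a00a0d26d262302311fa1fa0300314244243243255805812802807967961b81b80440446f06f00840851f81f901601672072069469416c16c53a53b1a81a935e35f0e00e13a83a95a05a01381387c07c06ee6ef0480485fa5fa0b00b15b85b940040035e35e7187197647656d86d950a50a0bc0bc5005004004017ba7ba56856823a23b7187182262264f04f157c57d7707717487495ac5ac7ea7eb2c82c856656779c79c3e03e14a04a11201202342343b23b22982997267274cc4cd4144140c00c10980981bc1bc2802802382387a87a81441452ae2af7007006926927e47e45e45e51601604b64b70fc0fd7da7da4e04e04424421dc1dd4a24a36086084d64d65a45a55ec5ed0a00a16686694044045ce5ce5185197627632942944284286e06e162a62b0e00e155c55c1881880ce0cf4504500c20c300000157a57b22c22d5b85b86a86a932c32d2ec2ec5f05f05e05e147e47f77c77c0b00b03e83e91721721601612442442202213d03d01dc1dc18a18a6f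86f937e37e2d02d176a76b7d07d057857821821955855816816831c31d5dc5dd1ea1eb5005003e63e70180182782782302316206216ac6ad3863863103105f65f64584594e44e57c07c02e42e560460468068146046129e29e5e85e942242276876830a30a6c06c022c22d7d07d12122130b80b86e06e16186187847842042042682692002001ca1cb51c51c5d45d40b00b12fc2fd61c61c1061065505511b81b862c62c6026034a04a05fa5fb5fc5fd26c26c6c06c10260262d02d01401404f04f063e63e6e46e46326330a00a02262277207217fc7fc6f86f84d24d21c81c94504515805812f62f61041045525525905910800813943956e06e02a02a01361372842840ac0ac6386390840853583595405407e07e062c62d4704703683685b05b02562573ec3ed4d04d02a02a10220230a00a15085087f87f94784782042043523524004001a41a56506503963974984983763762042040500511701702ce2cf5305314224225e05e16e06e11d41d513e13f0e00e150e50f42c42c1001002e02e117017119c19c14a14b5b05b01621630780785145141f81f91b01b07847845005017c07c17e27e20680695625632c82c91241250b80b95e85e868068036c36c14814849a49a5505502b42b54bc4bc1021020e00e04344353003002202200d80d917e17f4004000b40b418018024a24b6c46c50120132d82d80d40d442c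42d4c24c300000040c40c7b07b02622634684693363365145147b27b33d03d12f22f27a07a04b04b11c01c16b46b57047051901903603616366367247246a26a23203207507512882893603614404404604606bc6bd51a51b5f05f022622669c69c0a40a52402405e65e66f46f50d00d10180197c07c01781790160170d00d030030012812859a59b45845975c75d0d00d06026031001006126127c87c97a87a84004004a04a03403407a27a37607606fe6fe6ac6ac43c43d6e86e85305314284284704712802805c65c72282294704714284287bc7bc2882892062071c01c164e64e16c16d54854803003148448441041112e12f1401415cc5cc4e44e53123135085081201202282293403400600614004004e04e00ee0ee3183197147147c47c53aa3aa5c05c00a40a50700700ca0cb7607605f05f067c67d4984986b06b01ba1ba4544551681686b86b91ce1ce3683694444456e06e12ce2cf1cc1cd3883892702707d07d13ec3ed2ca2cb3103113fa3fa7187180bc0bd5185182d82d91e41e42422424004003903910380395205202082087e27e24244241841853b03b023e23e15815924c24c7107104f44f57ec7ed6ce6cf6806814444444004004fe4ff7a87a87c47c44dc4dc45845962062038638600800810c10c7e07e02b02b15f85f96de6df3803810260274444441e01e12702706646650840851e01e13403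4018c18c5a85a909e09e3483481621621541552e42e440040106606731831909c09c4b84b933233330c30c5985995b05b031831860860821a21a5585591a41a526c26c4864873003016d46d467c67c68868847847828a28b7e87e90600617507512742743f43f53823825905902b82b940040141e41e0000010820825c85c961261225825971a71b2d42d44944952902906b06b13ac3ad21a21b0b80b846c46d32032052e52f1401407a87a82cc2cd23a23a5d85d81341353143150e60e65c05c04904900780797987990700701461472842852882896e06e00e40e46306307427421501504d44d409c09c6e06e069069124a24a69069145845846046156056110410468e68f40040146c46c63463532032046046069a69a4344346406406406414b84b87f07f04fe4fe0a00a17667676e86e801a01a7e07e00c40c52a42a425a25b3a83a96fc6fd6c46c57e67e60300300240252e02e013e13e0880897087093d03d01ba1bb6806815c25c279c79d5805803c83c86fe6fe0580597da7da58058178a78a1c81c956056048048066266246446468268202002167e67f64064066066050850858458435435560e60f7307316c26c23e43e55305303803810060064a44a41021033003015945952902904524525b85b93243252ac2ac7a87a95905904f24f35fc5fc3603610780791081091e41e40c00c01401411e21e207807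93e23e24904901041052e82e960e60e4b04b148e48f3743745c25c33783783543547447452c02c14c04c010410509809907607730030148048178478518e18e3b03b146646656c56d7847846906900c20c36306305c85c87e07e13d03d17ec7ec6c86c96d06d10f20f37b87b827c27c6106112a82a928828950e50e4604616686680800812122121001012f22f348848856a56a37037123c23c46446401a01b6c06c12302304484486806806586585ea5eb6606612102116c06c12dc2dc0d40d50080087a87a96146144184195f25f23203203fc3fd24024158058054054060e60f1c01c040a40a6c06c01fc1fc1a01a05c05c145045120e20f1b81b95445443303300fc0fc1a41a41e21e26c06c10a00a012812840040044044054c54c4b44b50d20d240840925225334c34c4204201b01b126626738438450850856856841041133c33c00600678078034234260c60c25a25b5f05f03ea3eb2302301401403a03a003603675c75c7f07f14f04f06a46a40700710400410400405345355c05c02e02e02a02a035c35c3a03a00be0bf7707702ec2ed38038068e68f1c81c913e13f7847844d44d540040055255323823946246317817906606629c29d57257257057011411414c14c7e07e14e84e905e05e6a86a934434536036157a57b3f83f822c22d1c01c01ac1ac4d84d823e23f3d03d02d42d44944950ae0af0700711a41a5520521596597000001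
  | 3 => 0xc00c00000000000000000000000000000000000000c00c00000000000000000000c00c00000000000000000000000000c00c00000000000000000000000000000000000000000000000000c00c00c00c00000000000000000000c00c00000000000000000000000000000000000000000000000000000000000000000000000000c00c00000000c00c00000000000000c00c00000000000000000000000000000000000000c00c00c00c00000000000000000000c00c00c00c00000000c00c00000000c00c00000000000000000000000000000000000000000000c00c00000000000000000000000000000000000000000000c00c00000000c00c00000000c00c00000000000000000000000000000000000000000000000000000000000000000000000000000000000000000000000000000000000000000000000000000000000000000000000000000000000000000000000000000000000000000000000000000000000000000000000000c00c00000000000000c00c00000000000000000000000000c00c00000000000000000000c00c00000000000000000000000000000000000000000000000000000000000000000000000000000000000000000000000000000000000000000000c00c00000000000000000000000000000000c00c000000000000000000000000000000000000000000000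00000000000000000000000000000000000c00c00000000c00c00000000000000000000000000000000000000000000000000000000000000c00c00000000000000000000000000000000000000000000000000000000c00c00000000c00c00000000000000000000000000000000000000000000c00c00000000000000000000000000000000000000000000000000c00c00000000000000000000c00c00000000000000c00c00c00c0000000000000000000000000000000000000000000000000000000000000000000000000000000000000000000000000000000000000000000000000000000000000000000000000000000000000000000000000000000000000000000000000000000000000000000000000000000000000000000000000000000000000000000000000000000000000000000000000000000000000000000000000000000000000000000000000000000000000000000000000000000000000000000000000000000000000000000000000000000000000000000000000000000000000000000000000000000000000000000000000000000000000000000000000000000000000000000000000000000000000000000000000000000000000000000000000000000000000000000000000000000000000000000000000000000000000000000000000000000000000000000000000000000000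0000000000000000000000000000000000000000000000000000000000000000000000000000000000000000000000000000000000000000000000000000000000000000000000000000000000000000000000000000000000000000000000000000000000000000000000000000000000000000000000000000000000000000000000000000000000000000000000000000000000000000000000000000000000000000000000000000000000000000000000000000000000000000000000000000000000000000000000000000000000000000000000000000000000000000000000000000000000000000000000000000000000000000000000000000000000000000000000000000000000000000000000000000000000000000000000000000000000000000000000000000000000000000000000000000000000000000000000000000000000000000000000000000000000000000000000000000000000000000000000000000000000000000000000000000000000000000000000000000000000000000000000000000000000000000000000000000000000000000000000000000000000000000000000000000000000000000000000000000000000000000000000000000000000000000000000000000000000000000000000000000000000000000000000000000000000000000000000000000000000000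00000000000000000000060060000000000000000000000000000000000000060060000000000000000000060060000000000000000000000000060060000000000000000000000000000000000000000000000000060060058058000000000000000000060060000000000000000000000000000000000000000000000000000000000000000000000000060060000000060060000000000000060060000000000000000000000000000000000000060060060060000000000000000000066066060060000000060060000000060060000000000000000000000000000000000000000000060060000000000000003003000000000000000000000000060060000000060060001801860060000000000000000c00c0000000800810000001401400000000000000000000000000000000000000000000000000000000000000000000000000000000000000000000000000000000000000000000000000000000000000000000000000000000000000000000000000000006006000000000000004804800000000000000000000000006006000000000000000000006006000000000000000000000000000000000000000000000000000000000000000000000000000000000000000000000000000000000000000000005805800000000000000000000000000000006006000000000000000000000000000000000000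000000000000000000000000000000000000000000006006000000006006000000000000000000000000000000000000000000000000000000000000006006000000000c00c00000000000000600600000000000000000000420426006010000004404400600610000000000000000000000000440450000006006000300300000000000000000000000000000000000000000006146150000000800800000007007000500500000006186186406400000000000000200212402400140140000000500512402400000000000000000000000002402400000000000000000000000000000002202200000000000000000000000000000000000000000000000000000000000000000000000003003000000000000000000000000000000000000003003000000000c00c00000003003000000000000000000000000003003000000000000000000000000000000000000000000000000003003000000000000000000000300303a03a000000000000000000000000000000000000001801800000000000000000004004100000030030000c00c22022002002100000020820800000000000000000000000000000000000030030030030000000000000000000030030030030000000030030000000030030000000000000000000000000000000000000000000038038000000000000001201301801800000000000000000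020c20d0000002002001101103103100000000000000000000000001401400000000000000000001801800000000000000000000000000000000000000000000000000000000000000000000000000000000000000000000000000000000000000000000000000000000000000000000000000000000000000000002002010000000300300a00a00000000000001801800000002802800000000180180000002402401081080a00a10000000000001c01c10aa0aa0200210000000000001881880000000000000000000000000000000000000000000620621001010000000000000000000a00a01a81a90000002242240000000860870800800060060080090440440280290000000880880000001c01c009a09b02002022022000000022822800000000000000000001801800000000000012012014c14c0000000060062002011201201981980520531201200b60b71581580a40a400000004c04d21021001e01f0400400980981541550400400c00c00a40a50400400000002782790a20a304004007007000000014e14e10c10c00400501801920020000400411a11b00000121c21c0800801c61c622022122e22e0400410a40a408008027427502802800e00f0600602242240c00c10460460c00c109209225025101201207007103003005005006006020020007007003803901a01a03003103603700c00c00a00b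0000004a64a76a06a04a24a2480480acaaca5285296546547207201a21a2544544650651cb0cb03403410a40a579e79ff40f4107c07c090091580580128129faefae4f44f568c68d4b04b04544545885881c61c7490491398399e84e85f3af3b10010139a39a270271ffcffc1401411461467547557c07c16506506b66b65885895545544084084764766306315c25c2fc0fc12d62d79b09b00120124c04c1ec4ec44644641961972d02d01601601a01a02b82b9c18c188ae8ae5f45f5608609400401a22a22990990522523d80d817ce7ceeb0eb173c73c46046061e61e2d42d548c48c7e07e076c76df88f894b64b60000017887881241254364371a81a97da7daae8ae833c33dbd0bd175e75faa0aa02882883d03d17e67e61541550940940000007e67e75c45c54584581601606726727c07c00040054704713dc3dd64c64d4004003083093a03a063863812a12a7607605f85f83f43f47087093303301b41b52142154f04f02602602ac2ac6486482302303203203c83c81f01f0c52c523003013a43a48608602ee2ee7787794c64c60f00f0e40e413b03b16ec6ec7f07f1c56c5714814943e43f0bc0bc68c68d50050002a02a7307315ea5ea5785784b24b24804801dc1dc7907900da0da2a42a4282283000000470471598599bc0bc144044162862934c34d658659650650d50d511881886506517e07e15345350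ec0ed2d02d03203203563562a02a02cc2cc1c01c13ac3ac5d45d5dbedbf030030fd2fd363063047447438038169a69b4384384224226d06d1648649704705248248e80e801fa1fa31c31d21a21a0e00e07447454304312302302602615ae5affbcfbc350351d88d897c47c44284283063064a04a15b45b42cc2cd442443d88d890500511d81d87e27e34604610380383803812ae2ae018019fb2fb36706703143154c04c09289292a42a5662662ba0ba0bcabca5585582982995405401381380d00d17627637607617067064844847207207007001341357cc7cc34e34f7b07b16c26c300800804404423023044c44c4604605105105905905f25f25405407c47c54004007d67d75e85e818018048048060660779479466466477077014e14e4fc4fc4f84f81a01a10c40c457457475e75f2802816c66c70900910e00e118018030230332c32d61c61c2802814104112002014f84f874874857a57b08408537237334034042a42b6146156586581901906aa6aa1a01a17227227607617467470580582f82f96706714fe4fe7c47c51021030800817e87e95345354304311d81d82302312b42b562a62b7b07b17987981b41b50800815005005fc5fc2902912462474804803363360c00c145045004004033a33b7f07f07d47d51f01f113c13c0f00f07aa7aa7487487fe7ff0440443c23c26a06a13d43d500c00d0e80e851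851930030132032170a70b3e03e02f02f07847856526537c07c100e00e7c47c56006010800803c83c87fc7fd5be5be0700717cc7cd1401411521520c00c04b24b32802801b41b539039120e20f29429424c24d5205201f21f358858932c32d7687694604603cc3cc1801816806805d05d074c74d2962970580594224222382383d43d52002015de5de0700711181183283290180180d80d96766767807815165171a81a910a10a7207202842850400403203214804800c40c56ac6ad1001011f81f86a26a25605614684687e07e031e31f7e87e94f84f871071124a24a78c78d7a07a00c00c03463470840845145143383392722721201202742752102105c65c60e80e963463565865868c68d1581587d27d206006170c70d49c49d3923921501503e03e11401401101102402402e82e906806830e30f4784797987982f42f42e22e318018079e79f6246250680693a03a17d47d40040055705703103101ec1ed3703712e82e82882895b65b71e41e50c20c26406415445442cc2cd6586581981990280283443443b23b25b05b04944943a83a813a13a1101111001000e00e11d01d11401401541551501512102116286293183185e05e01d01d10c00c00360372dc2dd6ea6ea6b86b810c10c0640641861871a01a03da3da7607602242255e05e020820856856822a22a30030121821815c15c05205338038011611617c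17d0220220000017ca7ca5985984aa4aa7c87c90f80f94004017a67a65b05b11181185705705885884304312702715445456706717a07a12362361f81f94e84e91301306be6bf0e00e16e46e55705717287296286282d82d96f86f80c00c05005007c27c21c01c02a42a40180197807803d03d11461465bc5bd40a40b0a00a14564566a86a94c04c15205204e64e76c06c06806807007000f40f523023101e01f21021179a79a4a84a807c07c3603610da0da0a80a819a19b6e06e01021024504504524527007011f81f930c30d6f06f15805814ac4ac6606614e24e37007005265270580595a85a950050050c50c46846861e61f2e02e16606602382392ba2bb1c81c874274322422526826815015045e45f01c01d1b21b21981985945942282292522533803804504501281286c26c33d83d87ae7af78878806206254054019a19a66066052c52c2302306ce6cf7ec7ed2c22c264064045a45b2c02c142442506006034034000c00d7a07a03003002ca2cb71071130c30d2182180b40b506006058658730030131a31a2b42b43f83f86a06a17c87c91141155e05e132032158e58f50c50c55a55a26026040c40c2e42e44524527807801481497447444ce4ce4b84b970670743c43d1d41d57c07c03383394984990180182702704404415905903c23c35c05c150c50c04c04d72a72a6086087a27a30c00c17e07e05205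215c25c20d80d921a21a0100112822830f00f13283292002013223226d86d978c78c1e81e861861875c75c4904900c00c055c55d4f84f82ca2ca6c86c80ae0ae7287290340357807803123131e41e51821823c83c86246257707703503512702715a85a94484490d20d25285296146146706702d62d75c05c05c05c10980994e64e77087080de0de3e83e95cc5cd6c06c07687681c01c032232238038063a63b4a04a028228358058033233204c04c7fa7fb2602601961974144150620627007003903903c03c05685685285295ce5ce4e04e07aa7ab46046110c10d5205205ea5eb4f04f05e65e605c05c05205221021072472561461576e76f4f84f948c48c4284287207214004014884894844840c80c86686687307315045045f25f344044116816953453579679609809938638672c72d58c58c36036076c76c46446517a17b3f03f13763760840842f02f02e02e066866868c68d7c07c07a87a84344350480492762765405407f67f74a84a86b06b16606605305301c41c54e64e65805805c65c61981980e80e948848954e54f6606602042042c02c058e58f5085084444443e83e92ea2ea4604614904907407403903911201201481486006005e25e30ec0ec1d41d56006000ec0ed3e83e96966971581591f01f17a07a053e53e31031037e37f2ac2ac5745745705715fa5fb1e01e03843855205200da0da33833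82c22c379079136a36a2e02e06dc6dd1b01b11461474b84b84104105b85b902402568068154254228028028c28c5845845865873a03a170e70f01c01c1341340200204584594f04f114e14e3a03a00ec0ec35035035035158058027627663c63c3883895905917e67e70500512002017607606c86c87f87f92f02f12082085005001b41b408208210010075675635c35d16216206806923c23c0980985925934e04e17e47e40b80b81221237807810560572782781041047007001861877dc7dd0d80d82882891321325545556706706e06e13dc3dc4804805c25c27d87d91181195d45d40ce0cf0000000720731b01b162c62c0f80f93f43f55885881861872f02f04d44d41241255305304804807e87e80b40b456a56b20020068e68e7fc7fd2f02f112012128028026c26c1161170e00e01dc1dd0d40d416a16b6006014a64a70a80a80240252002005885885a05a108e08f2f82f97b67b61e41e53743743503510e40e51781785f25f31781784164170b00b011c11c5005007027031541546406403e83e80780792982991301307207214dc4dc1581593823833a83a825025112c12d1121132002013a03a02dc2dd2382394b04b11961961ac1ac2822831d01d12942951d81d94604605505511541551f01f03003001c01c01ca1cb5b85b81f21f21c81c82c42c44e44e41001013203211721722c42c506a06a1b81b9340340150150118118000001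
  | 4 => 0xc00c00000000000000000000c00c00000000000000000000000000c00c00c00c00000000000000c00c00000000000000000000000000000000000000000000000000000000000000000000000000000000000000000000000000000000000000000000000000000000000000000000000000c00c00000000000000000000000000000000000000000000000000000000000000c00c00000000000000000000c00c00000000c00c00000000000000000000000000c00c00c00c00c00c00000000000000000000000000000000000000000000000000000000000000000000000000000000000000000000000000000000000000000000000000000000000000000000000000000000000000000000000000000000c00c00000000000000000000000000000000000000000000c00c00000000000000000000000000000000000000000000000000000000000000000000000000000000000000000000000000000000000000000000c00c00000000000000000000000000000000000000000000000000000000000000000000000000000000000000000000000000000000000000000000000000000000000000000000000000000000000000000000000000000000000000000000000000000000000000000000000000000000c00c00000000c00c00000000c00c00000000000000c00c000000000000000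00000000000000000000000000000000000000000000000000000c00c00000000000000c00c00000000000000000000000000000000000000000000000000000000000000000000000000000000c00c00000000c00c00000000000000000000000000000000000000000000000000000000000000000000c00c00000000000000000000000000000000000000c00c00000000c00c0000000000000000000000000000000000000000000000000000000000000000000000000000000000000000000000000000000000000000000000000000000000000000000000000000000000000000000000000000000000000000000000000000000000000000000000000000000000000000000000000000000000000000000000000000000000000000000000000000000000000000000000000000000000000000000000000000000000000000000000000000000000000000000000000000000000000000000000000000000000000000000000000000000000000000000000000000000000000000000000000000000000000000000000000000000000000000000000000000000000000000000000000000000000000000000000000000000000000000000000000000000000000000000000000000000000000000000000000000000000000000000000000000000000000000000000000000000000000000000000000000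0000000000000000000000000000000000000000000000000000000000000000000000000000000000000000000000000000000000000000000000000000000000000000000000000000000000000000000000000000000000000000000000000000000000000000000000000000000000000000000000000000000000000000000000000000000000000000000000000000000000000000000000000000000000000000000000000000000000000000000000000000000000000000000000000000000000000000000000000000000000000000000000000000000000000000000000000000000000000000000000000000000000000000000000000000000000000000000000000000000000000000000000000000000000000000000000000000000000000000000000000000000000000000000000000000000000000000000000000000000000000000000000000000000000000000000000000000000000000000000000000000000000000000000000000000000000000000000000000000000000000000000000000000000000000000000000000000000000000000000000000000000000000000000000000000000000000000000000000000000000000000000000000000000000000000000000000000000000000000000000000000000000000000000000000000000000000000000000000000000000000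00000000000000000000060060000000000000000000060060000000000000000000000000060060060060000000000000060060000000000000000000000000000000000000000000000000000000000000000000000000000000000000000000000000000000000000000000000000000000000000000000000000050050000000000000000000000000000000000000000000000000000000000000060060000000000000000000060060000000060060000000000000000000000000060060060060060060000000000000000000000000000000000000000000000000000000000000000000000000000000000000000000000000000000000000000000000000000000000000000000000000000000000000000000000000000000060060000000000000000000000000000000000000000000060060000000000000000000000000000000000000000000000000000000000000000000000000000000000000000000000000000000000000000000060060000000000000000000000000000000000000000000002802800000000000000000000c00d0000000400400000000000000000000000000000000000000000000000000000000a00a00000000000000000000000000000000000000000000000000000000000000000000000000000006006000000006006000000006006000000000000006006001401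4000000000000000000000000000000000000000000000000000000000000060060000000000000060060000000000000000000002202304004000000000000000000000000000000000000000000022022044044000000044044000000000000000000022022000000000000000000000000000000000000000000068068002802800000000000000000000c00d00000060060000000064064001801800000001201302002002002100000000000000000005005000000005005000000000000000000000000000000000000000000000000022022022022000000000000000000000000000000000000000000000000000000000000000000000000000000000000000000000000000000030030000000000000000000030030000000000000000000000000030030030030000000000000030030000000000000000000000000000000000000000000000000000000000000000000000000000000000000000000000000000000000000000a00a02002100000000000008808800000000000000000000000000000000000000000000000000000000000000000000000032032000000000000000000030030000000030030000000000000000000000000036036030030030030000000000000000000000000000000000000000000000000000000000c00c00000000600701001002802800000000000000000000000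00000000000001101100000000000000000000000000000000000000000000000002402400000000000000000000000000000000000000000003803800000000000000000000000000000000000000000000000000000000000000000000000000000000000000000000000000000000000000000002942940300300060060400410360370200200440440000001901900180180000000000001001010800810000000000000000001341341c01c00c00c10a00a01201200000000000000000000d00d00000000000000000000000000000000000000060070100100240240c00c00000000900902c02c00000002802800b00b02802800000000240242002010060060800810000000000000600600d00d00000000000000000000000000000003683680000000180192202201001010000001001000e00e00300300680680000001601601401401401410000000c00c12142140400410000010600610e00e00200210400402282280200200e80e80800800ba0bb00000004a04b00000024824808008004804810010001001100000100a00b20020004c04c21021004804908008006c06c0e00e00ce0ce00000104c04d09809906a06a0280281401400600600060070c00c101a01b01401504a04a09809803c03c23023024224301001004604600000107007103003000e00f0340350020020000007b27b378c78d282283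4004006fc6fc4504515c25c35a05a1c60c6041441435e35e100100b66b6724424406c06c7207214de4def24f25a32a33198199108108d04d053223231801801f61f724c24c74874938038051051111c11d23a23b08008059c59d00800860a60a0400406006006f06f17f07f053053114e14f0ac0ad6c26c24e04e0748748778779de0de17007004e64e65c45c46306314c04c11281292a42a40100100a00a1176177f1cf1d214215330330700700e28e295485498008005dc5dd748748246246250251dc0dc1844844b8eb8f5f05f003c03c2082084724734404417707714c04c16066063803806646654f04f151251355055071e71e65065002002068068009a09b7cc7cc6786796e86e83443441081096066070c00c16b86b8320320626626480481c2ac2b5605617d47d402002136a36a13c13c392392488488f04f054544551c01c07607602142145d05d01be1be69069144c44c5a05a03623632c02c155c55d35435518a18a3303300160172682680a20a3200200b2cb2c5a85a86766760600600a40a56406413403411101100e20e34cc4cc7da7da37037070e70f6006010c00c17007014d84d95505516206215505515f45f41041055705713403407f47f400000038a38b1181193b23b354054002202360060059059048048009a09b2002002b62b6144144baabab1a01a19729736cc6cc87087008008151e51ff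a0fa15b05b05a05a16486484144156826834e84e81a61a728c28d4c44c5060060168168b4cb4c42a42a53053098c98d2c82c850850840040031c31c0b00b12162160480491a21a22142147907905505512a82a92e02e0e92e92460461b2cb2c0340352c22c214014129a29a4204205005001581593b03b106006065a65b6206218828837347350ac0ac2e02e016e16f350350462463a40a414b84b8d3cd3c4964960680684e04e01581587c07c12a02a01dc1dd3ac3ad74274340040037e37e0940957b27b23c03c16326335b05b11481492b02b00ae0ae58c58c5845846606607347354904913663661701714704710b00b10160160000006ae6ae6346356ec6ec4c84c96386381fc1fc08e08f5e05e15965970500503843855c05c039c39c6c06c148a48a6e06e015a15a3183182442451401414364371681683d23d251051014a14b3883882d22d26d86d80c20c31841843b03b014014056856854c54d2f82f80c00c073e73e69469570a70b5405414484485605613f03f04804812022032002004424427007014e64e74a44a57e07e10300305e85e964c64d51a51a55055110c10d68068028e28f2882887227232402400ba0bb40040152052070470568e68f7d07d00720734e44e43223225d05d10f20f27347341941955c85c83c03c14104103a03a030030123c23c5045040020034484487a87a837437558e58f3c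03c142c42d6e86e86d06d12102106d06d04f04f178078110010033e33e31831879a79b4804805c85c81d81d870870817017066a66b42c42d7a07a14d04d17f87f95285291221236606613ae3ae1c81c91801816e86e809c09c4f44f42702713103111261262f42f44fa4fa6806810620637e07e15345342002012a42a40280296506510d00d00b60b737c37c2022031c01c01241254604607787787207213323322d02d14ea4eb6806805265265f45f421a21b5105114a44a51641645585587007017287285f85f863a63b0f00f022c22c1cc1cc5b85b93803811b21b31181180520526d06d13a03a146c46c3863861f01f10a60a73403411e81e90b80b842c42d68068047a47b5a05a02902900f80f973673742842851a51a2d82d81e41e411011118a18b6686694824820c00c15125122142140140144004013803805285296786785985980b40b522422430a30b5d05d12242243043043683685405403623634d04d07e87e91a01a125e25f1f01f10720730080097f67f716016135c35d21021142a42a6b46b504c04c2f82f80680686cc6cd58a58b3c03c118c18d5545551081084e04e11e61e61501503b03b03903900d00d12642657907900a00a03223225a45a43023022c02c03be3be58c58c1241242582590000010900900960963503507f27f20400402ac2ad4b84b80360371001000500510000015e05e172c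72d1aa1ab5085097ce7cf7ac7ac7827834d04d17aa7ab5445452802803c03c02ee2ee0200213603604c04c06086086106112582580f80f80240256446450e20e317017102602604c04c6526530000004d24d211c11c0a40a420020052e52e00c00c72c72d2f82f849e49e6646647327337607611ae1af11011068068042842840a40b4544544b44b546046168468540c40d68a68a5f05f012a12a0c00c01201200c00c137e37e6bc6bd2ea2ea3c03c073273349c49d7ec7ed0000006e26e279c79c0c00c020820870e70e2502500000015205201421420240255ba5bb4d04d15a45a56046045805810000007187194a04a076e76e51851865465569069006206354054028428579c79d50a50a54854928028125425556e56f3803804ae4ae08c08c4a04a065865857457549449558e58e3c03c12ae2af2782782882896806806866874d44d43a23a34c04c035635665c65c25a25b5085094c44c55a05a13863872202206b66b71601613303312482493423423c83c802002020020007e07e7a07a14c84c81f81f92722727707711921932702713f23f37a87a855c55c1301317007004544541e21e36406406be6be4f84f866c66c44044066e66f2742754424432602604f84f83f43f536a36b1681681c01c14a84a92c82c94c04c17547556d06d03963972502513ca3cb1c01c01241250e00e02d22d250450528a28b1b81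b95145144a44a545645760060049c49c6606615185186006010b40b52a42a57d07d02102113dc3dd0780784124136886893623630800815a05a058058109c09c15415423a23b3383380d40d42b02b04604614a04a002c02d0a00a05205204d04d12842850dc0dd3163161a01a135c35d4ac4ad47e47e39039012612701c01d7c07c04404413063074b44b42ea2ea1c81c81e21e235435572472414014047a47a7287295905913c03c05ce5cf2542547f27f23a03a109a09b3203217807805e85e82342343e83e85b05b11a01a056e56e6886882882881c01c030c30c58058179079147047176276259059108a08b2082085725732742750240240000005a05a070470558e58f4304314464472e02e02522534904906c86c80500500fa0fb7e07e12602615c45c56026025c05c021621628028134a34b12812855e55f3443451b21b35105111561561fc1fd2d82d96886883ea3ea3f83f902c02d1401415d25d25c45c42882881b01b043e43f7c87c960a60b4f04f04fa4fb5d45d52542544c04c016616718c18c4aa4aa40040059e59e5005006206213803804e84e849c49d5585584b04b03ea3eb7f47f53ba3ba0600617f27f30840842322325005006f66f77e87e94c84c940040127a27b7dc7dc3b23b25b05b10ec0ec5b45b41861874684690260276e86e902202208008022e22e5e85e82d82d944844969269332832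84aa4ab1201207607616c86c85fe5fe1481497da7da7847845d45d428028010c10c0200204b64b74684685525530400415fc5fc2f02f07c07c06286297327327187186306305a05a12b22b258058039e39e37037025425453853909a09b6fc6fc2b82b91c01c12842840940956d06d07607613f43f57007004d64d620020111211233833954454402802825e25f2682680aa0ab0400412322325245255ac5ac5085092a42a41b01b15105107207216506514584581be1be4c84c84124123703705905917a07a15e05e178c78d6fa6fb1c81c80960961cc1cd6f26f31401413923922a82a82982997b07b123e23e4444440f00f10e00e12ae2ae1b41b42fc2fc2002005c45c55fc5fc4604606c06c03b03b03703704384386d86d94b64b735c35d3903902a02a03003005f05f07627630780794d44d51901901e21e25805801da1da4784787f07f06706700980993a43a512a12a5b05b13ee3ee1cc1cd0300314a84a836e36e4644654d44d50000012aa2aa19019118c18c2d82d844c44d13c13c2862861101117d07d14ac4ad3023030f80f817c17d7a87a95385391801811501506cc6cc0460475105101621632342353b23b32d02d11441443603607407410400412622625645653d43d516016003a03b7d87d902c02c0f80f824824805c05d2762761301306c46c51b01b10da0da73073113013006c06c1ae1ae000001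
  | 5 => 0xc00c00000000000000000000000000000000000000000000000000c00c00c00c00000000000000000000000000000000000000c00c00000000000000000000000000000000000000c00c00000000000000000000000000000000000000000000000000c00c00000000000000000000000000000000000000000000000000000000000000000000000000000000c00c00000000000000000000000000000000c00c00c00c00000000c00c00c00c00000000000000000000000000c00c00c00c00c00c00c00c00000000000000000000000000c00c00000000000000c00c00c00c00000000000000000000000000000000000000000000000000000000000000000000000000000000000000000000000000000000000000000000000000000000000000000000000000000000c00c00c00c00000000c00c00000000c00c00000000c00c00000000000000c00c00000000c00c00000000000000000000000000000000000000000000000000000000000000000000000000c00c00000000000000c00c00000000000000000000000000c00c00000000000000000000000000000000000000000000000000000000000000000000000000000000000000000000000000000000000000000000000000000000000000000000000000000000000000000000000000000000000000000000000000000000c00c000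00000000000000000000000000000c00c00c00c00000000000000000000c00c00000000000000000000c00c00000000000000000000000000000000000000000000000000000000000000000000000000000000000000000000000000000000000000000000000000000000000000000000000000c00c0000000000000000000000000000000000000000000000000000000000000000000000000000000000000000000000000000000000000000000000000000000000000000000000000000000000000000000000000000000000000000000000000000000000000000000000000000000000000000000000000000000000000000000000000000000000000000000000000000000000000000000000000000000000000000000000000000000000000000000000000000000000000000000000000000000000000000000000000000000000000000000000000000000000000000000000000000000000000000000000000000000000000000000000000000000000000000000000000000000000000000000000000000000000000000000000000000000000000000000000000000000000000000000000000000000000000000000000000000000000000000000000000000000000000000000000000000000000000000000000000000000000000000000000000000000000000000000000000000000000000000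0000000000000000000000000000000000000000000000000000000000000000000000000000000000000000000000000000000000000000000000000000000000000000000000000000000000000000000000000000000000000000000000000000000000000000000000000000000000000000000000000000000000000000000000000000000000000000000000000000000000000000000000000000000000000000000000000000000000000000000000000000000000000000000000000000000000000000000000000000000000000000000000000000000000000000000000000000000000000000000000000000000000000000000000000000000000000000000000000000000000000000000000000000000000000000000000000000000000000000000000000000000000000000000000000000000000000000000000000000000000000000000000000000000000000000000000000000000000000000000000000000000000000000000000000000000000000000000000000000000000000000000000000000000000000000000000000000000000000000000000000000000000000000000000000000000000000000000000000000000000000000000000000000000000000000000000000000000000000000000000000000000000000000000000000000000000000000000000000000000000000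0000000000000000000006006000000000000000000000000000000000000000000000000006006006006000000000000000000000000000000000000006006000000000000000000000000000000000000006006000000000000000000000000000000000000000000000000006006000000000000000000000000000000000000000000000000000000000000000000000000000000006006000000000000000000000000000000006006006006000000006006006006000000000000000000000000006006006006006006006006000000000000000000000000006006000000000000006006006006000000000000000000000000000000000000000000000000000000000000000000000000000000000000000000000000000000000000000000000000000000000000000000000000000000006006006006000000006006000000006006000000006006000000000000006006000000006006000000000000000000000000000000000000000000000000000000000000000000000000006006000000000000006006000000000000000000000000006006000000000000000000000000000000000000000000000000000000000000000000000000000000000000000000000000000000000000000000000000000000000000000000000000000000000000000000000000000000000000000000000000000000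0060060000000000000000000000000000000060060060060000000000000000000060060000000000000000000060060000000000000000000000000000000000000000000000000003003000000000000000000000000000000000000000000001801900000000000000000020020000000000000000000062062000000000000000000000000000000000000000000000000000000000000000000000000000000000000000000000000000000000000000000000000000000000000000000000000000000000000000000000000000000000000000000000000000000000000000000000000000000000000000000000000000000000000000000000000000000000000000000000000038038003003100000000000000000000000000c00c0000000060062902913883880000000000000000000000000000000000002202200000000000000000000000000000000000003003000000000000000000000000000000000000000000000000003003000000000000000000000000000240240000000060060800810000000000000000000000000000002802800000000000000000000000000000003003003203200000003003003003000000000000000000000000003183183003003c03c030030000c00c00000006606704004031031006006000000030030038038000000000000000000000000000000000000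000000001401400000002002100000000600602002110410400000011011000000014014000000000000011011004204310010000000000000024024034034000000025825900000038038000000020020000000000000020e20f08008030430400000000c00c00000000600710010000000000000000000000000000000000000004204320020002802800000032032000000000c00c0000000400412802800280290000000000000000001001000000000000000000000e60e70080080240240000000000000480480000000000000a00a00000001801800c00c000000000000000000000000008a08b0100100a00a018018002c02c0000000c60c60200210000002902900000000000000840840000000060072002002542550000000300310000002202200c00c00000001201203043040000001001001001010000000000000000000000001461471481481641641201210500500680680000000b00b114c14d04804802802812012015415524024100000002002008a08a20020102002004004004e04e0200210040040100110800800440441a81a80a00a110610600000110c10c0000000f80f81781780ca0cb18018004c04d04c04d0980981001000740740f00f002e02f1201200e00e004004001a01a00000103e03f01401411211304004004c04c08008000000110010003803907007103a03b02802800a00a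0000010020030000000d40d565c65c8a08a17b07b05865871d81d905a05b1f01f074e74f5f45f4420420e88e8993693705005021c21c0e00e06f66f6448448214215ee0ee06346353ac3ac4c04c00e00e1646646324325e18e184a84a84b24b230c30d0c20c248048028a28a4604610800819089085c05c147847823e23e2402406786782f02f118818856056018a18a6ec6ed4f24f37a07a06f86f99e89e93003006086096c46c42f02f01ca1cac10c10a6aa6b7a47a589a89a8208210660664b44b56c26c2500501a74a74d2cd2deeaeea89089001c01c5b05b0106107430431c9cc9c45845911e11fd58d5995e95e6206213823835805816bc6bc77c77c2022027587592822837707712b42b403003006406468c68c6c66c76406402ae2ae77c77c7b07b14804813823834bc4bd3783795c85c9612613240240834835b60b613fc3fcd70d7050a50bac8ac971e71ff60f61602602740740efaefb4fc4fcc60c601281291f41f42d42d46e66e65805801001000d40d47ca7cb0700702962966d06d12c02c18008005a65a72a42a5e52e525f05f11f61f73e03e0724724a10a101fc1fc70870803e03e21021011c11d2002005825830200217b27b24a04a128c28d1a01a04ec4ec5b45b44264266a06a06f66f77f47f44aa4ab0800802142153c43c503803868068158e58e4904906106101681691521534bc4bc6706704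8048119a19baccacc6986995705703843850fc0fd7c67c6d60d608d68d671c71d4624626f06f0ca4ca50000010200214e04e1f0af0a1b81b841a41a4b04b16946956f86f80080083803802ae2af12412506206209809926a26a20420415415408008109809818c18c5a25a333833970e70e2182185c05c116016009e09e9d49d41d81d82382391841855d05d073073107007028c28d6bc6bd6fe6fe4804807de7df6686690c40c460060133833903403536a36b7787796dc6dc0580592ae2af0e00e17d07d05d45d53003014704704364372502516386382a02a10ba0bb4684690d40d45a85a97cc7cd61c61c2762771101100c40c44584590b80b85e85e929229228c28d0280294004004ac4ad21021117e17e39039112212213013152c52c44044017417544c44d0c20c26786794864864a04a01f21f30400407b47b44e04e07d27d20f00f00ee0ee39439517417451051063c63c33c33c2082095305314184183843841001011801816b06b14504510ba0ba0180195865861fc1fd6226223c03c17667675f45f55985981f01f14284283ac3ac0560577e07e053453414c14c7227223b03b032e32f6246251481491a01a129a29a68c68d03a03b1c81c848c48d0240253d23d35805802ac2ad4fc4fc6966960080080980981b41b40820820800801881890e80e807e07f1c01c14624637447457dc7dd08008174074136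436533a33a3203203863862482493c03c11501510800800200207327333a03a16426435a05a06c86c858058031631756456565c65d0880892da2db72c72d4324322c02c13de3de1e01e00ea0ea75075138e38f2242246b86b87e07e07507501141144824824884891121137d07d02e42e42d02d06966964484487b87b81d81d978678735435565065140040141e41e22c22c6986991381395ce5cf7707707b47b52a02a01761762e42e50a40a466866942c42c6ec6ec27a27b3c03c17c27c30c80c83123121e01e11961961ac1ac1921931601613223226886896f06f10600602702707ac7ac59e59e38038127e27f0280292202201901910dc0dc5505511d01d00100111781793143153203201101112102114c84c86526531001010ce0ce7ec7ed11c11c3b03b019419439c39d7827821b01b061661741c41d4624622882881821832a42a51381397007002ac2ad0000011201200100102722726186191c01c04c04c02462464fc4fd08a08a3503517067074044041981990400405685691d41d41ca1ca6506511701704944953423431b01b07c67c66106112c42c518818928a28a6a46a50d40d52802807ae7af1dc1dc29a29b2882883b63b61541542c22c32f02f03743751f81f82fa2fa1601610820822f02f150c50d6406401d81d81d41d41d81d84d04d17427433803802c02c01601600cc0cd03c03d140141178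17801e01e1c41c40900910000003d83d877c77c3f03f17107114784783b83b920e20e3103105065065245245285286706703383393103113d23d21601614024035105112622636f06f16246250480484464470c00c048048007407474674756856962262230430437837850050118a18b6a86a82fc2fc2482497e67e746c46d0f20f23a03a06ac6ac1401403323337187191ce1ce60c60d7047047a07a16006010180181701717207217be7be0a40a51e81e867067012c12c6006002f62f61681690f00f17e47e47c67c76806801261276486484ac4ac2082090fa0fa5bc5bd3123127207206ac6ac4a84a81361377587592f62f670c70c1421436006004584597747752da2da5d05d03963976f46f409c09c16016016c16d4b84b86066065b05b11841844704716c66c668068114c14d5945942102106786786ae6af0d80d90d00d119019002802962c62d6926923a83a87f47f57b07b15fe5fe60060167a67b5cc5cc5d85d831831938438535435471a71b42042104c04c0100114be4bf3503511221226086092c22c30000007b27b31cc1cc7727726786792b02b11d41d45425420700712ac2ac4ec4ec0b60b73503513b43b53c43c57767770a00a16486484d04d13723720080086966967fc7fd4a04a06906907007007e87e848a48a1201211e21e32442443f03f05c05c07067065645654f04f01a01a033c33d4984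995c25c37007001ac1ac2102105ca5ca7b87b81501502bc2bc7e87e878078114c14c5e85e84c84c97c07c07ba7ba3183193023024404415cc5cc2cc2cc4084095a85a950650764864823c23c28028115a15a0d40d40d40d51101103de3de09c09d04a04b01001105405420c20d5465472702717c87c834434571a71a24024126e26e2942940340350d80d92c42c56986985825821001002962974fc4fc4a44a542042141441456c56d1861875005010a80a82f82f912e12f72872940040111c11d1621630600605e05e15685690920925b85b87427421e01e16a26a32002010340355645653a23a34084096566567b47b514c14d04004004804855055000e00e5885881741751e01e10820834004006346350f40f43e63e73c03c01a21a334834877a77a6006011701704f44f421a21a7207214ac4ad6406411301301401406d26d27787787d87d838838835235318418507407543043078e78e0180192aa2aa5805806686692b02b01461460800815725736486482142142c02c064a64b1841854884882502515725725dc5dc79c79c2f02f04b44b43883882262275405416926931901904d84d83b83b82962975685691821822f02f109c09c7b47b52402400c00c15c05c01e01e038238278078134434570c70d4d84d82402400f80f92f82f93da3db3c03c03e83e90980991161163e83e96766776f06f070a70a3c03c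166c66d15015033a33a1101113703700c00c01081080c00c026e26e15415569c69c3f83f84ca4cb6a06a075075170070118c18c5705716c66c71f01f13403404a04a170670604004105e05e3743743043057e87e92342343c43c544a44b54054075e75e1781794844857707712ac2ad60c60c3fe3ff1c01c14c24c24a84a851c51d1281286006003903907c07c04004016ec6ed1fc1fc7027033a83a96506515f85f87fe7fe1f01f10580593583593823825485494c64c660460430230214014167e67e1d41d50bc0bc1981993c83c83dc3dd3ae3af23023036236264c64c42242304804918418560c60c7727720400403d63d61601602122120900903b43b552c52d05605612012014a14b2e82e834a34b3703701e81e87a07a07f27f23403411641655bc5bc09809836036124024000000151a51b2c02c146c46d7107105d05d01e01e01c41c53203202ee2ef4004011cc1cd1f41f51081090180193563565e85e90640645e05e012012172872911e11e3283297427427747742882890c00c17b07b01a81a80b80b94804802b02b17107111c21c32702715b85b95a85a804004112012008208347c47c11a11a1001007ea7ea3683691ea1ea29029107807837c37c0d00d00b00b00060073d03d005205319819825a25b1cc1cc42242376076112212306c06d03803951051152c52c0680691b21b212012001001103c03c1c61c60000010460461dc1dc100100000001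
  | 6 => 0xc00c00000000000000000000000000000000000000000000000000000000000000000000000000000000000000000000000000000000c00c00000000000000000000000000000000000000c00c00000000000000000000000000000000000000000000000000000000000000000000000000000000000000000000000000000000000000000000c00c00000000c00c00c00c00000000000000000000000000000000c00c00c00c00c00c00c00c00c00c00c00c00000000000000c00c00000000000000000000c00c00000000000000000000000000000000000000000000000000000000000000000000000000000000000000000000000000000000000000000000000000000000000000000000000000000000000000000000000000000000000000000000000000000000000000c00c00000000000000000000c00c00000000000000000000000000000000000000000000000000000000000000000000000000000000000000000000000000000000000000000000c00c00000000000000000000000000000000000000000000000000000000000000000000000000000000000000000000000000000000000000000000000000000000000000000000000000000000000000000000000000000000000000000000000000000000000000000000000000000000000000000000c00c000000000000000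00000000000000000c00c00c00c00c00c00000000000000000000c00c00000000000000000000000000c00c00000000000000c00c00000000000000000000000000000000000000000000000000000000000000000000000000000000000000000000000000c00c00000000000000000000000000c00c00000000000000000000000000000000000000c00c00000000c00c00000000000000c00c00c00c0000000000000000000000000000000000000000000000000000000000000000000000000000000000000000000000000000000000000000000000000000000000000000000000000000000000000000000000000000000000000000000000000000000000000000000000000000000000000000000000000000000000000000000000000000000000000000000000000000000000000000000000000000000000000000000000000000000000000000000000000000000000000000000000000000000000000000000000000000000000000000000000000000000000000000000000000000000000000000000000000000000000000000000000000000000000000000000000000000000000000000000000000000000000000000000000000000000000000000000000000000000000000000000000000000000000000000000000000000000000000000000000000000000000000000000000000000000000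0000000000000000000000000000000000000000000000000000000000000000000000000000000000000000000000000000000000000000000000000000000000000000000000000000000000000000000000000000000000000000000000000000000000000000000000000000000000000000000000000000000000000000000000000000000000000000000000000000000000000000000000000000000000000000000000000000000000000000000000000000000000000000000000000000000000000000000000000000000000000000000000000000000000000000000000000000000000000000000000000000000000000000000000000000000000000000000000000000000000000000000000000000000000000000000000000000000000000000000000000000000000000000000000000000000000000000000000000000000000000000000000000000000000000000000000000000000000000000000000000000000000000000000000000000000000000000000000000000000000000000000000000000000000000000000000000000000000000000000000000000000000000000000000000000000000000000000000000000000000000000000000000000000000000000000000000000000000000000000000000000000000000000000000000000000000000000000000000000000000000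0000000000000000000006006000000000000000000000000000000000000000000000000000000000000000000000000000000000000000000000000000000006006000000000000000000000000000000000000006006000000000000000000000000000000000000000000000000000000000000000000000000000000000000000000000000000000000000000000006006000000006006005005000000000000000000000000000000006006005005006006006006005005006006000000000000006006000000000000000000006006000000000000000600600000000000000000000000000000000000000000000000000000000000000000000000000000000000000000000220231001000000000000000000000000000000000000000000000000000000000000000000000000000000000000004404400000000000000000006006000000000000000000000000000000000000000000000000000000000000000000000000000000000000000000000000000000000000000000004804800000000000000000000000000000000000000000000000000000000000000000000000000c00c00000000000000000000000000c00c000000000000000000000000000000000000000000000000000000000000004404400000008008100000000000000000003003000000000000000000000000060060000c0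0c0000000100110000000480486006006006006006000000000500501201206006000000000000000000000000006006001001010000006006001401400000000000000a00a000000000000000000000000000000000000000000000000000000000000000000000000068068000000000000003c03c00000068668601001120820800000000000000000001801870070000000061061000c00d0000006006006806800000000000000000000000000000000000000000000000000000000000000000000000000000000000000000000000000000000000000000000000000000000000000000000000000000000000000000000000000000000000000000000000000000000000000000003003000000000000000000000000000000000000000000000000000000000000000000000000000500510c00c000000000000000000030030000000000000008008000000000000000000030030000000000000000000000000000000000000000000000000000000000000000000000000000000000000000000002202308008000000000000024024005005030030000000000000000000000000000000000000020020100000030030032032000000030030000000000000030030000000000000001401530030002002000000000000000000000000000000005005000000000000000000000000018018000000000000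00000000000001201200000001801800000000000000000000000000000000000000000000000000000000000000000000000000000000000000000000000000000000000000000003403401801800000000000000000000000000000000000000000000000000000000000000000000000000000000000000000000000000000000000000000000000000000001801800120120a00a00000000000000000000000000000000000000b00b00000000000000000000000000000000000000c00c00120131001010000000000000000000000000c00c00000001901900000000000000000000140140000000be0be08008102402509009000800800000021021002402509009108008000000001401428028120020128c28d0000001b01b00500502382390000000000000000000000002202200580581001013903900000001001010000000420421401410000000c00c006006018018001201304004004004104004104004004004008008026426501001004004000800810010024024009809923a23b00000010010004004014814924824808008021021008c08c02c02c20020124024104004007007008a08b0d00d00520520b00b100800804004000000001c01c0e00e00f80f913013017417400000004004100600702802804c04c01001000400403c03c0080090400410400400080080000010200210a40a503c03c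0000000000011661665185180b40b4e78e787647656006005da5da6606604c04c031c31c1381394584582882897e47e513e13e4604611b01b10c00c150e50e7407416706709809805425424f04f06b86b8540540136137310310cdacda0700701d81d86006006d86d94f84f90fa0fb29029005605674074002202252052049c49d1d81d8060061420421142143288289484485260260b72b7366c66d954955a20a201181183303311a01a0740741640640844844bb8bb8f20f2184a84ada8da8d4cd4c200201282282a64a650fc0fc650651088088ed8ed92d02d07307316486495605615085094684697f87f84244251261270e00e114e14f3343355605600480485785796506510c20c330030132032144c44d4ca4cb0e80e95d25d35ec5ed78478408008171271340440418a18a1481482942955085082722734c04c0af8af94884897aa7aa388389f3af3a4044054644640c00c12a82a86406406826825b05b140e40f18818831831821021134034052452526e26e01001061c61c694694640641300300e76e7758c58d28a28b7b07b17f87f952852953a53b4e04e01641641a81a83ca3cb7607606646655205202182183e03e05605607a87a800a00a34834877e77e3543553403411b01b07987980c00c02822822e02e109c09d20420571e71e24024148c48c08008043a43b6a06a1570571304304600600780780b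84b843a03a01f61f6778779540540160161826826da0da1efaefb1541555325331d81d8e0ce0c0c00c0780780000001094094cfccfc5d05d12e02e18008005c05c10200201001013b63b62102112c42c42d02d03f03f02242240600611101114dc4dc6306317a87a8460461228229fccfcd5f65f676076139c39d160160b1eb1f4404407c47c50540555805815a05a07e07e18c08c1112112ad8ad944c44d2cc2cc9a09a0c00c017fc7fd0140147327322882887a47a57847856c06c10500510f40f41d01d15085096106101e81e941441514014170070063c63d69c69d54854819819805605755855910010135035051851909809947a47a22022020a20a12012154054040040051051055c55c5a85a97b87b87907912142145165175c05c055855966466458a58b58058078a78a74c74d0540545405410440440540541da1da36036167267203803959a59a4804816c86c90600615d65d76d06d01e21e30e80e818818864064024a24b45c45c4d44d53c03c14fe4ff7087090d80d80e00e116e16e1941940400414404400000012a82a800600760060172e72f4ac4ad0d40d47c07c145a45b6406404984996806803ba3ba0d40d52ea2eb7787785c45c408c08d1861873803812a42a520020008e08f3303304604617d07d139a39b6c06c16a06a10e40e550a50a0f00f07c67c64e84e82c02c00600601321333d03d04b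84b85405410580583443451701717c07c06726735a85a803c03d0a80a94904901101103f23f354054167067010c10c0480495605613f23f250050168468511011061e61e53053031a31a3c83c829429554854806606700000078878862462425025051851847e47e21c21d68068078078020620753053069a69a0880887047052fc2fc2802805005003b03b01c81c83d03d02482482b62b710c10d58c58c1801810620621f41f57487483583597027034704707047046e06e059659723823955855875875838a38a7a87a83c43c57407412fa2fa0a00a02502506106104144147b47b56b26b238038110a10b50050019a19a25025106e06e2342343583592d02d175c75d2742745d05d03503515065070d80d91b41b506006130c30c7007001921925605617487480d00d02582580e00e00800800a40a40500513003015625630300304a04a00000013463476886887ac7ac7e07e02c02c13d83d91001010000000540556986996f86f94204200dc0dc2e42e506e06f3a03a078c78d42442424624648048064c64c7b47b403003111011031831811c11d05e05f63863955655706c06c4524525405416226230ec0ec41c41c3983997a07a13103102102114c04c10340341501500ae0af3883891321325e45e418018038038063a63b6586580ca0ca03003145845904c04c00800838038100c00d094095068068210211268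2690800810800810000012562565985991121136206217767774744747c47c51f01f140a40a3843840a20a34904911821824d04d11a01a06006014a44a40fc0fc7927934d84d972672704804959059146046141c41c7e07e116e16f1101106e46e430430519819968068070470474874805a05a1c01c05665664784783143145105107b07b01f41f53a23a35a85a817a17a1341357d27d23c03c00e20e241c41d1441451881881e41e40280282b62b75305305ac5ad2642641f81f97f87f82982994344354124130000010640652202216106114584592b42b47307300da0da49049057a57b7f47f45a25a27e87e868c68c4e84e83e03e11001001f01f03803817f27f33903904044045605602402403403403763776e86e873073123823858258265865950050128028169a69a4704703c83c91d01d10e00e17d07d136e36f58058017e17e6d06d158c58c1c01c040a40a5205206606611801802da2db7687687aa7aa5905916c86c911011106806910010114414479879902e02e29829848e48e6086087027030000016ae6ae4884891701704e84e870c70c63063178a78a5b05b123223300000103803844044177e77f6b06b11641650200207987995a45a43123122902917747752502501801810900916b46b40a80a81d01d124824840640617417458458428028074874834c34d1361377207205ee5ee25425458a5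8b3303301f41f436c36d1121125885897607601081081f01f05a05a149c49c2fc2fc4fa4fa5a85a96e26e32782797e47e53203201301304304307d07d118818824a24a4804812aa2ab2802800f60f724424535c35c2382392aa2ab3b43b44204211001004404405f05f05225235f05f00f60f74d04d051451576076010a10b2e02e110a10b7f87f94be4be3ac3ad0d80d87a07a145c45d21821814814802802855855909009131031164064159659728c28c6106111e81e96046057347345705701e01e01241240840855ce5ce5285282c62c75d05d02e42e572072169c69c6986985c05c106806926626654c54c08a08a3c03c14da4da3783785885882602600ae0ae2402414044046006006d86d840440566266373073062e62e0f80f97b27b36b06b05ee5ee7c87c94e24e35885884c64c74d04d12b02b06e06e11321330080092fc2fc0080086e46e52b82b85525535d05d14924932f82f949a49b5a05a03883882ac2ad18218264064035035078c78c4be4be0a00a14084095f85f83123130000002ac2ad1a81a82162174004000960971dc1dd21c21c7e07e142a42b4044041181185985995745745805817307305a05a018418534c34c0660676906916c66c70000000c80c81001011f21f222c22d1c41c41901906a86a979879912e12e5005017067072082094ac4ac2202207c67c654454527227224024123823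93403407967966186181a21a30240243f43f56a06a17707716606613e23e308008140a40b3183183c43c57007003de3de0380383d03d15d05d00800815085087367370c00c143843868c68d01a01b1b01b01c01c15a85a92782780e00e16806807747743f83f848848962c62d0b40b54f64f74b04b02542556d06d14a64a63a03a04024031d01d070c70d5005002d22d216016106206313013137a37b36436571271210010039839925825843a43b1501506d06d07fc7fd4584584004007de7df14814953c53c6a06a00a40a54ec4ed1c61c761061066466519c19c1421426606615065065c45c441441428028032c32d72872801001020020105a05b3c43c50180181e01e04f64f633c33c5545540700706ec6ed1a01a11201201c01c012e12e7d87d80740754b04b07647653b83b91521522d02d012412412812921021048848969a69a08c08c6426421001010da0db6f06f14c84c86506513983983003001601600c00c10c00c146846842a42a5005010460470c00c00c80c828028144e44e7687680200206986984b24b34c44c51fa1fb3903900820822ec2ec3c83c85a85a843e43e0280286946957807815605612942953203210180196ae6af3343350c20c25305300c80c91b81b90d20d30a00a024224253c53c3e43e524024002a02b7747741a21a311011070e70e00000119419429029126e26f1cc1cd1b01b029829917c17d3ac3ac16e16f000001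
  | _ => 0xc00c00c00c00000000000000000000000000000000000000c00c00000000000000000000000000000000000000000000c00c00c00c00c00c00000000c00c00000000000000000000000000000000000000000000000000000000000000000000000000000000000000000000000000000000000000000000000000000000000000000000000000000000c00c00c00c00c00c00c00c00000000000000c00c00000000000000c00c00000000c00c00c00c00000000c00c00c00c00000000000000000000000000000000000000000000000000000000000000000000000000000000000000000000000000000000000000000000000000000000000000000000000000000000000000000000c00c00000000000000c00c00000000000000000000000000000000000000000000000000000000000000000000000000000000000000000000000000000000000000000000000000000000000000000000000000000000000000000000000000000000000000000000000000000000000000000000000000000000000000000000000000000000000000000000000000000000000000000000000000000000000000000000000000000000000000000000000000000000000000000000000000000000000000000000000000000000000000c00c00000000000000c00c00000000000000000000000000c00c000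00000000000000000000000000000000000000000000000000000000000000000000000c00c00000000000000000000000000000000000000000000000000000000000000000000000000000000000000000000000000000000000000000000000000000000000000000000000000c00c00000000000000000000000000000000000000000000c00c00c00c0000000000000000000000000000000000000000000000000000000000000000000000000000000000000000000000000000000000000000000000000000000000000000000000000000000000000000000000000000000000000000000000000000000000000000000000000000000000000000000000000000000000000000000000000000000000000000000000000000000000000000000000000000000000000000000000000000000000000000000000000000000000000000000000000000000000000000000000000000000000000000000000000000000000000000000000000000000000000000000000000000000000000000000000000000000000000000000000000000000000000000000000000000000000000000000000000000000000000000000000000000000000000000000000000000000000000000000000000000000000000000000000000000000000000000000000000000000000000000000000000000000000000000000000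0000000000000000000000000000000000000000000000000000000000000000000000000000000000000000000000000000000000000000000000000000000000000000000000000000000000000000000000000000000000000000000000000000000000000000000000000000000000000000000000000000000000000000000000000000000000000000000000000000000000000000000000000000000000000000000000000000000000000000000000000000000000000000000000000000000000000000000000000000000000000000000000000000000000000000000000000000000000000000000000000000000000000000000000000000000000000000000000000000000000000000000000000000000000000000000000000000000000000000000000000000000000000000000000000000000000000000000000000000000000000000000000000000000000000000000000000000000000000000000000000000000000000000000000000000000000000000000000000000000000000000000000000000000000000000000000000000000000000000000000000000000000000000000000000000000000000000000000000000000000000000000000000000000000000000000000000000000000000000000000000000000000000000000000000000000000000000000000000000000000000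00000000000000000000060060060060000000000000000000000000000000000000060060000000000000000000000000000000000000000000060060060060060060000000060060000000000000000000000000000000000000000000000000000000000000000000000000000000000000000000000000000000000000000000000000000000000000000000000000000000060060060060060060060060000000000000050050000000000000060060000000060060060060000000066066060060000000000000000000000000000000000000000000001801800000000000000000000c00c0000000060060200211101100000000000000000000000000000000000000000000000000000000000000000006006000000000000004404400000000000000000000000000000000000000000000000000000000000000000000000000000000000000000000000000000000000000000000000000000000000000000000000000000000000000000000000000000000000000000000000000000000000000000000000000000000000000000000000000000000000000000000000000000000000000000000000000000000000000000000000000000000000000000000000000a00a00000000000000000000000000000000000000000000000000000006006000000000000006006000000000000000300300000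0060060000000000000000000000000000000001801800000000000000000000c00c00000000600670070100000000000000000000000000000000000000000000000000000000000000000000000000000000000000000000000000000000000000000000000000000000000000000000000070070000000000000000000000000000000000000000000068068060460400000020020100000000000000000000000000000000000000000000000000000000000000000000000000000000000000000000000000000000000000000000000000000000000000000000000000000000000000000000000000000000000000000000000000000000000000000000000000000000000000000030030030030000000000000000000000000000000000000030030000000000000000000000000000000000000000000030030030030030030000000030030000000000000000000000000000000000000000000000000000000000000000000000000000000000000000000000000000000000000000000000000000000000000000000000000000000030030030030030030030030000000000000000000003003000000030030000000036036030030000000030030030030100000000000000000000000000000000000000000012012000000000000000000003003000000000000000000000000000000000000000000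001401400000010010100000000000000000000000000000024024000000000000000000000000000000000000000000000000000000000000000000000000000000000000000000000000000000000000000000000000000000000000000000000000000000000000000000000000003c03c00000002002100000007807806006000000000a00b01001000a00b1201201881880900900880880000000500500a00a000000012012001401503003102002000000001401400000008e08e1a01a119019018018000a00a1801810000000000000b80b80000000000000c00c00ca0cb0800800ac0ac0a40a52302310800800880882802810000000a00a00c00c00000002302300000000000000000000000000000000240251a81a812612610010110210300800800000020020100000000c00c1081090200211641641081080260261001011201200080080600600400400a40a508c08c0c00c000000110010009c09c05805807007107207204804906a06b0000002462470180180b40b50900900b40b408808810610608008122a22a2002010b80b92002000780780800800a00a008008008c08c0800800500510e00e00b80b80000000400400800800a40a500800807007005005106406405005106606700000004804808c08c01001001001102e02e01c01c0020030000016d86d86f46f44904901001002f02f0018019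44e44f21021155a55b25025042a42ad98d98ce4ce46e46e50400407a07a123e23f4544547b87b8a98a987c27c34884884c44c44d04d146446533c33c4d04d1fe8fe9e16e1790090118a18ad80d806c26c25ec5ed7a27a20180194804805645646306313603615485483043043003007487487f27f24b84b93c03c07c07c137e37e6006010020030880892f02f1788789068069330330402403d7cd7cd12d12d28d28d58d58340340292292a00a000e00e00b40b5e5ee5e700701bd4bd494894854a54bc60c60a52a536bc6bc74c74d2102105f25f36706703403411c01c14444454404410e80e96c06c17467462d42d50a20a20700703003001e41e51321337707712742743303310c80c94c04c156a56b1d81d83823831a01a0f8ef8f48048168c68c93093010210348848917c17c24824844a44b79079172a72a5a05a044e44f52c52c6aa6ab51851918818939839860a60b00000060460422822841e41f3a03a06e66e771c71c2c02c110010108008043043050250264864964c64c2ec2ed0ae0af6c06c06706706c86c824e24f32832910c10c5ac5ad2222220e00e069669740c40d1d41d47f87f91121130840850800802d02d02ac2ac2cc2cd39e39e02802868e68e33833958c58d3803803d23d33ac3ac3143151801814964966d06d07dc7dd46046077e77e6f06f09fc9fd498498170170ad0ad039e39e0000017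8c78c67c67cfe2fe268868801801911411445e45f1d01d139a39a7ec7ec5745741981994864877047047d47d5e00e010d00d06e06e16a06a07787792362371ec1ec5345346706704ce4ce53c53c24c24c70070019419420c20d3a23a32202200d20d36d86d86726723b03b02162170180196586592602609169175405417fa7fb390391664665304304656656500500f3ef3fbbcbbc3ba3ba30030160460552052141841814014171271233833807a07a4184187aa7ab0400410d40d518018148e48f7047056c86c91701705c85c95885882922920600617307310a40a43aa3ab30030007e07e19c19c4124134004012522533903905c05c11601606646645f45f54e04e10c00c05505516946953203205e05e05665676586585c25c30e00e01401410080093d83d87987997e47e55b05b05a65a60c00c00820832c02c01f21f26a06a16826831141144c24c358058030a30a1cc1cd23c23c0980995d85d85685683f83f82702710660663ac3ac19219356056166866906c06c7c67c63c03c149849979879876e76f3e03e07407417e07e15a85a82a02a05005015f45f55c65c740840812a12b3ac3ac5905917007004644654304313f03f117817862462458c58d35235203003026026178478466e66e3f03f14724723703702a22a34c04c14264271381394884886886894ba4bb2dc2dd5b45b53403411881885305315e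05e13c03c12fe2fe16016148248350050110a10a0680696246255585586266265605613a03a05005014644640c80c81721735d05d00020022202206d86d90800804584595ac5ac25e25f0480490380380400402c82c80100104fa4fb2d42d541841825825911c11c29c29c75275260060145e45f14c14c5bc5bd6f06f020c20c3e83e85b25b37707715665672482487bc7bc7307305ce5ce4444450f80f81801802a82a80d40d407e07f3283282962970c00c11aa1ab6606602302300580587a67a65f85f86b26b27487494824833003007fc7fd6c06c169669606006144a44a6406416606614c04c12242247a47a55f65f74184181d01d128428428a28a7407407127123643644a84a97207201841854304311d61d65c05c162862979c79d42e42e11011048a48b69069169469530030016c16d3b43b57927922e02e14d44d41e01e11861877a07a145245315015135c35d0e00e06f06f074074069a69b6c06c04184192782792c02c11101106c26c25545547f07f172072112a12b7a47a46e06e12c82c926e26f3583583723724c04c13063062d82d93303300180186986995205201f21f21601607027036b06b05a45a507007122e22e6fc6fc5085090600615405403383392de2df3e83e80c20c20140154924930a00a108408509009039a39a3b83b854c54c0900901061060000004ba4bb67c67c7827830480483be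3bf1cc1cc6646650800804ba4bb2b02b17d47d45f85f878e78e7647643283285405413d63d75045056ec6ec0180196326337c87c969869975075155055009009060260367067046a46b2502501041045805807f27f25605604604611781784964976846857cc7cd1301315365361841853a83a866866945a45b4484492c02c07c07c105c05c6506501861871a01a048c48d6ec6ec0e20e23403407c47c552452471e71f68068154654700000138c38c1001000c20c20480495fc5fc7007012d82d93bc3bc40e40e7307310a80a975875847e47e1c81c95e85e850c50c07807830030150e50e5c05c12e42e461061141e41e08008105005021021113c13d0080093023024204210400400fc0fd5465465005007d27d22c02c12722723f03f17d47d44484494b64b727027134e34f6d06d017c17d1c01c16806817007004da4db7007017227236686697ea7eb5f85f90e60e60800805625621f01f15ac5ad2a82a944a44a1981997f67f657857802402420020019a19b4e84e853853843843858a58a1141140e40e56e06e14124136f46f40c00c11b81b91b81b86686692d02d03603607c07c04944953ea3ea6786781cc1cc3183181081080400413023030900910020030800804a04a01441445605611c01c13a03a130030037e37f2782794b24b26fc6fd5e25e26e06e06966977c47c53ea3eb70870934c34d0000002122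122002005a45a45f85f85065065f05f01e41e43443446366361501513423425b05b06886890d00d05005007e07e16ca6cb5805801701704ac4ac7367374c84c80780790580594c04c11c01c16866874184180380397807802462463043041dc1dd1c01c01dc1dc6f06f05e65e60080081f61f72042056c26c220020105605645045078278314014155a55a3e83e95045045805807327320000012842851181196ea6ea7247257787792302307107100200213703715885885465460ac0ad3c23c22402405305314bc4bc48848812012163263369069015a15b0100105525531d81d80b00b035835816e16f11c11d51251340040001e01f2202217987980100106586585d05d17607610b00b14024026606600f40f55085087f47f57ac7ad6e06e00200217987991c81c92de2de5f85f946846870c70d7327333903901d61d71e81e926426574074144c44c2582595e05e04004002582581f01f00f20f31c01c159a59a6206212682680300300160161141152942956a06a05445441ec1ec7627623e03e14c64c770c70d5325330c00c059c59c6b46b44424422302317967974844857207206a06a01421421a01a07aa7aa5805814a64a64e44e51521522d82d87387387387390a00a03c03c118e18f73873977277211011053453528c28d0680687207214344350d00d06186187707704c84c91e01e051a51b2e02e10b00b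044c44c6ea6ea3d83d81f41f40d40d44004014004002d82d91cc1cd7a67a665065175e75e6046051941946c06c166666637437411c11d4584583e63e60d00d04ec4ed2a02a130a30a6986982942951081081781790c00c01261270a00a154c54d2e02e14284281f01f029029007007040a40b50050054c54c0f40f47207204e04e005e05e1181194dc4dc6806804e84e80980984c84c86986985585587ac7ad3c63c72c02c03ca3ca1001012f02f038038171e71e33c33d1b21b255055120a20b1c81c94804815005004ac4ad4c84c95005010400404da4da7ac7ad6ac6ad3003015e85e96246244f64f66006002a02a174c74d6d26d264064136636712412430230264064049c49c1c01c05165177f07f01aa1aa7cc7cc29429443043163863840040071871909009052e52e0440457527531001010fe0fe0180197307301b81b956a56a0d40d405c05d5f05f07f27f21c41c50a00a032032070e70e62062141a41b5e05e149049026c26d1c21c21981994424427e07e160460571071117c17d4b84b969669615815907a07a29829909a09a4c04c12e82e91641643a23a22502517c07c042842930030121021168068152c52d6786780280281c21c35305306046040200215a25a30180190980981801803043052f02f15e65e61b01b100000100c00d1701713d03d1476476008008028029000001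

/-- the networks of the generators -/
noncomputable def n2 (j : ℕ) : Lib.PermNet.Net := H64.TW.bn (nat_lit 11) (C2 j)

/-- the table of `-1` -/
noncomputable def SG : ℕ := Nat.xor (H64.TW.idt (nat_lit 2160)) (H64.TW.ones (nat_lit 2160))

theorem tabs2 : ((List.range 2160).all fun p => Nat.beq (dg (H64.TW.idt 2160) p) p && Nat.beq (dg SG p) (sg p)) = true := by
  decide +kernel

theorem idt2 (p : ℕ) (hp : p < 2160) : dg (H64.TW.idt 2160) p = p :=
  Nat.eq_of_beq_eq_true (Bool.and_eq_true_iff.1 (List.all_eq_true.1 tabs2 p (List.mem_range.2 hp))).1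

theorem dg_SG (p : ℕ) (hp : p < 2160) : dg SG p = sg p :=
  Nat.eq_of_beq_eq_true (Bool.and_eq_true_iff.1 (List.all_eq_true.1 tabs2 p (List.mem_range.2 hp))).2

/-- the table of the word is `Z` -/
noncomputable def e2 (u : List ℕ) (Z : ℕ) : Bool := Nat.beq (H64.TW.wt n2 u (H64.TW.idt (nat_lit 2160))) Z

theorem nets8 : ((List.range 8).all fun j => H64.TW.okN 12 2160 (T2 j) (n2 j) && e2 [j, j] SG) = true := by decide +kernel

theorem nets2 (j : ℕ) : H64.TW.okN 12 2160 (T2 j) (n2 j) = true := by
  by_cases h : j < 8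
  · exact (Bool.and_eq_true_iff.1 (List.all_eq_true.1 nets8 j (List.mem_range.2 h))).1
  · obtain ⟨n, rfl⟩ : ∃ n, j = n + 7 := ⟨j - 7, by omega⟩
    have e1 : T2 (n + 7) = T2 7 := rfl
    have e2 : C2 (n + 7) = C2 7 := rfl
    have h7 : H64.TW.okN 12 2160 (T2 7) (n2 7) = true := (Bool.and_eq_true_iff.1 (List.all_eq_true.1 nets8 7 (by decide))).1
    delta n2 at h7 ⊢
    rw [e1, e2]
    exact h7

theorem w2 (w : List ℕ) {p : ℕ} (hp : p < 2160) : ap2 w p < 2160 ∧ ∀ V, dg (H64.TW.wt n2 w V) p = dg V (ap2 w p) :=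
  H64.TW.wt_spec (T := T2) (fun _ => rfl) (fun _ _ _ => rfl) (fun l _ hp => H64.TW.okN_spec idt2 (nets2 l) hp) w hp

theorem e2_spec {u : List ℕ} {Z : ℕ} (h : e2 u Z = true) {p : ℕ} (hp : p < 2160) : ap2 u p = dg Z p := by
  rw [← (Nat.eq_of_beq_eq_true h : H64.TW.wt n2 u (H64.TW.idt 2160) = Z), (w2 u hp).2, idt2 _ (w2 u hp).1]

theorem sq2 (j p : ℕ) (hp : p < 2160) : dg (T2 j) (dg (T2 j) p) = sg p := by
  have key : ∀ i < 8, dg (T2 i) (dg (T2 i) p) = sg p := fun i hi =>
    (e2_spec (Bool.and_eq_true_iff.1 (List.all_eq_true.1 nets8 i (List.mem_range.2 hi))).2 hp).trans (dg_SG p hp)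
  by_cases h : j < 8
  · exact key j h
  · obtain ⟨n, rfl⟩ : ∃ n, j = n + 7 := ⟨j - 7, by omega⟩
    have e1 : T2 (n + 7) = T2 7 := rfl
    rw [e1]
    exact key 7 (by decide)

theorem ok2 (j p : ℕ) (hp : p < 2160) : dg (T2 j) p < 2160 ∧ dg (T2 j) (dg (T2 j) p) = sg p ∧
    dg (T2 j) (sg p) = sg (dg (T2 j) p) := by
  have h1 : dg (T2 j) p < 2160 := (w2 [j] hp).1
  refine ⟨h1, sq2 j p hp, ?_⟩
  rw [← sq2 j p hp, sq2 j _ h1]

/-- the letters -/
def S2 (j : ℕ) : Equiv.Perm (Fin 2160) where
  toFun p := ⟨dg (T2 j) p, (ok2 j p p.2).1⟩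
  invFun p := ⟨sg (dg (T2 j) p), sg_lt (ok2 j p p.2).1⟩
  left_inv p := Fin.ext (by
    show sg (dg (T2 j) (dg (T2 j) p)) = p
    rw [(ok2 j p p.2).2.1, sg_sg p.2])
  right_inv p := Fin.ext (by
    show dg (T2 j) (sg (dg (T2 j) p)) = p
    rw [(ok2 j _ (ok2 j p p.2).1).2.2, (ok2 j p p.2).2.1, sg_sg p.2])

/-- `-1` -/
def z2 : Equiv.Perm (Fin 2160) where
  toFun p := ⟨sg p, sg_lt p.2⟩
  invFun p := ⟨sg p, sg_lt p.2⟩
  left_inv p := Fin.ext (sg_sg p.2)
  right_inv p := Fin.ext (sg_sg p.2)

/-- the generators -/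
def h8 (j : Fin 8) : Equiv.Perm (Fin 2160) := S2 j.val

theorem ev_val2 (w : List (Fin 8)) (p : Fin 2160) : (ev h8 w p).val = ap2 (w.map Fin.val) p.val := by
  induction w generalizing p with
  | nil => rfl
  | cons l w ih =>
    rw [ev_cons]
    show (S2 l.val (ev h8 w p)).val = dg (T2 l.val) (ap2 (w.map Fin.val) p.val)
    rw [← ih]
    rfl

theorem z2_sq : z2 * z2 = 1 := by
  apply Equiv.ext
  intro p
  exact Fin.ext (sg_sg p.2)

theorem z2_ne : z2 ≠ 1 := by
  intro h
  have h1 := congrArg Fin.val (congrArg (fun f : Equiv.Perm (Fin 2160) => f 0) h)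
  have h2 : sg 0 = 0 := h1
  revert h2
  decide

theorem z2_comm (j : Fin 8) : h8 j * z2 = z2 * h8 j := by
  apply Equiv.ext
  intro p
  exact Fin.ext (ok2 j.val p p.2).2.2

/-- the word is `-1` -/
def chkm (u : List ℕ) : Bool := (List.range 2160).all fun p => Nat.beq (ap2 u p) (sg p)

/-- the word is `1` -/
def chkp (u : List ℕ) : Bool := (List.range 2160).all fun p => Nat.beq (ap2 u p) p

theorem chkm_of {u : List ℕ} (h : e2 u SG = true) : chkm u = true :=
  List.all_eq_true.2 fun p hp => by
    rw [e2_spec h (List.mem_range.1 hp), dg_SG p (List.mem_range.1 hp)]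
    exact Nat.beq_refl _

theorem chkp_of {u : List ℕ} (h : e2 u (H64.TW.idt (nat_lit 2160)) = true) : chkp u = true :=
  List.all_eq_true.2 fun p hp => by
    rw [e2_spec h (List.mem_range.1 hp)]
    exact (congrArg (fun x => Nat.beq x p) (idt2 p (List.mem_range.1 hp))).trans (Nat.beq_refl p)

theorem ev_eq_z2 {w : List (Fin 8)} (h : chkm (w.map Fin.val) = true) : ev h8 w = z2 := by
  apply Equiv.ext
  intro p
  apply Fin.ext
  rw [ev_val2]
  exact Nat.eq_of_beq_eq_true (List.all_eq_true.1 h p (List.mem_range.2 p.2))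

theorem ev_eq_one2 {w : List (Fin 8)} (h : chkp (w.map Fin.val) = true) : ev h8 w = 1 := by
  apply Equiv.ext
  intro p
  apply Fin.ext
  rw [ev_val2]
  exact Nat.eq_of_beq_eq_true (List.all_eq_true.1 h p (List.mem_range.2 p.2))

/-- the Coxeter relations of a row -/
def chkRow2 (i : Fin 8) : Bool := (List.finRange 8).all fun j =>
  decide (j < i) || chkm ((rep (lab i j) [i, j]).map Fin.val)

theorem rows2 : ((List.finRange 8).all fun i => (List.finRange 8).all fun j =>
    decide (j < i) || e2 ((rep (lab i j) [i, j]).map Fin.val) SG) = true := by decide +kernel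

theorem row2_all (i : Fin 8) : chkRow2 i = true :=
  List.all_eq_true.2 fun j hj => by
    have h := List.all_eq_true.1 (List.all_eq_true.1 rows2 i (List.mem_finRange i)) j hj
    rw [Bool.or_eq_true] at h ⊢
    exact h.imp_right chkm_of

theorem rel2_of_le {i j : Fin 8} (h : i ≤ j) : (h8 i * h8 j) ^ lab i j = z2 := by
  have h1 := List.all_eq_true.1 (row2_all i) j (List.mem_finRange j)
  rw [Bool.or_eq_true, decide_eq_true_eq] at h1
  have h2 := ev_eq_z2 (h1.resolve_left (not_lt.2 h))
  rw [ev_rep, ev_cons, ev_cons, ev_nil, mul_one] at h2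
  exact h2

theorem rel2 (i j : Fin 8) : (h8 i * h8 j) ^ lab i j = z2 := by
  rcases le_total i j with h | h
  · exact rel2_of_le h
  · have h1 := rel2_of_le h
    rw [lab_symm] at h1
    have h2 : h8 i * h8 j = h8 i * (h8 j * h8 i) * (h8 i)⁻¹ := by group
    rw [h2, conj_pow, h1, z2_comm, mul_inv_cancel_right]

theorem e7_check2 : chkp ((rep 9 e7w).map Fin.val) = true := chkp_of (by decide +kernel)

theorem h8_e7 : ev h8 e7w ^ 9 = 1 := by
  rw [← ev_rep]
  exact ev_eq_one2 e7_check2

theorem spider_check2 : chkm ((rep 10 spider).map Fin.val) = true := chkm_of (by decide +kernel)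

theorem h8_spider : ev h8 spider ^ 10 = z2 := by
  rw [← ev_rep]
  exact ev_eq_z2 spider_check2

/-! ### The group -/

/-- the shift -/
def z3 : Equiv.Perm (Fin 1134) := ev g8 spider ^ 10

theorem z3_ne : z3 ≠ 1 := spider_ne

theorem z3_cube : z3 ^ 3 = 1 := spider_cube

theorem z3_val (p : Fin 1134) : (z3 p).val = sh p.val := spider_val p

/-- the generators -/
def s6 (j : Fin 8) : Equiv.Perm (Fin 2160) × Equiv.Perm (Fin 1134) := (h8 j, g8 j)

/-- **The group** -/
abbrev Six : Subgroup (Equiv.Perm (Fin 2160) × Equiv.Perm (Fin 1134)) := Subgroup.closure (Set.range s6)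

/-- the generators in the group -/
def y6 (j : Fin 8) : Six := ⟨s6 j, Subgroup.subset_closure ⟨j, rfl⟩⟩

theorem ev_fst (w : List (Fin 8)) : (ev s6 w).1 = ev h8 w :=
  map_ev (MonoidHom.fst (Equiv.Perm (Fin 2160)) (Equiv.Perm (Fin 1134))) s6 w

theorem ev_snd (w : List (Fin 8)) : (ev s6 w).2 = ev g8 w :=
  map_ev (MonoidHom.snd (Equiv.Perm (Fin 2160)) (Equiv.Perm (Fin 1134))) s6 w

theorem coe_ev6 (w : List (Fin 8)) : ((ev y6 w : Six) : Equiv.Perm (Fin 2160) × Equiv.Perm (Fin 1134)) = ev s6 w :=
  map_ev (Subgroup.subtype Six) y6 w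

theorem closure_y6 : Subgroup.closure (Set.range y6) = ⊤ := by
  have h1 := Subgroup.closure_closure_coe_preimage (k := Set.range s6)
  have h2 : (Subtype.val : Six → Equiv.Perm (Fin 2160) × Equiv.Perm (Fin 1134)) ⁻¹' Set.range s6 = Set.range y6 := by
    ext x
    constructor
    · rintro ⟨j, hj⟩
      exact ⟨j, Subtype.ext hj⟩
    · rintro ⟨j, rfl⟩
      exact ⟨j, rfl⟩
  rw [← h2]
  exact h1

/-- the central element of order six -/
def ω : Six := ev y6 spider ^ 10

theorem coe_ω : ((ω : Six) : Equiv.Perm (Fin 2160) × Equiv.Perm (Fin 1134)) = (z2, z3) := by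
  rw [ω, Subgroup.coe_pow, coe_ev6]
  apply Prod.ext
  · rw [Prod.pow_fst, ev_fst, h8_spider]
  · rw [Prod.pow_snd, ev_snd]
    rfl

theorem coe_ω3 : ((ω ^ 3 : Six) : Equiv.Perm (Fin 2160) × Equiv.Perm (Fin 1134)) = (z2, 1) := by
  rw [Subgroup.coe_pow, coe_ω]
  apply Prod.ext
  · rw [Prod.pow_fst, pow_succ, pow_two, z2_sq, one_mul]
  · rw [Prod.pow_snd, z3_cube]

theorem ω_order : orderOf ω = 6 := by
  have h6 : ω ^ 6 = 1 := by
    apply Subtype.ext
    rw [show ω ^ 6 = ω ^ 3 * ω ^ 3 from by rw [← pow_add], Subgroup.coe_mul, coe_ω3, Prod.mk_mul_mk, z2_sq, one_mul]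
    rfl
  have h3 : ω ^ 3 ≠ 1 := by
    intro h
    have h1 : ((ω ^ 3 : Six) : Equiv.Perm (Fin 2160) × Equiv.Perm (Fin 1134)) = 1 := congrArg Subtype.val h
    rw [coe_ω3] at h1
    exact z2_ne (congrArg Prod.fst h1)
  have h2 : ω ^ 2 ≠ 1 := by
    intro h
    have h4 : ω ^ 4 = 1 := by rw [show (4 : ℕ) = 2 * 2 from rfl, pow_mul, h, one_pow]
    have h1 := congrArg (fun x : Six => (x : Equiv.Perm (Fin 2160) × Equiv.Perm (Fin 1134)).2) h4
    apply z3_ne
    have h5 : ((ω ^ 4 : Six) : Equiv.Perm (Fin 2160) × Equiv.Perm (Fin 1134)).2 = z3 := by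
      rw [pow_succ, Subgroup.coe_mul, coe_ω3, coe_ω]
      exact one_mul _
    rw [← h5]
    exact h1
  have hd : orderOf ω ∣ 6 := orderOf_dvd_of_pow_eq_one h6
  have hle := Nat.le_of_dvd (by norm_num) hd
  have n3 : ¬ orderOf ω ∣ 3 := fun h => h3 (orderOf_dvd_iff_pow_eq_one.1 h)
  have n2 : ¬ orderOf ω ∣ 2 := fun h => h2 (orderOf_dvd_iff_pow_eq_one.1 h)
  interval_cases hk : orderOf ω <;> first | rfl | omega

theorem rel6 (i j : Fin 8) : (y6 i * y6 j) ^ lab i j = ω ^ 3 := by
  apply Subtype.ext
  rw [coe_ω3, Subgroup.coe_pow, Subgroup.coe_mul]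
  apply Prod.ext
  · rw [Prod.pow_fst]
    exact rel2 i j
  · rw [Prod.pow_snd]
    exact g8_liftable i j

theorem ω_comm (j : Fin 8) : y6 j * ω = ω * y6 j := by
  apply Subtype.ext
  rw [Subgroup.coe_mul, Subgroup.coe_mul, coe_ω]
  apply Prod.ext
  · exact z2_comm j
  · exact comm_gen j

theorem ω_center : ω ∈ Subgroup.center Six := by
  rw [Subgroup.mem_center_iff]
  have h1 : ∀ x : Six, x ∈ Subgroup.centralizer {ω} := by
    intro x
    have h2 : (⊤ : Subgroup Six) ≤ Subgroup.centralizer {ω} := by
      rw [← closure_y6, Subgroup.closure_le]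
      rintro _ ⟨j, rfl⟩
      rw [SetLike.mem_coe, Subgroup.mem_centralizer_singleton_iff]
      exact ω_comm j
    exact h2 (Subgroup.mem_top x)
  exact fun x => Subgroup.mem_centralizer_singleton_iff.1 (h1 x)

theorem y6_e7 : ev y6 e7w ^ 9 = 1 := by
  apply Subtype.ext
  rw [Subgroup.coe_pow, coe_ev6]
  apply Prod.ext
  · rw [Prod.pow_fst, ev_fst, h8_e7]
    rfl
  · rw [Prod.pow_snd, ev_snd, g8_e7]
    rfl

theorem perfect6 : commutator Six = ⊤ := by
  have hc : Abelianization.of (ω ^ 3) = 1 := by
    have h1 := congrArg Abelianization.of (rel6 0 2)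
    have h2 := congrArg Abelianization.of (rel6 0 0)
    have h3 := congrArg Abelianization.of (rel6 2 2)
    rw [show lab 0 2 = 2 from rfl, map_pow, map_mul] at h1
    rw [show lab 0 0 = 1 from rfl, pow_one, map_mul] at h2
    rw [show lab 2 2 = 1 from rfl, pow_one, map_mul] at h3
    rw [pow_two, mul_mul_mul_comm, h2, h3] at h1
    exact mul_eq_left.1 h1
  have h1 : ∀ i, Abelianization.of (y6 i) = 1 := by
    refine comm_trivial (s := fun i => Abelianization.of (y6 i)) ?_ ?_
    · intro i j
      show (Abelianization.of (y6 i) * Abelianization.of (y6 j)) ^ M8 i j = 1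
      rw [← map_mul, ← map_pow, M8_apply, rel6, hc]
    · rw [← map_ev, ← map_pow, y6_e7, map_one]
  rw [← Abelianization.ker_of, eq_top_iff, ← closure_y6, Subgroup.closure_le]
  rintro _ ⟨i, rfl⟩
  exact (MonoidHom.mem_ker).2 (h1 i)

/-- **The six-fold cover of `Ω₇(3)`** -/
theorem exists_six : ∃ σ : Six →* H8, PCE σ ∧ (∀ j, σ (y6 j) = x8 j) ∧ σ.ker = Subgroup.zpowers ω := by
  have hzle : Subgroup.zpowers ω ≤ Subgroup.center Six := by
    rw [Subgroup.zpowers_le]; exact ω_center
  have hZn : (Subgroup.zpowers ω).Normal := normal_of_le_center hzle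
  set q := QuotientGroup.mk' (Subgroup.zpowers ω) with hq
  have hqs : Function.Surjective q := QuotientGroup.mk'_surjective _
  have hqk : q.ker = Subgroup.zpowers ω := QuotientGroup.ker_mk' _
  have hqω : q ω = 1 := by rw [← MonoidHom.mem_ker, hqk]; exact Subgroup.mem_zpowers ω
  have l1 : M8.IsLiftable (fun i => q (y6 i)) := by
    intro i j
    show (q (y6 i) * q (y6 j)) ^ M8 i j = 1
    rw [← map_mul, ← map_pow, M8_apply, rel6, map_pow, hqω, one_pow]
  have l2 : ev (fun i => q (y6 i)) spider ^ 10 = 1 := by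
    rw [← map_ev, ← map_pow]
    exact hqω
  have l3 : ev (fun i => q (y6 i)) e7w ^ 9 = 1 := by
    rw [← map_ev, ← map_pow, y6_e7, map_one]
  set τ := Fischer.Y322.lift l1 l2 l3 with hτ
  have hτs : Function.Surjective τ := by
    rw [← MonoidHom.range_eq_top, hτ, range_lift]
    have h1 := congrArg (Subgroup.map q) closure_y6
    rw [MonoidHom.map_closure, ← MonoidHom.range_eq_map, MonoidHom.range_eq_top.2 hqs, ← Set.range_comp] at h1
    exact h1
  have hτi : Function.Injective τ := by
    apply injective_of_ne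
    by_contra hcon
    push Not at hcon
    have h1 : (⊤ : Subgroup Six) ≤ Subgroup.zpowers ω := by
      rw [← hqk]
      intro x _
      obtain ⟨h, hh⟩ := hτs (q x)
      rw [MonoidHom.mem_ker, ← hh, hcon]
    have h2 : commutator Six = ⊥ := by
      rw [commutator_def, Subgroup.commutator_eq_bot_iff_le_centralizer]
      intro x _
      rw [Subgroup.mem_centralizer_iff]
      intro y _
      exact (Subgroup.mem_center_iff.1 (hzle (h1 (Subgroup.mem_top x))) y)
    rw [perfect6] at h2
    have h3 : ω = 1 := Subgroup.mem_bot.1 (h2 ▸ Subgroup.mem_top ω)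
    have h4 := ω_order
    rw [h3, orderOf_one] at h4
    omega
  set e := MulEquiv.ofBijective τ ⟨hτi, hτs⟩ with he
  have hk : (e.symm.toMonoidHom.comp q).ker = Subgroup.zpowers ω := by
    rw [ker_congr, hqk]
  refine ⟨e.symm.toMonoidHom.comp q, ⟨e.symm.surjective.comp hqs, by rw [hk]; exact hzle, perfect6⟩, ?_, hk⟩
  intro j
  show e.symm (q (y6 j)) = x8 j
  rw [MulEquiv.symm_apply_eq]
  show q (y6 j) = τ (x8 j)
  rw [hτ, lift_x8]

/-! ### Words -/

/-- `C X = - X C` on the spin module -/
def chk2 (X C : List (Fin 8)) : Bool := (List.range 2160).all fun p =>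
  Nat.beq (ap2 ((C ++ X).map Fin.val) p) (sg (ap2 ((X ++ C).map Fin.val) p))

/-- `C X = z X C` on 1134 points -/
def chk3 (X C : List (Fin 8)) : Bool := (List.range 1134).all fun p =>
  Nat.beq (ap ((C ++ X).map Fin.val) p) (sh (ap ((X ++ C).map Fin.val) p))

theorem chk2_of {X C : List (Fin 8)} (h : e2 ((C ++ X).map Fin.val) (H64.TW.wt n2 ((X ++ C).map Fin.val) SG) = true) :
    chk2 X C = true :=
  List.all_eq_true.2 fun p hp => by
    rw [e2_spec h (List.mem_range.1 hp), (w2 _ (List.mem_range.1 hp)).2, dg_SG _ (w2 _ (List.mem_range.1 hp)).1]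
    exact Nat.beq_refl _

theorem chk3_of {X C : List (Fin 8)}
    (h : H64.TW.e3 ((C ++ X).map Fin.val) (H64.TW.wt H64.TW.n3 ((X ++ C).map Fin.val) H64.TW.SH) = true) : chk3 X C = true :=
  List.all_eq_true.2 fun p hp => by
    rw [H64.TW.e3_spec h (List.mem_range.1 hp), (H64.TW.w3 _ (List.mem_range.1 hp)).2,
      H64.TW.dg_SH _ (H64.TW.w3 _ (List.mem_range.1 hp)).1]
    exact Nat.beq_refl _

theorem comm_six {X C : List (Fin 8)} (h2 : chk2 X C = true) (h3 : chk3 X C = true) :
    ev y6 C * ev y6 X = ω * (ev y6 X * ev y6 C) := by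
  apply Subtype.ext
  rw [Subgroup.coe_mul, Subgroup.coe_mul, Subgroup.coe_mul, coe_ω, coe_ev6, coe_ev6, ← ev_append, ← ev_append]
  apply Prod.ext
  · rw [Prod.fst_mul, ev_fst, ev_fst]
    apply Equiv.ext
    intro p
    apply Fin.ext
    rw [ev_val2, Equiv.Perm.mul_apply]
    show _ = sg (ev h8 (X ++ C) p).val
    rw [ev_val2]
    exact Nat.eq_of_beq_eq_true (List.all_eq_true.1 h2 p (List.mem_range.2 p.2))
  · rw [Prod.snd_mul, ev_snd, ev_snd]
    apply Equiv.ext
    intro p
    apply Fin.ext
    rw [ev_val, Equiv.Perm.mul_apply, z3_val, ev_val]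
    exact Nat.eq_of_beq_eq_true (List.all_eq_true.1 h3 p (List.mem_range.2 p.2))

end Cfsg.Agent.H926.QS.Cover6
end

-- part: H926/QS/O73Fus
section
/-!
# Fusion in the covers of `Ω₇(3)` (helper926)

For words `X`, `C` in the eight letters with `chk2 X C` and `chk3 X C` (`C X = ω X C` in the six-fold cover):

* `fuse` : in every perfect central extension `π : L → H8` some lift `y` of `X` is conjugate to `y z`, `z` a generator
  of the kernel;
* `isC` : if `π g = [X, k]` then `g` is a commutator;
* `row` : `RowA H8`, if every element of `H8` is `[X, k]` up to an automorphism of `H8`, `X` as above.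
-/

set_option autoImplicit false

namespace Cfsg.Agent.H926.QS.O73Fus

open Subgroup
open Cfsg Cfsg.Agent.H51.Mult Cfsg.Agent.H68.Bounds Cfsg.Agent.H6.QO Cfsg.Agent.H777.Ore
open Cfsg.Agent.Fischer.Derived Cfsg.Agent.Fischer.Y322 Cfsg.Agent.Fischer
open Cfsg.Agent.H926.QS.Cover6

universe u v

instance : Fact (Nat.Prime 3) := ⟨by norm_num⟩

theorem card_ker_dvd {L : Type u} [Group L] {π : L →* H8} (hd : PCE π) : Nat.card π.ker ∣ 6 := by
  have hb := Cfsg.Agent.H63.Odd.bd_two 3 (F := ZMod 3) (by decide) le_rfl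
  have h := Cfsg.Agent.H64.O73Two.hasCyclic_six hb (F := ZMod 3) (ZMod.card 3)
  have h1 := (ker_of_hasCyclic h (hd.congr Y322Iso.equiv)).2
  rwa [ker_congr] at h1

/-- `Six` maps onto every perfect central extension, over `H8` -/
theorem exists_theta {σ : Six →* H8} (hσ : PCE σ) (hk : σ.ker = zpowers ω) {L : Type u} [Group L] {π : L →* H8}
    (hd : PCE π) : ∃ θ : Six →* L, Function.Surjective θ ∧ ∀ x, π (θ x) = σ x := by
  obtain ⟨D, _, f, g, hf, hg, hfg, hD, -⟩ := exists_common hσ hd
  have h1 := card_ker_dvd hD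
  have h6 : Nat.card σ.ker = 6 := by rw [hk, Nat.card_zpowers, ω_order]
  rw [card_ker_comp hf.surj, h6] at h1
  have h4 : Nat.card f.ker ∣ 1 := by
    apply Nat.dvd_of_mul_dvd_mul_left (show 0 < 6 by norm_num)
    rw [mul_one]; exact h1
  have h2 : Function.Injective f := by
    rw [← MonoidHom.ker_eq_bot_iff]
    exact Subgroup.eq_bot_of_card_eq _ (Nat.dvd_one.1 h4)
  let e : D ≃* Six := MulEquiv.ofBijective f ⟨h2, hf.surj⟩
  refine ⟨g.comp e.symm.toMonoidHom, hg.surj.comp e.symm.surjective, fun x => ?_⟩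
  have h5 := DFunLike.congr_fun hfg (e.symm x)
  have h7 : f (e.symm x) = x := e.apply_symm_apply x
  rw [MonoidHom.comp_apply, MonoidHom.comp_apply, h7] at h5
  exact h5.symm

/-- **Fusion** -/
theorem fuse {X C : List (Fin 8)} (h2 : chk2 X C = true) (h3 : chk3 X C = true) {L : Type u} [Group L]
    {π : L →* H8} (hd : PCE π) :
    ∃ y z : L, π y = ev x8 X ∧ π z = 1 ∧ (∀ ζ, π ζ = 1 → ζ ∈ zpowers z) ∧ IsConj y (y * z) := by
  obtain ⟨σ, hσ, hσy, hk⟩ := exists_six
  obtain ⟨θ, hθ, hc⟩ := exists_theta hσ hk hd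
  refine ⟨θ (ev y6 X), θ ω, ?_, ?_, ?_, ?_⟩
  · rw [hc, map_ev]
    exact congrArg (fun s => ev s X) (funext fun j => hσy j)
  · rw [hc, ← MonoidHom.mem_ker, hk]
    exact mem_zpowers ω
  · intro ζ hζ
    obtain ⟨x, rfl⟩ := hθ ζ
    rw [hc, ← MonoidHom.mem_ker, hk] at hζ
    obtain ⟨n, rfl⟩ := mem_zpowers_iff.1 hζ
    exact mem_zpowers_iff.2 ⟨n, (map_zpow θ ω n).symm⟩
  · rw [isConj_iff]
    refine ⟨θ (ev y6 C), ?_⟩
    have e : ev y6 C * ev y6 X * (ev y6 C)⁻¹ = ev y6 X * ω := by
      rw [comm_six h2 h3, mul_assoc, mul_assoc, mul_inv_cancel, mul_one, mem_center_iff.1 ω_center]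
    rw [← map_mul, ← map_mul, ← map_inv, ← map_mul, e]

/-- **Commutators** -/
theorem isC {X C : List (Fin 8)} (h2 : chk2 X C = true) (h3 : chk3 X C = true) {L : Type u} [Group L]
    {π : L →* H8} (hd : PCE π) {g : L} {k : H8} (hg : π g = ev x8 X * k * (ev x8 X)⁻¹ * k⁻¹) : IsC g := by
  obtain ⟨y, z, hy, hz, hall, hconj⟩ := fuse h2 h3 hd
  exact isC_of_pair_zpowers hd.surj hd.cen hall hz (x := y) (k := k) (by rw [hy, hg]) hconj

/-- the same for conjugates -/
theorem isC_of_isConj {X C : List (Fin 8)} (h2 : chk2 X C = true) (h3 : chk3 X C = true) {L : Type u} [Group L]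
    {π : L →* H8} (hd : PCE π) {g : L} {k : H8} (hg : IsConj (π g) (ev x8 X * k * (ev x8 X)⁻¹ * k⁻¹)) : IsC g := by
  obtain ⟨c, hc⟩ := isConj_iff.1 hg
  obtain ⟨c, rfl⟩ := hd.surj c
  have h := isC h2 h3 hd (g := c * g * c⁻¹) (k := k) (by rw [map_mul, map_mul, map_inv, hc])
  exact h.of_isConj (isConj_iff.2 ⟨c⁻¹, by group⟩)

/-- the row for `PΩ₇(3)` -/
theorem row_pomega (h : RowA H8) {F : Type u} [Field F] [Fintype F] (hF : Fintype.card F = 3) :
    RowA (Cfsg.POmega F (Cfsg.quadFormOdd 3 F)) := by
  classical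
  have σ : ZMod 3 ≃+* F := FiniteField.ringEquivOfCardEq (by rw [ZMod.card, hF])
  obtain ⟨e⟩ := Cfsg.Agent.UGT.U2.Rec.Congr.nonempty_POmegaOdd σ 3
  exact h.congr (Y322Iso.equiv.trans e)

end Cfsg.Agent.H926.QS.O73Fus
end

-- part: H926/QS/O73Wit
section
/-!
# Witnesses for the classes of `Ω₇(3)` (helper926)

`gd` : for every word `X` of the list `reps` (51 words, helper235) every lift of `X` in every perfect central extension
of `H8` is a commutator: `U X U⁻¹ = [X0, Y]` with `X0 = [4,3,2,5,6]` fused for 2 and 3. For the transposition `X = [6]`: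
`U X U⁻¹ = [X1, Y]` with `X1 = [0,1,2,3,4,6]` fused for 3, and `X` itself is fused for 2.
-/

set_option autoImplicit false
set_option maxRecDepth 100000
set_option Elab.async false

namespace Cfsg.Agent.H926.QS.O73Wit

open Subgroup
open Cfsg Cfsg.Agent.H64.O73Perm Cfsg.Agent.H51.Mult Cfsg.Agent.H6.QO Cfsg.Agent.H777.Ore
open Cfsg.Agent.Fischer.Derived Cfsg.Agent.Fischer.Y322 Cfsg.Agent.Fischer.Y322Iso
open Cfsg.Agent.H926.QS.Cover6 Cfsg.Agent.H926.QS.O73Fus

/-! ### Relations in `H8` from the permutations of degree 1134 -/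

/-- the `j`-th power of the shift -/
def shn : ℕ → ℕ → ℕ
  | 0, p => p
  | j + 1, p => sh (shn j p)

/-- `w` is `z^j` on one point of every block -/
def chkz (j : ℕ) (w : List (Fin 8)) : Bool := (List.range 378).all fun b =>
  Nat.beq (ap (w.map Fin.val) (3 * b)) (shn j (3 * b))

theorem z3_pow_val (j : ℕ) (p : Fin 1134) : ((z3 ^ j) p).val = shn j p.val := by
  induction j generalizing p with
  | zero => rfl
  | succ j ih =>
    rw [pow_succ', Equiv.Perm.mul_apply, z3_val, ih]
    rfl

theorem g8_comm (j : Fin 8) : g8 j * z3 = z3 * g8 j := comm_gen j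

theorem ev_comm (w : List (Fin 8)) : ev g8 w * z3 = z3 * ev g8 w := by
  induction w with
  | nil => rw [ev_nil, one_mul, mul_one]
  | cons l w ih => rw [ev_cons, mul_assoc, ih, ← mul_assoc, g8_comm, mul_assoc]

theorem exists_block (p : Fin 1134) : ∃ (b : ℕ) (hb : b < 378) (i : ℕ), p = (z3 ^ i) ⟨3 * b, by omega⟩ := by
  have hp := p.2
  have e : ∀ q : ℕ, sh q = if q % 3 = 2 then q - 2 else q + 1 := by
    intro q
    unfold sh
    by_cases hq : q % 3 = 2
    · rw [if_pos hq, hq]; rfl
    · rw [if_neg hq]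
      have : Nat.beq (q % 3) 2 = false := by
        cases hb : Nat.beq (q % 3) 2
        · rfl
        · exact absurd (Nat.eq_of_beq_eq_true hb) hq
      rw [this]; rfl
  refine ⟨p.val / 3, by omega, p.val % 3, ?_⟩
  apply Fin.ext
  rw [z3_pow_val]
  show p.val = shn (p.val % 3) (3 * (p.val / 3))
  have h3 : p.val % 3 = 0 ∨ p.val % 3 = 1 ∨ p.val % 3 = 2 := by omega
  rcases h3 with h | h | h
  · rw [h]
    show p.val = 3 * (p.val / 3)
    omega
  · rw [h]
    show p.val = sh (3 * (p.val / 3))
    rw [e, if_neg (by omega)]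
    omega
  · rw [h]
    show p.val = sh (sh (3 * (p.val / 3)))
    rw [e (3 * (p.val / 3)), if_neg (by omega), e, if_neg (by omega)]
    omega

theorem ev_eq_pow {j : ℕ} {w : List (Fin 8)} (h : chkz j w = true) : ev g8 w = z3 ^ j := by
  have hc : ∀ i : ℕ, ev g8 w * z3 ^ i = z3 ^ i * ev g8 w := fun i =>
    ((show Commute (ev g8 w) z3 from ev_comm w).pow_right i).eq
  apply Equiv.ext
  intro p
  obtain ⟨b, hb, i, rfl⟩ := exists_block p
  rw [← Equiv.Perm.mul_apply, hc, Equiv.Perm.mul_apply, ← Equiv.Perm.mul_apply (z3 ^ j), ← pow_add, add_comm j i,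
    pow_add, Equiv.Perm.mul_apply]
  congr 1
  apply Fin.ext
  rw [ev_val, z3_pow_val]
  exact Nat.eq_of_beq_eq_true (List.all_eq_true.1 h b (List.mem_range.2 hb))

/-- words equal to powers of `z` are trivial in `H8` -/
theorem ev_x8_eq_one {j : ℕ} {w : List (Fin 8)} (h : chkz j w = true) : ev x8 w = 1 := by
  set z := ev y8 spider ^ 10 with hz
  have hzle : Subgroup.zpowers z ≤ Subgroup.center Trip := by
    rw [Subgroup.zpowers_le]; exact spider_center
  have hZn : (Subgroup.zpowers z).Normal := normal_of_le_center hzle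
  set q := QuotientGroup.mk' (Subgroup.zpowers z) with hq
  have hqs : Function.Surjective q := QuotientGroup.mk'_surjective _
  have hqk : q.ker = Subgroup.zpowers z := QuotientGroup.ker_mk' _
  have l1 : M8.IsLiftable (fun i => q (y8 i)) := by
    intro i j
    show (q (y8 i) * q (y8 j)) ^ M8 i j = 1
    rw [← map_mul, ← map_pow, y8_liftable, map_one]
  have l2 : ev (fun i => q (y8 i)) spider ^ 10 = 1 := by
    rw [← map_ev, ← map_pow, ← hz, ← MonoidHom.mem_ker, hqk]
    exact Subgroup.mem_zpowers z
  have l3 : ev (fun i => q (y8 i)) e7w ^ 9 = 1 := by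
    rw [← map_ev, ← map_pow, y8_e7, map_one]
  set τ := Fischer.Y322.lift l1 l2 l3 with hτ
  have hτi : Function.Injective τ := by
    apply injective_of_ne
    refine ⟨x8 0, fun h0 => ?_⟩
    rw [hτ, lift_x8] at h0
    have h1 : y8 0 ∈ Subgroup.zpowers z := by rw [← hqk]; exact h0
    have h2 := Subgroup.mem_center_iff.1 (hzle h1) (y8 1)
    have h3 := y8_liftable 0 1
    have hs0 := sq y8_liftable 0
    have hs1 := sq y8_liftable 1
    rw [M8_apply, show lab 0 1 = 3 from rfl] at h3
    -- `y8 0 * y8 1` has order dividing 2 and 3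
    have h4 : (y8 0 * y8 1) ^ 2 = 1 := by
      rw [pow_two, mul_assoc, ← mul_assoc (y8 1), h2, mul_assoc, hs1, mul_one, hs0]
    have h5 : y8 0 * y8 1 = 1 := by
      rw [pow_succ, h4, one_mul] at h3
      exact h3
    have h6 : y8 0 = y8 1 := by
      have := (eq_inv_of_mul_eq_one_left (h5 :) :)
      rw [this, inv_eq_of_mul_eq_one_right hs1]
    have h7 := y8_liftable 1 2
    have h8 := y8_liftable 0 2
    rw [M8_apply, show lab 1 2 = 3 from rfl, ← h6] at h7
    rw [M8_apply, show lab 0 2 = 2 from rfl] at h8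
    have h9 : y8 0 * y8 2 = 1 := by
      rw [pow_succ, h8, one_mul] at h7
      exact h7
    -- `g8 0 = g8 2`
    have hs2 := sq y8_liftable 2
    have h10 : y8 0 = y8 2 := by
      have := eq_inv_of_mul_eq_one_left h9
      rw [this, inv_eq_of_mul_eq_one_right hs2]
    have h11 := congrArg (fun x : Trip => ((x : Equiv.Perm (Fin 1134)) 3).val) h10
    revert h11
    decide +kernel
  apply hτi
  rw [map_one, hτ, map_ev]
  have h1 : (fun i => Fischer.Y322.lift l1 l2 l3 (x8 i)) = fun i => q (y8 i) := funext fun i => lift_x8 l1 l2 l3 i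
  rw [h1, ← map_ev]
  have h2 : ev y8 w = z ^ j := by
    apply Subtype.ext
    rw [Subgroup.coe_pow, hz, Subgroup.coe_pow, coe_ev, coe_ev]
    exact ev_eq_pow h
  rw [h2, ← MonoidHom.mem_ker, hqk]
  exact Subgroup.pow_mem _ (Subgroup.mem_zpowers z) j

/-! ### The table -/

/-- `U X U⁻¹ [X0, Y]⁻¹` -/
def wd (X0 X U Y : List (Fin 8)) : List (Fin 8) :=
  U ++ X ++ U.reverse ++ (Y ++ X0 ++ Y.reverse ++ X0.reverse)

theorem rel_of_chkz {j : ℕ} {X0 X U Y : List (Fin 8)} (h : chkz j (wd X0 X U Y) = true) :
    ev x8 U * ev x8 X * (ev x8 U)⁻¹ = ev x8 X0 * ev x8 Y * (ev x8 X0)⁻¹ * (ev x8 Y)⁻¹ := by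
  have h1 := ev_x8_eq_one h
  rw [wd, ev_append, ev_append, ev_append, ev_append, ev_append, ev_append, ev_reverse x8_liftable,
    ev_reverse x8_liftable, ev_reverse x8_liftable] at h1
  rw [mul_eq_one_iff_eq_inv] at h1
  rw [h1]
  group

/-- an entry -/
structure Row where
  X : List (Fin 8)
  U : List (Fin 8)
  Y : List (Fin 8)
  j : ℕ

/-- the doubly fused word -/
def X0 : List (Fin 8) := [4, 3, 2, 5, 6]

/-- the element which moves the lifts of `X0` -/
def C0 : List (Fin 8) := [0, 7, 3, 2, 6, 5, 2, 3, 4, 1, 2, 3, 0, 1, 2, 6, 7, 5, 4, 3, 1, 2, 6, 3, 4, 5, 2, 3, 4, 1, 2, 3,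
  0, 1, 2, 6, 7, 2, 6, 3, 4, 5, 4, 3].reverse

theorem x0_two : chk2 X0 C0 = true := chk2_of (by decide +kernel)

theorem x0_three : chk3 X0 C0 = true := chk3_of (by decide +kernel)

/-- the table of the square of the shift -/
noncomputable def SH2 : ℕ :=
  Nat.sub (Nat.add (H64.TW.idt (nat_lit 1134)) (Nat.mul (nat_lit 3) (Nat.div (H64.TW.full (nat_lit 1134)) (nat_lit 68719476735))))
    (H64.TW.ones (nat_lit 1134))

theorem tabs4 : ((List.range 1134).all fun p => Nat.beq (dg SH2 p) (sh (sh p))) = true := by decide +kernel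

/-- the fast check -/
noncomputable def fz (j : ℕ) (w : List (Fin 8)) : Bool :=
  Nat.rec (motive := fun _ => Bool) (H64.TW.e3 (w.map Fin.val) (H64.TW.idt (nat_lit 1134))) (fun i _ =>
    Nat.rec (motive := fun _ => Bool) (H64.TW.e3 (w.map Fin.val) H64.TW.SH) (fun i _ =>
      Nat.rec (motive := fun _ => Bool) (H64.TW.e3 (w.map Fin.val) SH2) (fun _ _ => false) i) i) j

theorem chkz_of {j : ℕ} {w : List (Fin 8)} (h : fz j w = true) : chkz j w = true :=
  List.all_eq_true.2 fun b hb => by
    have hp : 3 * b < 1134 := by have := List.mem_range.1 hb; omega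
    match j, h with
    | 0, h =>
      rw [H64.TW.e3_spec (Z := H64.TW.idt 1134) h hp, H64.TW.idt3 _ hp]
      exact Nat.beq_refl _
    | 1, h =>
      rw [H64.TW.e3_spec (Z := H64.TW.SH) h hp, H64.TW.dg_SH _ hp]
      exact Nat.beq_refl _
    | 2, h =>
      rw [H64.TW.e3_spec (Z := SH2) h hp, Nat.eq_of_beq_eq_true (List.all_eq_true.1 tabs4 _ (List.mem_range.2 hp))]
      exact Nat.beq_refl _
    | _ + 3, h => exact absurd (h : false = true) Bool.false_ne_true

theorem all_of {l : List Row} (h : (l.all fun t => fz t.j (wd X0 t.X t.U t.Y)) = true) :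
    (l.all fun t => chkz t.j (wd X0 t.X t.U t.Y)) = true :=
  List.all_eq_true.2 fun t ht => chkz_of (List.all_eq_true.1 h t ht)

/-- witnesses -/
def tab0 : List Row := [
  ⟨[3, 5, 1],
    [1, 6, 2, 3, 4, 7, 6, 2],
    [1, 6, 2, 3, 4, 7, 6, 2, 7, 3, 2, 6, 4, 5, 3, 4, 2, 3, 1, 2, 6, 7, 2, 6, 2, 3, 4, 5, 3, 1, 2, 1], 0⟩,
  ⟨[6, 5],
    [7],
    [7, 4, 3, 2, 6, 7, 5, 2], 0⟩,
  ⟨[4, 3, 2, 6, 1, 5, 0, 4, 3, 2, 6, 1, 5, 0, 4, 3, 2, 6, 1, 5, 0],
    [1, 2, 4, 5],
    [1, 2, 4, 5, 4, 5, 3, 4, 2, 3, 0, 1, 2, 6, 0, 1, 2, 3, 4, 5, 2, 3, 0, 1, 2, 0, 1], 0⟩,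
  ⟨[4, 6, 7, 3],
    [3],
    [3, 6, 7, 2, 6, 2], 0⟩,
  ⟨[0, 4, 6, 7, 5, 1],
    [1, 0, 2, 6, 2, 3],
    [1, 0, 2, 6, 2, 4, 1, 2, 3, 0, 1, 2, 6, 7, 6, 3, 4], 0⟩,
  ⟨[0, 1, 7, 6],
    [1, 0, 2, 1, 0, 3, 2, 4, 3, 2, 6, 2],
    [1, 0, 2, 1, 0, 3, 2, 4, 3, 2, 6, 2, 6, 3, 4, 2, 3, 1, 2, 6, 7, 6, 4, 5, 4, 0, 1], 0⟩,
  ⟨[4, 5],
    [4],
    [5], 0⟩,
  ⟨[0, 7, 1, 2, 3, 6, 0, 7, 1, 2, 3, 6, 0, 7, 1, 2, 3, 6, 0, 7, 1, 2, 3, 6],
    [1, 2, 1, 5, 4],
    [1, 2, 1, 5, 4, 1, 3, 4, 7, 5, 4, 3, 2, 6, 2, 3, 4, 1, 2, 3, 0, 1, 2, 6, 7, 5, 4, 3, 2, 6, 5, 2, 1], 1⟩,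
  ⟨[3, 2, 5, 3, 1, 2, 6],
    [1, 2, 1, 0, 6],
    [1, 2, 1, 0, 6, 4, 5, 2, 3, 4, 1, 2, 3, 0, 1, 2, 6, 0, 1, 2, 3, 4, 5, 3, 1, 2, 0, 1], 0⟩,
  ⟨[7, 6, 0, 2],
    [1, 6, 2, 3, 7, 6, 2, 1],
    [1, 6, 2, 3, 7, 6, 2, 1, 2, 6, 1, 2, 3, 0, 1, 2, 6, 7, 5, 4, 1], 0⟩,
  ⟨[3, 6, 2, 3, 1, 2],
    [3, 7],
    [3, 7, 2, 6, 7, 3, 1, 2, 6, 2, 1], 0⟩,
  ⟨[6, 2, 7],
    [1, 6],
    [1, 6, 5, 4, 6, 2, 3, 1, 2, 6, 4, 5, 3, 4, 2, 3, 1, 2, 6, 7, 6, 2, 3, 4, 5, 2, 3, 1, 2], 0⟩,
  ⟨[1, 2, 6, 7],
    [4, 3],
    [4, 3, 6, 7, 6, 3, 4, 1], 0⟩]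

/-- witnesses -/
def tab1 : List Row := [
  ⟨[2, 1, 0, 4, 6, 3, 2, 1, 0, 4, 6, 3],
    [1, 0, 6, 2],
    [1, 0, 6, 2, 6, 5, 4, 1], 0⟩,
  ⟨[6, 4, 3, 7, 1],
    [4, 6],
    [4, 6, 1, 2, 3, 6, 2, 3, 1, 2, 6, 4, 5, 3, 4, 2, 3, 1, 2, 6, 7, 6, 1, 2, 3, 4, 5, 3, 1, 2], 0⟩,
  ⟨[4, 3, 2, 5, 6],
    [2, 1, 0, 3, 2, 1],
    [2, 1, 0, 3, 2, 1, 4, 3, 2, 6, 5, 3, 4, 1, 2, 3, 0, 1, 2, 6, 5, 4, 0, 1, 2, 3, 0, 1], 0⟩,
  ⟨[3, 6, 7, 6, 5, 0, 5, 6, 5, 1, 2, 3, 6, 1, 2, 7, 1],
    [2, 1, 3, 5, 6, 2, 3],
    [2, 1, 3, 5, 6, 2, 3, 0, 1, 2, 4, 5, 6, 7, 6, 2, 3, 1, 2, 6, 7, 4, 3, 0, 1, 2, 6, 1, 2, 3, 4, 5, 2, 3, 0, 1, 2, 0, 1], 2⟩,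
  ⟨[6, 4, 0, 1, 2, 7, 5],
    [4, 3, 6],
    [4, 3, 6, 1, 0, 3, 2, 4, 3, 6, 2, 3, 1, 2, 6, 4, 5, 3, 4, 2, 3, 1, 2, 6, 7, 6, 1, 2, 3, 4, 5, 3, 1, 2], 0⟩,
  ⟨[1, 6, 5, 4],
    [2],
    [2, 6, 2, 3, 4, 1], 0⟩,
  ⟨[0, 7, 1, 2, 3, 6, 0, 7, 1, 2, 3, 6],
    [1, 4, 3],
    [1, 4, 3, 6, 7, 3, 2, 6, 4, 0, 1], 0⟩,
  ⟨[6, 1, 0, 7, 2, 4],
    [1, 3, 5, 6, 2, 3],
    [1, 3, 5, 6, 2, 3, 4, 1, 2, 3, 0, 1, 2, 6, 7, 6, 4, 0, 1], 0⟩,
  ⟨[6, 3, 1, 0, 5, 7],
    [1, 6, 2],
    [1, 6, 2, 3, 4, 1, 2, 3, 0, 1, 2, 6, 7, 6, 4], 0⟩,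
  ⟨[3, 2, 6, 1],
    [3, 6],
    [3, 6, 1, 2, 6, 1], 0⟩,
  ⟨[6, 4, 2],
    [1, 2, 1, 3, 6, 7],
    [1, 2, 1, 3, 6, 7, 6, 4, 5, 3, 4, 2, 3, 1, 2, 6, 7, 3, 2, 6, 1, 2, 3, 4, 5, 2, 3, 1, 2, 1], 0⟩,
  ⟨[7, 0, 1, 2, 6],
    [4, 3],
    [4, 3, 0, 1, 0, 2, 1, 3, 2, 6, 4, 5, 3, 4, 2, 3, 1, 2, 6, 7, 4, 3, 2, 6, 1, 2, 3, 4, 5, 1, 2, 1], 0⟩,
  ⟨[7, 4, 6, 0, 1],
    [1, 5, 4],
    [1, 5, 4, 0, 3, 2, 1, 0, 4, 6, 2, 3, 1, 2, 6, 4, 5, 3, 4, 2, 3, 0, 1, 2, 6, 7, 6, 2, 3, 4, 5, 2, 3, 1, 2], 0⟩]

/-- witnesses -/
def tab2 : List Row := [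
  ⟨[0, 2, 3, 4, 1, 7, 6, 0, 2, 3, 4, 1, 7, 6, 0, 2, 3, 4, 1, 7, 6],
    [4, 7, 6, 2, 1, 3, 2, 4, 3, 5, 6, 7],
    [4, 7, 6, 2, 1, 3, 2, 4, 3, 5, 6, 7, 0, 1, 0, 4, 5, 4, 3, 2, 6, 7, 1, 2, 6, 3, 4, 2, 3, 1, 2, 6, 7, 4, 3, 2, 6, 4, 3, 0, 1, 2, 0, 1], 1⟩,
  ⟨[6, 7, 3, 4, 2, 5],
    [],
    [4, 3, 2, 6, 7, 6, 3], 0⟩,
  ⟨[6, 3, 5, 2, 4, 6, 1, 2],
    [2],
    [2, 5, 4, 2, 3, 1, 2, 6, 4, 1], 0⟩,
  ⟨[3, 1, 6, 4, 2],
    [7],
    [7, 1, 2, 3, 7, 2, 6, 4, 5, 3, 4, 2, 3, 1, 2, 6, 7, 2, 6, 1, 2, 3, 4, 5, 2, 3, 1, 2, 1], 0⟩,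
  ⟨[4, 3, 2, 6, 1, 5, 0],
    [2, 3, 4, 7],
    [2, 3, 4, 7, 1, 0, 2, 1, 0, 7, 6, 2, 3, 1, 2, 6, 4, 5, 3, 4, 2, 3, 0, 1, 2, 6, 7, 6, 2, 3, 4, 5, 2, 3, 1, 2], 0⟩,
  ⟨[1, 7, 0, 2, 3, 1, 2, 6],
    [1, 2, 4, 3],
    [1, 2, 4, 0, 1, 2, 6, 7, 2, 6, 4, 1], 0⟩,
  ⟨[2, 1, 7, 2, 6, 2, 1, 4, 3, 0, 2, 1, 7, 2, 6, 2, 1, 4, 3, 0],
    [2, 6],
    [2, 6, 3, 1, 2, 6, 7, 0, 1, 2, 6, 0, 1, 2, 1], 0⟩,
  ⟨[7, 1, 6, 2, 4],
    [1, 3, 2],
    [1, 3, 2, 3, 1, 2, 6, 4, 5, 3, 4, 2, 3, 1, 2, 6, 7, 6, 2, 3, 1, 2, 6, 4, 2, 3, 1], 0⟩,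
  ⟨[4, 2, 5, 3, 7, 0],
    [1, 2, 1, 3, 6],
    [1, 2, 1, 3, 6, 2, 3, 4, 1, 2, 3, 0, 1, 2, 6, 7, 6, 4], 0⟩,
  ⟨[2, 1, 0, 4, 6, 3],
    [3, 2, 1, 4],
    [3, 2, 1, 4, 6, 4, 2, 3, 0, 1, 2, 6, 2, 0, 1], 0⟩,
  ⟨[1, 6, 3, 2, 5, 1, 7, 6, 3, 2, 0, 7, 4],
    [2, 1, 6, 2, 3, 4, 5],
    [2, 1, 6, 2, 3, 4, 5, 1, 0, 2, 1, 0, 3, 2, 6, 4, 5, 3, 4, 2, 3, 1, 2, 6, 7, 4, 3, 2, 6, 1, 2, 3, 4, 5, 3, 1, 2, 1], 0⟩,
  ⟨[7, 2, 6, 5, 4, 0],
    [1, 2, 1, 4, 3, 7],
    [1, 2, 1, 4, 3, 7, 4, 5, 3, 4, 1, 2, 3, 0, 1, 2, 6, 7, 5, 4], 0⟩,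
  ⟨[6, 5, 3, 7, 4],
    [1, 2, 4, 5],
    [1, 2, 4, 5, 1, 3, 2, 6, 7, 2, 6, 4, 5, 3, 4, 2, 3, 1, 2, 6, 7, 5, 4, 2, 3, 1, 2, 6, 4, 1, 2, 3], 0⟩]

/-- witnesses -/
def tab3 : List Row := [
  ⟨[7, 1, 5, 6, 2, 0, 3],
    [6, 7],
    [6, 7, 0, 1, 2, 4, 3, 2, 1, 6, 2, 3, 0, 1, 2, 6, 4, 5, 3, 4, 2, 3, 1, 2, 6, 7, 6, 1, 2, 3, 4, 5, 1, 2], 0⟩,
  ⟨[7, 3, 0, 5, 1, 6, 4],
    [1, 3],
    [1, 3, 0, 2, 1, 0, 4, 6, 2, 3, 1, 2, 6, 4, 5, 3, 4, 2, 3, 0, 1, 2, 6, 7, 6, 2, 3, 4, 5, 2, 3, 1, 2], 0⟩,
  ⟨[0, 7, 1, 2, 3, 6],
    [1, 4, 3, 2, 7],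
    [1, 4, 3, 2, 7, 3, 2, 6, 7, 3, 4, 0, 1], 0⟩,
  ⟨[0, 4, 3, 7, 6, 2, 1, 5],
    [1, 2, 3, 2, 6, 7],
    [1, 2, 3, 2, 6, 7, 3, 4, 2, 3, 0, 1, 2, 6, 7, 4], 0⟩,
  ⟨[0, 4, 3, 7, 6, 2, 1, 5, 0, 4, 3, 7, 6, 2, 1, 5],
    [1, 0, 6, 7],
    [1, 0, 6, 7, 1, 2, 6, 4, 1], 0⟩,
  ⟨[3, 2, 4, 0, 5, 7, 1],
    [1, 2, 1, 3, 2, 6, 2],
    [1, 2, 1, 3, 2, 6, 2, 0, 2, 1, 3, 2, 4, 3, 2, 6, 7, 1, 2, 6, 5, 3, 4, 2, 3, 1, 2, 6, 7, 3, 2, 6, 1, 2, 3, 0, 1, 2], 1⟩,
  ⟨[1, 0, 4, 6, 5, 2],
    [1, 0, 2, 1, 3, 4],
    [1, 0, 2, 1, 3, 4, 6, 5, 4, 2, 3, 1, 2, 6, 5, 3, 4, 1, 2, 0, 1], 0⟩,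
  ⟨[2, 1, 3, 2, 6, 5, 7, 1, 2, 4, 6, 3, 2, 1, 7, 0, 1, 4],
    [1, 3, 2, 4, 7],
    [1, 3, 2, 4, 7, 4, 2, 3, 0, 1, 2, 6, 7, 6, 4, 1], 0⟩,
  ⟨[2, 1, 7, 2, 6, 2, 1, 4, 3, 0],
    [2, 1, 4, 3, 2],
    [2, 1, 4, 3, 2, 7, 3, 4, 2, 3, 0, 1, 2, 6, 4, 2, 0, 1], 0⟩,
  ⟨[0, 2, 3, 4, 1, 7, 6],
    [1, 4, 3],
    [1, 4, 3, 0, 1, 2, 3, 1, 2, 6, 4, 5, 3, 4, 2, 3, 1, 2, 6, 7, 6, 1, 2, 3, 4, 5, 3, 1, 2, 1], 0⟩,
  ⟨[1, 0, 2, 3, 7, 4, 2, 5, 6, 2],
    [2, 1, 0, 4],
    [2, 1, 0, 4, 1, 2, 6, 7, 1, 2, 6, 4, 5, 0, 1], 0⟩]

theorem tab0_ok : (tab0.all fun t => chkz t.j (wd X0 t.X t.U t.Y)) = true := all_of (by decide +kernel)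

theorem tab1_ok : (tab1.all fun t => chkz t.j (wd X0 t.X t.U t.Y)) = true := all_of (by decide +kernel)

theorem tab2_ok : (tab2.all fun t => chkz t.j (wd X0 t.X t.U t.Y)) = true := all_of (by decide +kernel)

theorem tab3_ok : (tab3.all fun t => chkz t.j (wd X0 t.X t.U t.Y)) = true := all_of (by decide +kernel)

/-- the table -/
def tab : List Row := tab0 ++ tab1 ++ tab2 ++ tab3

theorem tab_ok : (tab.all fun t => chkz t.j (wd X0 t.X t.U t.Y)) = true := by
  rw [tab, List.all_append, List.all_append, List.all_append]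
  rw [tab0_ok, tab1_ok, tab2_ok, tab3_ok]
  rfl

/-! ### Commutators -/

/-- the lifts of `X` are commutators -/
def Gd (X : List (Fin 8)) : Prop :=
  ∀ (L : Type) [Group L] [Finite L] (π : L →* H8), PCE π → ∀ g : L, π g = ev x8 X → IsC g

theorem gd_of_rel {X U Y : List (Fin 8)}
    (h : ev x8 U * ev x8 X * (ev x8 U)⁻¹ = ev x8 X0 * ev x8 Y * (ev x8 X0)⁻¹ * (ev x8 Y)⁻¹) : Gd X := by
  intro L _ _ π hπ g hg
  exact isC_of_isConj x0_two x0_three hπ (k := ev x8 Y) (isConj_iff.2 ⟨ev x8 U, by rw [hg, h]⟩)

theorem gd_tab : ∀ t ∈ tab, Gd t.X := by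
  intro t ht
  exact gd_of_rel (rel_of_chkz (List.all_eq_true.1 tab_ok t ht))

theorem gd_nil : Gd [] := by
  refine gd_of_rel (U := []) (Y := []) ?_
  rw [ev_nil]
  group

/-! ### The transposition -/

theorem isC_mul {L : Type} [Group L] {x k c ζ : L} (hζ : ∀ y, y * ζ = ζ * y) (hc : c * x * c⁻¹ = x * ζ⁻¹) :
    IsC (x * k * x⁻¹ * k⁻¹ * ζ) := by
  have h4 : c * x⁻¹ * c⁻¹ = x⁻¹ * ζ := by
    have h5 : (c * x * c⁻¹)⁻¹ = (x * ζ⁻¹)⁻¹ := by rw [hc]
    calc c * x⁻¹ * c⁻¹ = (c * x * c⁻¹)⁻¹ := by group
      _ = ζ * x⁻¹ := by rw [h5]; group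
      _ = x⁻¹ * ζ := (hζ x⁻¹).symm
  refine ⟨x, k * c, ?_⟩
  calc x * k * x⁻¹ * k⁻¹ * ζ = x * k * x⁻¹ * (k⁻¹ * ζ) := by group
    _ = x * k * x⁻¹ * (ζ * k⁻¹) := by rw [hζ k⁻¹]
    _ = x * k * (x⁻¹ * ζ) * k⁻¹ := by group
    _ = x * k * (c * x⁻¹ * c⁻¹) * k⁻¹ := by rw [h4]
    _ = x * (k * c) * x⁻¹ * (k * c)⁻¹ := by group

theorem isC_mix {L : Type} [Group L] {x k c z g d : L} (hz : ∀ y, y * z = z * y) (h6 : z ^ 6 = 1)
    (hc : c * x * c⁻¹ = x * z ^ 4) (hd : d * g * d⁻¹ = g * z ^ 3) {n : ℕ} (hg : g = x * k * x⁻¹ * k⁻¹ * z ^ n) :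
    IsC g := by
  have hzn : ∀ (n : ℕ) (y : L), y * z ^ n = z ^ n * y := fun n y => ((show Commute y z from hz y).pow_right n).eq
  have key : ∀ m : ℕ, c ^ m * x * (c ^ m)⁻¹ = x * z ^ (4 * m) := by
    intro m
    induction m with
    | zero => simp
    | succ m ih =>
      calc c ^ (m + 1) * x * (c ^ (m + 1))⁻¹ = c * (c ^ m * x * (c ^ m)⁻¹) * c⁻¹ := by rw [pow_succ']; group
        _ = c * x * (z ^ (4 * m) * c⁻¹) := by rw [ih]; group
        _ = c * x * (c⁻¹ * z ^ (4 * m)) := by rw [hzn]
        _ = (c * x * c⁻¹) * z ^ (4 * m) := by group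
        _ = x * (z ^ 4 * z ^ (4 * m)) := by rw [hc]; group
        _ = x * z ^ (4 * (m + 1)) := by rw [← pow_add]; congr 2; ring
  have heven : ∀ m : ℕ, IsC (x * k * x⁻¹ * k⁻¹ * z ^ (2 * m)) := by
    intro m
    refine isC_mul (c := c ^ m) (hzn _) ?_
    rw [key]
    congr 1
    rw [eq_inv_iff_mul_eq_one, ← pow_add, show 4 * m + 2 * m = 6 * m by ring, pow_mul, h6, one_pow]
  obtain ⟨m, hm⟩ | ⟨m, hm⟩ := Nat.even_or_odd n
  · rw [hg, hm, ← two_mul]
    exact heven m
  · have h1 := heven (m + 2)
    have h2 : g * z ^ 3 = x * k * x⁻¹ * k⁻¹ * z ^ (2 * (m + 2)) := by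
      rw [hg, mul_assoc _ (z ^ n), ← pow_add, hm, show 2 * m + 1 + 3 = 2 * (m + 2) by ring]
    rw [← h2] at h1
    exact h1.of_isConj (isConj_iff.2 ⟨d⁻¹, by rw [← hd]; group⟩)

/-- `C X = X C` on the spin module -/
def chk2p (X C : List (Fin 8)) : Bool := (List.range 2160).all fun p =>
  Nat.beq (ap2 ((C ++ X).map Fin.val) p) (ap2 ((X ++ C).map Fin.val) p)

theorem coe_ω4 : ((ω ^ 4 : Six) : Equiv.Perm (Fin 2160) × Equiv.Perm (Fin 1134)) = (1, z3) := by
  rw [pow_succ, Subgroup.coe_mul, coe_ω3, coe_ω, Prod.mk_mul_mk, z2_sq, one_mul]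

theorem comm_six4 {X C : List (Fin 8)} (h2 : chk2p X C = true) (h3 : chk3 X C = true) :
    ev y6 C * ev y6 X = ω ^ 4 * (ev y6 X * ev y6 C) := by
  apply Subtype.ext
  rw [Subgroup.coe_mul, Subgroup.coe_mul, Subgroup.coe_mul, coe_ω4, coe_ev6, coe_ev6, ← ev_append, ← ev_append]
  apply Prod.ext
  · rw [Prod.fst_mul, ev_fst, ev_fst, one_mul]
    apply Equiv.ext
    intro p
    apply Fin.ext
    rw [ev_val2, ev_val2]
    exact Nat.eq_of_beq_eq_true (List.all_eq_true.1 h2 p (List.mem_range.2 p.2))
  · rw [Prod.snd_mul, ev_snd, ev_snd]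
    apply Equiv.ext
    intro p
    apply Fin.ext
    rw [ev_val, Equiv.Perm.mul_apply, z3_val, ev_val]
    exact Nat.eq_of_beq_eq_true (List.all_eq_true.1 h3 p (List.mem_range.2 p.2))

/-- a word fused for 3 -/
def X1 : List (Fin 8) := [0, 1, 2, 3, 4, 6]

/-- the element which moves the lifts of `X1` -/
def C1 : List (Fin 8) := [0, 2, 3, 2, 1, 6, 2, 1, 0, 3, 4, 7, 6, 2, 3, 1, 2, 6, 7, 4, 2, 3, 0, 1, 2, 6, 3, 0, 1, 2]

theorem chk2p_of {X C : List (Fin 8)}
    (h : e2 ((C ++ X).map Fin.val) (H64.TW.wt n2 ((X ++ C).map Fin.val) (H64.TW.idt (nat_lit 2160))) = true) : chk2p X C = true :=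
  List.all_eq_true.2 fun p hp => by
    rw [e2_spec h (List.mem_range.1 hp), (w2 _ (List.mem_range.1 hp)).2]
    exact (congrArg (fun x => Nat.beq x _) (idt2 _ (w2 _ (List.mem_range.1 hp)).1)).trans (Nat.beq_refl _)

theorem x1_two : chk2p X1 C1 = true := chk2p_of (by decide +kernel)

theorem x1_three : chk3 X1 C1 = true := chk3_of (by decide +kernel)

/-- conjugating word -/
def U1 : List (Fin 8) := [5, 4, 6, 2, 1, 3, 2]

/-- second member -/
def Y1 : List (Fin 8) := [5, 4, 6, 2, 1, 3, 2, 0, 1, 4, 3, 2, 6, 5, 3, 4, 1, 2, 3, 0, 1, 2, 6, 2, 3, 4, 5, 4, 3, 2, 1]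

theorem x1_rel : chkz 0 (wd X1 [6] U1 Y1) = true := chkz_of (by decide +kernel)

theorem ω6 : ω ^ 6 = 1 := by
  have h := pow_orderOf_eq_one ω
  rwa [ω_order] at h

theorem transp : y6 0 * y6 6 * (y6 0)⁻¹ = y6 6 * ω ^ 3 := by
  have h1 := rel6 0 6
  have h2 := rel6 0 0
  have h3 := rel6 6 6
  rw [show lab 0 6 = 2 from rfl] at h1
  rw [show lab 0 0 = 1 from rfl, pow_one] at h2
  rw [show lab 6 6 = 1 from rfl, pow_one] at h3
  have hc : ∀ y : Six, y * ω ^ 3 = ω ^ 3 * y := fun y =>
    ((show Commute y ω from mem_center_iff.1 ω_center y).pow_right 3).eq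
  set a := y6 0
  set b := y6 6
  set w := ω ^ 3 with hw
  have hw2 : w * w = 1 := by rw [hw, ← pow_add]; exact ω6
  -- `a b a b = w`, `a a = w`, `b b = w`
  have h4 : a * b * a⁻¹ = a * b * a * (a * a)⁻¹ := by group
  have h5 : a * b * a = w * b⁻¹ := by
    rw [← h1, pow_two]; group
  have h6 : b⁻¹ = w * b := by
    rw [inv_eq_iff_mul_eq_one, ← mul_assoc, hc, mul_assoc, h3, hw2]
  rw [h4, h5, h2, h6, hc]
  have h7 : w⁻¹ = w := (inv_eq_of_mul_eq_one_right hw2 :)
  rw [h7, ← mul_assoc, hw2, one_mul, hc]

theorem gd_six : Gd [6] := by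
  intro L _ _ π hπ g hg
  obtain ⟨σ, hσ, hσy, hk⟩ := exists_six
  obtain ⟨θ, hθ, hcθ⟩ := exists_theta hσ hk hπ
  have hev : ∀ w, π (θ (ev y6 w)) = ev x8 w := by
    intro w
    rw [hcθ, map_ev]
    exact congrArg (fun s => ev s w) (funext fun j => hσy j)
  set z := θ ω with hzdef
  have hz : ∀ y, y * z = z * y := by
    intro y
    obtain ⟨y, rfl⟩ := hθ y
    rw [hzdef, ← map_mul, ← map_mul, mem_center_iff.1 ω_center]
  have hz6 : z ^ 6 = 1 := by rw [hzdef, ← map_pow, ω6, map_one]
  have hker : ∀ ζ, π ζ = 1 → ∃ n : ℕ, ζ = z ^ n := by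
    intro ζ hζ
    obtain ⟨x, rfl⟩ := hθ ζ
    rw [hcθ, ← MonoidHom.mem_ker, hk] at hζ
    have h1 := mem_powers_iff_mem_zpowers.2 hζ
    obtain ⟨n, rfl⟩ := h1
    exact ⟨n, by rw [hzdef, ← map_pow]⟩
  -- the lift of the transposition
  obtain ⟨n0, hn0⟩ := hker ((θ (y6 6))⁻¹ * g) (by
    have h1 := hev [6]
    rw [ev_cons, ev_nil, mul_one] at h1
    rw [map_mul, map_inv, h1, hg, inv_mul_cancel])
  have hg1 : g = θ (y6 6) * z ^ n0 := by rw [← hn0]; group
  have hd : θ (y6 0) * g * (θ (y6 0))⁻¹ = g * z ^ 3 := by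
    have hc : ∀ (n : ℕ) (y : L), y * z ^ n = z ^ n * y := fun n y => ((show Commute y z from hz y).pow_right n).eq
    calc θ (y6 0) * g * (θ (y6 0))⁻¹ = θ (y6 0) * θ (y6 6) * (z ^ n0 * (θ (y6 0))⁻¹) := by rw [hg1]; group
      _ = θ (y6 0) * θ (y6 6) * ((θ (y6 0))⁻¹ * z ^ n0) := by rw [hc]
      _ = θ (y6 0 * y6 6 * (y6 0)⁻¹) * z ^ n0 := by rw [map_mul, map_mul, map_inv]; group
      _ = θ (y6 6) * z ^ 3 * z ^ n0 := by rw [transp, map_mul, map_pow]
      _ = θ (y6 6) * z ^ n0 * z ^ 3 := by rw [mul_assoc, mul_assoc, ← pow_add, ← pow_add, add_comm]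
      _ = g * z ^ 3 := by rw [← hg1]
  -- conjugate
  set u := θ (ev y6 U1) with hu
  have hu' : π u = ev x8 U1 := hev U1
  set g' := u * g * u⁻¹ with hg'
  have hrel := rel_of_chkz x1_rel
  rw [← hg, ← hu'] at hrel
  obtain ⟨n, hn⟩ := hker ((θ (ev y6 X1) * θ (ev y6 Y1) * (θ (ev y6 X1))⁻¹ * (θ (ev y6 Y1))⁻¹)⁻¹ * g') (by
    rw [map_mul, map_inv, hg']
    simp only [map_mul, map_inv]
    rw [hrel, hev, hev, inv_mul_cancel])
  have h1 : IsC g' := by
    refine isC_mix (x := θ (ev y6 X1)) (k := θ (ev y6 Y1)) (c := θ (ev y6 C1)) (d := u * θ (y6 0) * u⁻¹) hz hz6 ?_ ?_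
      (n := n) (by rw [← hn]; group)
    · have e : ev y6 C1 * ev y6 X1 * (ev y6 C1)⁻¹ = ev y6 X1 * ω ^ 4 := by
        have hc : ∀ y : Six, y * ω ^ 4 = ω ^ 4 * y := fun y =>
          ((show Commute y ω from mem_center_iff.1 ω_center y).pow_right 4).eq
        rw [comm_six4 x1_two x1_three, mul_assoc, mul_assoc, mul_inv_cancel, mul_one, hc]
      rw [← map_mul, ← map_inv, ← map_mul, e, map_mul, map_pow]
    · calc u * θ (y6 0) * u⁻¹ * g' * (u * θ (y6 0) * u⁻¹)⁻¹ = u * (θ (y6 0) * g * (θ (y6 0))⁻¹) * u⁻¹ := by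
            rw [hg']; group
        _ = u * (g * z ^ 3) * u⁻¹ := by rw [hd]
        _ = u * g * (z ^ 3 * u⁻¹) := by group
        _ = u * g * (u⁻¹ * z ^ 3) := by rw [((show Commute u⁻¹ z from hz u⁻¹).pow_right 3).eq]
        _ = g' * z ^ 3 := by rw [hg']; group
  exact h1.of_isConj (isConj_iff.2 ⟨u⁻¹, by rw [hg']; group⟩)

/-! ### The row -/

/-- the representatives -/
def reps : List (List (Fin 8)) := tab.map (fun t => t.X) ++ [[6], []]

theorem gd : ∀ X ∈ reps, Gd X := by
  intro X hX
  rcases List.mem_append.1 hX with h | h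
  · obtain ⟨t, ht, rfl⟩ := List.mem_map.1 h
    exact gd_tab t ht
  · rcases List.mem_cons.1 h with rfl | h
    · exact gd_six
    · rw [List.mem_singleton.1 h]
      exact gd_nil

/-- **The row from the class list** -/
theorem row_of_classes (h : ∀ g : H8, ∃ X ∈ reps, ∃ α : H8 ≃* H8, IsConj (α g) (ev x8 X)) : RowA H8 := by
  intro L _ _ π hπ g
  obtain ⟨X, hX, α, hα⟩ := h (π g)
  obtain ⟨c, hc⟩ := isConj_iff.1 hα
  obtain ⟨c, rfl⟩ := (hπ.congr α).surj c
  have h1 := gd X hX L _ (hπ.congr α) (c * g * c⁻¹) (by rw [← hc, map_mul, map_mul, map_inv]; rfl)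
  exact h1.of_isConj (isConj_iff.2 ⟨c⁻¹, by group⟩)

end Cfsg.Agent.H926.QS.O73Wit
end

-- part: H926/QS/O73Row
section
/-!
# S2491, S2492: the row `PΩ₇(3)` (helper926, class list by helper235)
-/

set_option autoImplicit false
set_option maxRecDepth 100000

namespace Cfsg.Agent.H926.QS.O73Row

open Cfsg Cfsg.Agent.H6.QO
open Cfsg.Agent.Fischer.Derived Cfsg.Agent.Fischer.Y322
open Cfsg.Agent.H926.QS.O73Wit
open Cfsg.Agent.H235.QS

theorem cov : (O7L.xs.all fun X => reps.any fun Y => decide (X = Y.map Fin.val)) = true := by decide +kernel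

/-- **Every element of every perfect central extension of `H8` is a commutator.** -/
theorem rowA_H8 : RowA H8 := by
  refine row_of_classes fun g => ?_
  rcases O7L.cover g with rfl | ⟨X, hX, α, hα⟩
  · refine ⟨[], ?_, MulEquiv.refl _, ?_⟩
    · unfold reps
      exact List.mem_append_right _ (by simp)
    · rw [ev_nil]
      exact IsConj.refl _
  · have h1 := List.all_eq_true.1 cov X hX
    rw [List.any_eq_true] at h1
    obtain ⟨Y, hY, h2⟩ := h1
    refine ⟨Y, hY, α, ?_⟩
    rw [hα, of_decide_eq_true h2, O7L.el_val]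

/-- **The row `PΩ₇(3)`** -/
theorem rowA_O73 {F : Type*} [Field F] [Fintype F] (hF : Fintype.card F = 3) :
    RowA (Cfsg.POmega F (Cfsg.quadFormOdd 3 F)) :=
  O73Fus.row_pomega rowA_H8 hF

end Cfsg.Agent.H926.QS.O73Row
end

-- part: H92/QS/Lift
section
/-!
# Central extensions of groups with a root group datum: tools for commutators (helper92)

`θ : E →* Y` surjective with central kernel of order prime to `p`.

* `hom_unique`, `conj_lift`, `comm_phi` : homomorphisms from a perfect group into `E` are determined by their images in `Y`;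
* `exists_sq` : involutions lift if the kernel has exponent 3;
* `sup_lft`, `nf_lft`, `lj_lft`, `lp_lft` : the subgroups of the lifted root group datum;
* `mem_map_lft` : elements of `U_J` as images of unitriangular matrices;
* `frame` : the frame for commutators outside the kernel.
-/

set_option autoImplicit false
set_option linter.unusedSectionVars false

namespace Cfsg.Agent.H92.QS

open CoxeterSystem Cfsg.Agent.ChevalleyStructure.CoxeterGeom Cfsg.Agent.Tits.Roots Cfsg.Agent.Tits.Core
  Cfsg.Agent.Nodes.Reps Cfsg.Agent.Nodes.BNOf Cfsg.Agent.Nodes.StabComb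
  Cfsg.Agent.Nodes.RGDLib Cfsg.Agent.Nodes.Bruhat Cfsg.Agent.Nodes.OppDec Cfsg.Agent.Nodes.LeviDec
  Cfsg.Agent.Nodes.RGDLift Cfsg.Agent.OddHalf.NI.Mult Cfsg.Agent.H162.GaussDec Cfsg.Agent.H162.GaussLevi
  Cfsg.Agent.H928.Ore.Frame
open scoped commutatorElement

section Hom

variable {S S' E Y : Type*} [Group S] [Group S'] [Group E] [Group Y] {θ : E →* Y}

theorem comm_central {A B ζ ξ : E} (hζ : ∀ x, x * ζ = ζ * x) (hξ : ∀ x, x * ξ = ξ * x) :
    (ζ * A) * (ξ * B) * (ζ * A)⁻¹ * (ξ * B)⁻¹ = A * B * A⁻¹ * B⁻¹ := by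
  calc (ζ * A) * (ξ * B) * (ζ * A)⁻¹ * (ξ * B)⁻¹ = ζ * (A * ξ) * B * A⁻¹ * ζ⁻¹ * B⁻¹ * ξ⁻¹ := by group
    _ = (ζ * ξ) * (A * B * A⁻¹) * ζ⁻¹ * B⁻¹ * ξ⁻¹ := by rw [hξ]; group
    _ = (ξ * ζ) * (A * B * A⁻¹) * ζ⁻¹ * B⁻¹ * ξ⁻¹ := by rw [hξ]
    _ = ξ * (ζ * (A * B * A⁻¹)) * ζ⁻¹ * B⁻¹ * ξ⁻¹ := by group
    _ = ξ * (A * B * A⁻¹ * B⁻¹) * ξ⁻¹ := by rw [← hζ]; group
    _ = A * B * A⁻¹ * B⁻¹ := by rw [← hξ]; group

/-- homomorphisms from a perfect group are determined modulo the kernel -/
theorem hom_unique (hS : commutator S = ⊤) (hc : θ.ker ≤ Subgroup.center E) {f g : S →* E}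
    (h : ∀ x, θ (f x) = θ (g x)) : f = g := by
  have hz : ∀ x, f x * (g x)⁻¹ ∈ Subgroup.center E := fun x => hc (by
    rw [MonoidHom.mem_ker, map_mul, map_inv, h, mul_inv_cancel])
  have h1 : commutator S ≤ f.eqLocus g := by
    rw [commutator_def, Subgroup.commutator_le]
    intro a _ b _
    show f ⁅a, b⁆ = g ⁅a, b⁆
    obtain ⟨ζ, hζ⟩ : ∃ ζ, ζ = f a * (g a)⁻¹ := ⟨_, rfl⟩
    obtain ⟨ξ, hξ⟩ : ∃ ξ, ξ = f b * (g b)⁻¹ := ⟨_, rfl⟩
    have e1 : f a = ζ * g a := by rw [hζ]; group
    have e2 : f b = ξ * g b := by rw [hξ]; group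
    have h2 : ∀ x, x * ζ = ζ * x := Subgroup.mem_center_iff.1 (hζ ▸ hz a)
    have h3 : ∀ x, x * ξ = ξ * x := Subgroup.mem_center_iff.1 (hξ ▸ hz b)
    rw [map_commutatorElement, map_commutatorElement, commutatorElement_def, commutatorElement_def, e1, e2]
    exact comm_central h2 h3
  refine MonoidHom.ext fun x => ?_
  have h2 : x ∈ f.eqLocus g := h1 (by rw [hS]; exact Subgroup.mem_top x)
  exact h2

/-- an automorphism of the image lifts -/
theorem conj_lift (hS : commutator S = ⊤) (hc : θ.ker ≤ Subgroup.center E) {φ : S →* E} {τ : S →* S} {y : E}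
    (h : ∀ A, θ y * θ (φ A) * (θ y)⁻¹ = θ (φ (τ A))) (A : S) : y * φ A * y⁻¹ = φ (τ A) := by
  have h1 : (MulAut.conj y).toMonoidHom.comp φ = φ.comp τ := hom_unique hS hc fun x => by
    show θ (y * φ x * y⁻¹) = θ (φ (τ x))
    rw [map_mul, map_mul, map_inv, h]
  exact DFunLike.congr_fun h1 A

theorem comm_phi (hS : commutator S = ⊤) (hc : θ.ker ≤ Subgroup.center E) {φ : S →* E} {y : E}
    (h : ∀ A, θ y * θ (φ A) = θ (φ A) * θ y) (A : S) : y * φ A = φ A * y := by
  have h1 := conj_lift hS hc (φ := φ) (τ := MonoidHom.id S) (y := y) (fun A => by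
    rw [h]; show _ = θ (φ A); group) A
  have h2 : y * φ A * y⁻¹ = φ A := h1
  calc y * φ A = (y * φ A * y⁻¹) * y := by group
    _ = φ A * y := by rw [h2]

theorem comm_phi2 (hS : commutator S = ⊤) (hc : θ.ker ≤ Subgroup.center E) {φ : S →* E} {ψ : S' →* E}
    (h : ∀ A B, θ (φ A) * θ (ψ B) = θ (ψ B) * θ (φ A)) (A : S) (B : S') : Commute (φ A) (ψ B) :=
  (comm_phi hS hc (φ := φ) (y := ψ B) (fun A => (h A B).symm) A).symm

/-- involutions lift -/
theorem exists_sq (h3 : ∀ z : E, θ z = 1 → z ^ 3 = 1) (hs : Function.Surjective θ) {z : Y} (hz : z * z = 1) :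
    ∃ z' : E, θ z' = z ∧ z' * z' = 1 := by
  obtain ⟨x, rfl⟩ := hs z
  have h1 : (x * x) ^ 3 = 1 := h3 _ (by rw [map_mul, hz])
  refine ⟨x ^ 3, ?_, ?_⟩
  · rw [map_pow]
    calc θ x ^ 3 = (θ x * θ x) * θ x := by rw [pow_succ, pow_two]
      _ = θ x := by rw [hz, one_mul]
  · rw [← h1]
    simp only [pow_succ, pow_zero, one_mul, mul_assoc]

/-- a power of an element commuting modulo the kernel -/
theorem cube_comm (hc : θ.ker ≤ Subgroup.center E) (h3 : ∀ z : E, θ z = 1 → z ^ 3 = 1) {v s : E}
    (h : θ v * θ s * (θ v)⁻¹ = θ s) : v ^ 3 * s * (v ^ 3)⁻¹ = s := by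
  obtain ⟨ζ, hζ⟩ : ∃ ζ, ζ = v * s * v⁻¹ * s⁻¹ := ⟨_, rfl⟩
  have h1 : θ ζ = 1 := by
    rw [hζ, map_mul, map_mul, map_mul, map_inv, map_inv, h, mul_inv_cancel]
  have h2 := h3 ζ h1
  have h4 : ∀ x, x * ζ = ζ * x := Subgroup.mem_center_iff.1 (hc (MonoidHom.mem_ker.2 h1))
  have h5 : v * s * v⁻¹ = ζ * s := by rw [hζ]; group
  have h6 : v * (ζ * s) * v⁻¹ = ζ * (ζ * s) := by
    calc v * (ζ * s) * v⁻¹ = (v * ζ) * s * v⁻¹ := by group
      _ = ζ * (v * s * v⁻¹) := by rw [h4]; group
      _ = _ := by rw [h5]
  have h7 : v * (ζ * (ζ * s)) * v⁻¹ = ζ * (ζ * (ζ * s)) := by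
    calc v * (ζ * (ζ * s)) * v⁻¹ = (v * ζ) * (ζ * s) * v⁻¹ := by group
      _ = ζ * (v * (ζ * s) * v⁻¹) := by rw [h4]; group
      _ = _ := by rw [h6]
  calc v ^ 3 * s * (v ^ 3)⁻¹ = v * (v * (v * s * v⁻¹) * v⁻¹) * v⁻¹ := by
        simp only [pow_succ, pow_zero, one_mul, mul_assoc, mul_inv_rev]
    _ = ζ * (ζ * (ζ * s)) := by rw [h5, h6, h7]
    _ = ζ ^ 3 * s := by simp only [pow_succ, pow_zero, one_mul, mul_assoc]
    _ = s := by rw [h2, one_mul]

theorem cube_inv {v a : E} (h : v * a * v⁻¹ = a⁻¹) : v ^ 3 * a * (v ^ 3)⁻¹ = a⁻¹ := by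
  have h1 : v * a⁻¹ * v⁻¹ = a := by
    calc v * a⁻¹ * v⁻¹ = (v * a * v⁻¹)⁻¹ := by group
      _ = a := by rw [h, inv_inv]
  calc v ^ 3 * a * (v ^ 3)⁻¹ = v * (v * (v * a * v⁻¹) * v⁻¹) * v⁻¹ := by
        simp only [pow_succ, pow_zero, one_mul, mul_assoc, mul_inv_rev]
    _ = a⁻¹ := by rw [h, h1, h]

end Hom

section RGDs

variable {I W Y E : Type*} [Fintype I] [DecidableEq I] [Group W] [Finite W] [Group Y] [Group E] [Finite E]
  {M : CoxeterMatrix I} {cs : CoxeterSystem M W} {A : I → I → ℤ} {h : IsCartan M A} {p : ℕ} [Fact p.Prime]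
  {T : Subgroup Y} {n : I → Y} {X : (I → ℤ) → Subgroup Y} {θ : E →* Y}

theorem sup_lft (hs : Function.Surjective θ) (hc : θ.ker ≤ Subgroup.center E) (hker : (Nat.card θ.ker).Coprime p)
    {S : Set (I → ℤ)} (hP : IsPGroup p ↥(RGD.Sup X S)) :
    RGD.Sup (fun x => lft p θ (X x)) S = lft p θ (RGD.Sup X S) := by
  unfold RGD.Sup at hP ⊢
  exact (lft_iSup hc hker hs _ hP).symm

theorem nf_lft (hc : θ.ker ≤ Subgroup.center E) (hker : (Nat.card θ.ker).Coprime p) {V : Subgroup Y}
    (hV : IsPGroup p V) {c : E} (hn : NF V (θ c)) : NF (lft p θ V) c := by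
  intro x hx e
  refine eq_one_of_mem_lft hc hker hV hx (hn _ ((mem_lft hc hV).1 hx).1 ?_)
  rw [← map_mul, ← map_inv, ← map_mul, e]

theorem map_Sup (hs : Function.Surjective θ) (hc : θ.ker ≤ Subgroup.center E) (hker : (Nat.card θ.ker).Coprime p)
    {S : Set (I → ℤ)} (hP : ∀ x ∈ S, IsPGroup p ↥(X x)) :
    (RGD.Sup (fun x => lft p θ (X x)) S).map θ = RGD.Sup X S := by
  unfold RGD.Sup
  rw [Subgroup.map_iSup]
  exact iSup_congr fun x => map_lft hc hker hs (hP x.1 x.2)

theorem lj_lft (R : RGD cs h p T n X) (hs : Function.Surjective θ) (hc : θ.ker ≤ Subgroup.center E)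
    (hker : (Nat.card θ.ker).Coprime p) {J : Set I} {x : E} (hx : θ x ∈ LJ cs h T X J) :
    x ∈ LJ cs h (T.comap θ) (fun x => lft p θ (X x)) J := by
  have h1 : (LJ cs h (T.comap θ) (fun x => lft p θ (X x)) J).map θ = LJ cs h T X J := by
    unfold LJ
    rw [Subgroup.map_sup, Subgroup.map_comap_eq_self_of_surjective hs,
      map_Sup hs hc hker fun x hx => R.pgrp' hx.1]
  rw [← h1] at hx
  obtain ⟨y, hy, e⟩ := hx
  have h2 : y⁻¹ * x ∈ T.comap θ := by
    rw [Subgroup.mem_comap, map_mul, map_inv, e, inv_mul_cancel]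
    exact one_mem _
  have h3 := mul_mem hy (T_le_LJ (cs := cs) (h := h) (X := fun x => lft p θ (X x)) (J := J) h2)
  rwa [mul_inv_cancel_left] at h3

theorem isPGroup_VJ (R : RGD cs h p T n X) (J : Set I) : IsPGroup p ↥(VJ cs h X J) :=
  R.isPGroup_Upos.to_le (RGD.Sup_mono fun _ hx => ⟨hx.1, hx.2.1⟩)

theorem isPGroup_VNJ (R : RGD cs h p T n X) (J : Set I) : IsPGroup p ↥(VNJ cs h X J) :=
  (Cfsg.Agent.KFacts.RgdAut.isPGroup_UN R).to_le (RGD.Sup_mono fun x hx =>
    ⟨by have := hx.1.neg; rwa [neg_neg] at this, by have := hx.2.1; exact neg_nonneg.1 this⟩)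

theorem isPGroup_UJ (R : RGD cs h p T n X) (J : Set I) : IsPGroup p ↥(UJ cs h X J) :=
  R.isPGroup_Upos.to_le (RGD.Sup_mono fun _ hx => ⟨hx.1, hx.2.1⟩)

theorem isPGroup_UNJ (R : RGD cs h p T n X) (J : Set I) : IsPGroup p ↥(UNJ cs h X J) :=
  (Cfsg.Agent.KFacts.RgdAut.isPGroup_UN R).to_le (RGD.Sup_mono fun x hx =>
    ⟨by have := hx.1.neg; rwa [neg_neg] at this, by have := hx.2.1; exact neg_nonneg.1 this⟩)

theorem lp_lft (R : RGD cs h p T n X) (hs : Function.Surjective θ) (hc : θ.ker ≤ Subgroup.center E)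
    (hker : (Nat.card θ.ker).Coprime p) {J : Set I} {c₁ c₂ : E} (hL : LP cs h T X J (θ c₁) (θ c₂)) :
    LP cs h (T.comap θ) (fun x => lft p θ (X x)) J c₁ c₂ where
  mem₁ := lj_lft R hs hc hker hL.mem₁
  mem₂ := lj_lft R hs hc hker hL.mem₂
  fix₁ := by
    have h1 := isPGroup_VNJ R J
    have h2 := nf_lft hc hker h1 hL.fix₁
    unfold VNJ at h1 h2 ⊢
    rwa [sup_lft hs hc hker h1]
  fix₂ := by
    have h1 := isPGroup_VJ R J
    have h2 := nf_lft hc hker h1 hL.fix₂
    unfold VJ at h1 h2 ⊢
    rwa [sup_lft hs hc hker h1]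

/-- elements of the lifted group as images -/
theorem mem_map_lft {S : Type*} [Group S] (hc : θ.ker ≤ Subgroup.center E)
    (hker : (Nat.card θ.ker).Coprime p) {P : Subgroup Y} (hP : IsPGroup p P) {Q : Subgroup S} (hQ : IsPGroup p Q)
    {φ : S →* E} (hQP : P ≤ Q.map (θ.comp φ)) {v : E} (hv : v ∈ lft p θ P) : v ∈ Q.map φ := by
  have h1 := ((mem_lft hc hP).1 hv).1
  obtain ⟨q, hq, e⟩ := hQP h1
  have e' : θ (φ q) = θ v := e
  obtain ⟨k, hk⟩ := hQ ⟨q, hq⟩
  have hk' : q ^ p ^ k = 1 := by simpa only [_root_.SubmonoidClass.mk_pow, _root_.OneMemClass.coe_one] using congrArg Subtype.val hk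
  have h2 : φ q ∈ lft p θ P := (mem_lft hc hP).2 ⟨by rw [e']; exact h1, k, by rw [← map_pow, hk', map_one]⟩
  have h3 := eq_one_of_mem_lft hc hker hP (mul_mem (inv_mem h2) hv) (by rw [map_mul, map_inv, e', inv_mul_cancel])
  exact ⟨q, hq, inv_mul_eq_one.1 h3⟩

variable {F : I → Type*} [∀ i, Field (F i)] [∀ i, Finite (F i)]
  {s : ∀ i, Matrix.SpecialLinearGroup (Fin 2) (F i) →* Y}

/-- **The frame.** -/
theorem frame [Nonempty I] [IsSimpleGroup Y] (R : RGD cs h p T n X) (hG : G1 cs h X = ⊤) (C : Coord X F s)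
    (hs : Function.Surjective θ) (hc : θ.ker ≤ Subgroup.center E) (hker : (Nat.card θ.ker).Coprime p)
    (hE : commutator E = ⊤) {s' : ∀ i, Matrix.SpecialLinearGroup (Fin 2) (F i) →* E}
    (hs' : ∀ i, θ.comp (s' i) = s i)
    (hconn : ∀ J : Set I, J.Nonempty → J ≠ Set.univ → ∃ a ∈ J, ∃ b, b ∉ J ∧ M a b ≠ 2) {J : Set I}
    (hb : ∀ v ∈ lft p θ (UNJ cs h X J), ∀ u ∈ lft p θ (UJ cs h X J), ∃ c₁ c₂, v * u = c₁ * c₂ ∧
      LP cs h T X J (θ c₁) (θ c₂) ∧ ∃ y, c₂ = y * c₁⁻¹ * y⁻¹) {g : E} (hg : θ g ≠ 1) :
    ∃ a b : E, g = a * b * a⁻¹ * b⁻¹ := by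
  have hn : ∃ n' : I → E, ∀ i, θ (n' i) = n i := by
    choose n' hn' using fun i => hs (n i)
    exact ⟨n', hn'⟩
  obtain ⟨n', hn⟩ := hn
  have R' := rgd_lift hc hker hs R hn
  have C' : Coord (fun x => lft p θ (X x)) F s' := coord_lift R C hc hker hs'
  have hG' := G1_lift R hG hs hc hker hE
  refine comm R' hG' C' hconn (J := J) (fun v hv u hu => ?_) (fun hcore => hg ?_)
  · have h1 := isPGroup_UNJ R J
    have h2 := isPGroup_UJ R J
    have h3 : v ∈ lft p θ (UNJ cs h X J) := by
      unfold UNJ at h1 hv ⊢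
      rwa [sup_lft hs hc hker h1] at hv
    have h4 : u ∈ lft p θ (UJ cs h X J) := by
      unfold UJ at h2 hu ⊢
      rwa [sup_lft hs hc hker h2] at hu
    obtain ⟨c₁, c₂, e, hL, hy⟩ := hb v h3 u h4
    exact ⟨c₁, c₂, e, lp_lft R hs hc hker hL, hy⟩
  · exact Cfsg.Agent.H162.GaussMain.core_le_ker R' θ hs hc hcore

end RGDs

end Cfsg.Agent.H92.QS
end

-- part: H92/QS/Row
section
/-!
# The row with a block of type `A₂` in a central extension of exponent 3 (helper92)

`row_cover` : `θ : E →* D.group K` with kernel central of exponent 3 and order prime to `p`, the table `Tab` of `H194.Ore`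
and a lift of the block: every `g ∈ E` outside the kernel is a commutator.
-/

set_option autoImplicit false
set_option linter.unusedSectionVars false

namespace Cfsg.Agent.H92.QS

open CoxeterSystem Cfsg.Agent.ChevalleyStructure.CoxeterGeom Cfsg.Agent.Tits.Roots Cfsg.Agent.Tits.Core
  Cfsg.Agent.Nodes.Reps Cfsg.Agent.Nodes.BNOf Cfsg.Agent.Nodes.RGDLib Cfsg.Agent.Nodes.Bruhat
  Cfsg.Agent.Nodes.OppDec Cfsg.Agent.Nodes.LeviDec Cfsg.Agent.Nodes.KindChev Cfsg.Agent.Nodes.ChevCls
  Cfsg.Agent.OddHalf.NI.ModelChev Cfsg.Agent.Nodes.StabComb Cfsg.Agent.Nodes.RGDLift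
  Cfsg.Agent.H162.GaussDec Cfsg.Agent.H162.GaussLevi Cfsg.Agent.H162.GaussSL Cfsg.Agent.H162.GaussReg
  Cfsg.Agent.H162.GaussPQ
  Cfsg.Agent.H928.Ore.Frame Cfsg.Agent.H928.Ore.Fix
open Cfsg.Lie Cfsg.Agent.ChevalleyStructure Cfsg.Agent.ChevalleyStructure.Elts
  Cfsg.Agent.ChevalleyStructure.RootVec Cfsg.Agent.ChevalleyStructure.NPerm
  Cfsg.Agent.ChevalleyStructure.CoxeterGeomTypes Cfsg.Agent.Nodes.RGDChev Cfsg.Agent.KFacts.RgdChevCoord
open Cfsg.Agent.TitsThree.KExcRT Cfsg.Agent.H335.Sr Cfsg.Agent.H129.TorusChar Cfsg.Agent.H777.Ore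
open Cfsg.Agent.H162.GaussExc (sg sg_mem ch_sg act_sg wd fr fr_lt wd_act fr_vec wd_norm eq_of_ch prod_zpow coord)
open Cfsg.Agent.H194.Ore

universe u v

/-! ### unitriangular matrices -/

theorem pow_eq_one_of_nil {K : Type*} [Field K] (p : ℕ) [Fact p.Prime] [CharP K p]
    {A : Matrix.SpecialLinearGroup (Fin 3) K} (hA : (A.1 - 1) ^ 3 = 0) : A ^ p ^ 2 = 1 := by
  apply Subtype.ext
  show ((A ^ p ^ 2 : Matrix.SpecialLinearGroup (Fin 3) K) : Matrix (Fin 3) (Fin 3) K) = 1
  rw [Matrix.SpecialLinearGroup.coe_pow]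
  have h1 : (A : Matrix (Fin 3) (Fin 3) K) = (A.1 - 1) + 1 := by abel
  have : CharP (Matrix (Fin 3) (Fin 3) K) p := inferInstance
  have : ExpChar (Matrix (Fin 3) (Fin 3) K) p := ExpChar.prime Fact.out
  rw [h1, add_pow_expChar_pow_of_commute p 2 (Commute.one_right _), one_pow]
  have h2 : 3 ≤ p ^ 2 := by
    have := (Fact.out : p.Prime).two_le
    nlinarith
  obtain ⟨k, hk⟩ := Nat.exists_eq_add_of_le h2
  rw [hk, pow_add, hA, zero_mul, zero_add]

theorem isPGroup_UT3 {K : Type*} [Field K] (p : ℕ) [Fact p.Prime] [CharP K p] : IsPGroup p ↥(UT 3 K) := by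
  rintro ⟨A, hA⟩
  refine ⟨2, Subtype.ext (pow_eq_one_of_nil p ?_)⟩
  obtain ⟨h1, h2⟩ := mem_UT.1 hA
  have e1 := h1 1 0 (by decide)
  have e2 := h1 2 0 (by decide)
  have e3 := h1 2 1 (by decide)
  have f0 := h2 0
  have f1 := h2 1
  have f2 := h2 2
  ext i j
  fin_cases i <;> fin_cases j <;>
    simp only [pow_succ, Matrix.mul_apply, Fin.sum_univ_three, Matrix.sub_apply, e1, e2, e3, f0, f1, f2, _root_.Fin.zero_eta, _root_.Fin.isValue, _root_.pow_zero, _root_.one_mul, _root_.Matrix.one_apply_eq, _root_.sub_self, _root_.MulZeroClass.zero_mul, _root_.ne_eq, _root_.zero_ne_one, _root_.not_false_eq_true, _root_.Matrix.one_apply_ne, _root_.sub_zero, _root_.zero_add, _root_.Fin.reduceEq, _root_.one_ne_zero, _root_.MulZeroClass.mul_zero, _root_.add_zero, _root_.Matrix.zero_apply, _root_.Fin.mk_one, _root_.Fin.reduceFinMk, _root_.Finset.sum_const_zero]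

theorem isPGroup_LT3 {K : Type*} [Field K] (p : ℕ) [Fact p.Prime] [CharP K p] : IsPGroup p ↥(LT 3 K) := by
  rintro ⟨A, hA⟩
  refine ⟨2, Subtype.ext (pow_eq_one_of_nil p ?_)⟩
  obtain ⟨h1, h2⟩ := mem_LT.1 hA
  have e1 := h1 0 1 (by decide)
  have e2 := h1 0 2 (by decide)
  have e3 := h1 1 2 (by decide)
  have f0 := h2 0
  have f1 := h2 1
  have f2 := h2 2
  ext i j
  fin_cases i <;> fin_cases j <;>
    simp only [pow_succ, Matrix.mul_apply, Fin.sum_univ_three, Matrix.sub_apply, e1, e2, e3, f0, f1, f2, _root_.Fin.zero_eta, _root_.Fin.isValue, _root_.pow_zero, _root_.one_mul, _root_.Matrix.one_apply_eq, _root_.sub_self, _root_.MulZeroClass.zero_mul, _root_.ne_eq, _root_.zero_ne_one, _root_.not_false_eq_true, _root_.Matrix.one_apply_ne, _root_.add_zero, _root_.Fin.reduceEq, _root_.Finset.sum_const_zero, _root_.Matrix.zero_apply, _root_.Fin.mk_one, _root_.Fin.reduceFinMk, _root_.one_ne_zero, _root_.sub_zero, _root_.MulZeroClass.mul_zero, _root_.zero_add]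

/-- a unit which is not of order 1 or 2 -/
theorem exists_unit {K : Type u} [Field K] [Finite K] (hK : 4 ≤ Nat.card K) : ∃ t : Kˣ, t ≠ 1 ∧ t * t ≠ 1 := by
  by_contra hcon
  push Not at hcon
  have h1 : ∀ x : K, x = 0 ∨ x = 1 ∨ x = -1 := by
    intro x
    by_cases hx : x = 0
    · exact .inl hx
    · right
      by_cases h1 : x = 1
      · exact .inl h1
      · right
        have h2 := hcon (Units.mk0 x hx) (fun h => h1 (by
          have := congrArg Units.val h
          simpa using this))
        have h3 : x * x = 1 := by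
          have := congrArg Units.val h2
          simpa only [_root_.Units.val_mul, _root_.Units.val_mk0, _root_.Units.val_one] using this
        rcases mul_self_eq_one_iff.1 h3 with h4 | h4
        · exact absurd h4 h1
        · exact h4
  classical
  have := Fintype.ofFinite K
  have h2 : (Finset.univ : Finset K) ⊆ {0, 1, -1} := by
    intro x _
    simp only [Finset.mem_insert, Finset.mem_singleton]
    exact h1 x
  have h3 := Finset.card_le_card h2
  rw [Finset.card_univ, ← Nat.card_eq_fintype_card] at h3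
  have h4 : ({0, 1, -1} : Finset K).card ≤ 3 := Finset.card_le_three
  omega

theorem perf3 (K : Type*) [Field K] : commutator (Matrix.SpecialLinearGroup (Fin 3) K) = ⊤ :=
  Cfsg.Agent.LieClassical.SLGen.commutator_eq_top (by simp)

section

variable {D : ChevalleyDatum} {l : ℕ} {M : CoxeterMatrix (Fin l)} (hp : IsType D l M) {K : Type u} [Field K] [Finite K]
  {J : List (Fin l)} {m : Fin l → ℤ} {γ : Fin l → Fin l} {ω ω₁ : List (Fin l)} {r : Fin 3 → Fin 3 → ℕ} {ε : ℤ}
  {i j : Fin l} (T : Tab D l J m γ ω ω₁ r ε i j) (t : Kˣ)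
  {E : Type v} [Group E] [Finite E] {θ : E →* ↥(D.group K)} (hs : Function.Surjective θ)
  (hc : θ.ker ≤ Subgroup.center E) (h3 : ∀ z : E, θ z = 1 → z ^ 3 = 1)
  {φ : Matrix.SpecialLinearGroup (Fin 3) K →* E}
  (hφ : ∀ a b (hab : a ≠ b) c, θ.comp φ (Matrix.SpecialLinearGroup.transvection hab c) =
    xc hp (vec D l (r a b)) ((ε : K) * c))

include T hs hc h3 hφ in
/-- an element inverting `φ X` and commuting with `s₀` -/
theorem exists_inv (p : ℕ) [Fact p.Prime] [CharP K p] (hε : ε * ε = 1) (hZ : Subgroup.center ↥(D.group K) = ⊥)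
    {d : ℕ} {B : Fin l → Fin l → ℤ} (hB : InvC D l d B) (hd : Odd d) {s₀ : E} (hs₀ : θ s₀ = sg hp m t)
    {X : Matrix.SpecialLinearGroup (Fin 3) K} (hx : Irreducible (X : Matrix (Fin 3) (Fin 3) K).charpoly) :
    ∃ v : E, v * s₀ * v⁻¹ = s₀ ∧ v * φ X * v⁻¹ = (φ X)⁻¹ := by
  have R := rgd (K := K) hp M.toCoxeterSystem p
  have hw : ∀ q < D.nroots, rep M.toCoxeterSystem hp.isCartan (M.toCoxeterSystem.wordProd ω) (vec D l q) =
      vec D l (fr D ω q) := fun q hq => (fr_vec hp M.toCoxeterSystem ω hq).symm
  obtain ⟨z, Z⟩ := exists_ZD (K := K) hp M.toCoxeterSystem R.nsys (w := M.toCoxeterSystem.wordProd ω) T.gg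
    (fun k => by
      have hk := _root_.Cfsg.Agent.ChevalleyStructure.NPerm.simple_lt hp.inList (lt_rank hp k)
      rw [← vec_simple hp k, hw _ hk, T.wg, vec_neg hp (_root_.Cfsg.Agent.ChevalleyStructure.NPerm.simple_lt hp.inList (lt_rank hp (γ k))), vec_simple hp])
    hB hd (fun _ => 1) (fun _ => .inl rfl) (fun _ => rfl)
  have hεK : (ε : K) * (ε : K) = 1 := by rw [← Int.cast_mul, hε, Int.cast_one]
  obtain ⟨e, he, hτ⟩ := Z.block (n := 1) (r := r) (s := fun _ _ => (ε : K)) T.ra T.rn
    (fun a b hab => by rw [hw _ (T.ra a b hab), T.wr a b hab, T.rn a b hab, vec_neg hp (T.ra a b hab)])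
    (fun _ _ _ => hεK) hφ
  have hsγ : ∀ k, ch hp (sr (γ k)) (sg hp m t) = ch hp (sr k) (sg hp m t) := fun k => by
    have h3 := _root_.Cfsg.Agent.ChevalleyStructure.NPerm.simple_lt hp.inList (lt_rank hp k)
    have h4 := _root_.Cfsg.Agent.ChevalleyStructure.NPerm.simple_lt hp.inList (lt_rank hp (γ k))
    rw [← vec_simple hp k, ← vec_simple hp (γ k), ch_sg hp m t h3, ch_sg hp m t h4, T.mg]
  have htor := Z.tor (sg_mem (K := K) hp m t) T.gg hsγ
  obtain ⟨z', hz', hz2⟩ := exists_sq h3 hs Z.sq
  have h1 : ∀ A, z' * φ A * z'⁻¹ = φ (tau e he A) := conj_lift (perf3 K) hc (fun A => by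
    rw [hz']
    exact hτ A)
  obtain ⟨H, hH, hXH, hdet⟩ := exists_symm X.1 hx (∏ a, e a)
  obtain ⟨S, g1, g2⟩ := exists_S he X hH hXH hdet
  obtain ⟨g3, g4⟩ := invol hz2 h1 g1 g2
  obtain ⟨w, hw'⟩ := hs (Cfsg.Agent.H162.GaussExc.wd hp K ω₁)
  have h2 : ∀ A, w * φ A = φ A * w := comm_phi (perf3 K) hc (fun A => by
    rw [hw']
    have h5 := T.wd_phi hp hφ A
    exact (mul_inv_eq_iff_eq_mul.1 h5))
  refine ⟨(w * (z' * φ S)) ^ 3, cube_comm hc h3 ?_, cube_inv ?_⟩
  · have k1 : θ (z' * φ S) * sg hp m t * (θ (z' * φ S))⁻¹ = (sg hp m t)⁻¹ := by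
      have k2 := T.comm hp t hφ S
      rw [map_mul, hz']
      calc z * θ (φ S) * sg hp m t * (z * θ (φ S))⁻¹ = z * (θ (φ S) * sg hp m t) * (θ (φ S))⁻¹ * z⁻¹ := by group
        _ = z * (sg hp m t * θ (φ S)) * (θ (φ S))⁻¹ * z⁻¹ := by
          have k3 : sg hp m t * θ (φ S) = θ (φ S) * sg hp m t := k2
          rw [k3]
        _ = z * sg hp m t * z⁻¹ := by group
        _ = _ := htor
    have k4 := wd_sg (K := K) hp t p hZ T.wm
    rw [hs₀, map_mul, hw']
    calc Cfsg.Agent.H162.GaussExc.wd hp K ω₁ * θ (z' * φ S) * sg hp m t *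
          (Cfsg.Agent.H162.GaussExc.wd hp K ω₁ * θ (z' * φ S))⁻¹
        = Cfsg.Agent.H162.GaussExc.wd hp K ω₁ * (θ (z' * φ S) * sg hp m t * (θ (z' * φ S))⁻¹) *
          (Cfsg.Agent.H162.GaussExc.wd hp K ω₁)⁻¹ := by group
      _ = (Cfsg.Agent.H162.GaussExc.wd hp K ω₁ * sg hp m t * (Cfsg.Agent.H162.GaussExc.wd hp K ω₁)⁻¹)⁻¹ := by
        rw [k1]; group
      _ = sg hp m t := by rw [k4, inv_inv]
  · have k5 := h2 X
    calc w * (z' * φ S) * φ X * (w * (z' * φ S))⁻¹ = w * ((z' * φ S) * φ X * (z' * φ S)⁻¹) * w⁻¹ := by group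
      _ = w * (φ X)⁻¹ * w⁻¹ := by rw [g4]
      _ = (w * φ X * w⁻¹)⁻¹ := by group
      _ = (φ X)⁻¹ := by rw [k5]; group

include T hs hc h3 hφ in
/-- **The pairs.** -/
theorem pairs (p : ℕ) [Fact p.Prime] [CharP K p] (hker : (Nat.card θ.ker).Coprime p) (hε : ε * ε = 1)
    (hZ : Subgroup.center ↥(D.group K) = ⊥)
    {d : ℕ} {B : Fin l → Fin l → ℤ} (hB : InvC D l d B) (hd : Odd d) (hm3 : M3 K) (ht1 : t ≠ 1) (ht2 : t * t ≠ 1) :
    ∀ v ∈ lft p θ (UNJ M.toCoxeterSystem hp.isCartan (XX D l K) {k | k ∈ J}),
      ∀ u ∈ lft p θ (UJ M.toCoxeterSystem hp.isCartan (XX D l K) {k | k ∈ J}), ∃ c₁ c₂, v * u = c₁ * c₂ ∧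
        LP M.toCoxeterSystem hp.isCartan (TT D K) (XX D l K) {k | k ∈ J} (θ c₁) (θ c₂) ∧
        ∃ y, c₂ = y * c₁⁻¹ * y⁻¹ := by
  intro v hv u hu
  have := finite_W hp M.toCoxeterSystem
  have R := rgd (K := K) hp M.toCoxeterSystem p
  obtain ⟨L, hL, rfl⟩ := mem_map_lft hc hker (isPGroup_UNJ R {k | k ∈ J}) (isPGroup_LT3 (K := K) p)
    (T.lo hp hφ hε) hv
  obtain ⟨U, hU, rfl⟩ := mem_map_lft hc hker (isPGroup_UJ R {k | k ∈ J}) (isPGroup_UT3 (K := K) p)
    (T.up hp hφ hε) hu
  obtain ⟨X, Y, hXY, hX, hY, hcc⟩ := hm3 L hL U hU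
  obtain ⟨s₀, hs₀⟩ := hs (sg hp m t)
  have hcom : ∀ A, s₀ * φ A = φ A * s₀ := comm_phi (perf3 K) hc (fun A => by
    rw [hs₀]
    exact T.comm hp t hφ A)
  have hsT : sg hp m t ∈ LJ M.toCoxeterSystem hp.isCartan (TT D K) (XX D l K) {k | k ∈ J} := T_le_LJ (sg_mem hp m t)
  have hti : (sg hp m t)⁻¹ = sg hp m t⁻¹ := by
    refine inv_eq_of_mul_eq_one_right ?_
    unfold sg
    rw [← map_mul]
    convert map_one (th hp)
    funext k
    rw [Pi.mul_apply, inv_zpow, mul_inv_cancel]
    rfl
  have e1 : θ (s₀ * φ X) = sg hp m t * θ.comp φ X := by rw [map_mul, hs₀]; rfl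
  have e2 : θ (s₀⁻¹ * φ Y) = (sg hp m t)⁻¹ * θ.comp φ Y := by rw [map_mul, map_inv, hs₀]; rfl
  refine ⟨s₀ * φ X, s₀⁻¹ * φ Y, ?_, ?_, ?_⟩
  · calc φ L * φ U = φ (X * Y) := by rw [← map_mul, hXY]
      _ = φ X * φ Y := map_mul _ _ _
      _ = (φ X * s₀) * (s₀⁻¹ * φ Y) := by group
      _ = _ := by rw [← hcom]
  · rw [e1, e2]
    refine ⟨mul_mem hsT (T.range hp hφ X), mul_mem (inv_mem hsT) (T.range hp hφ Y),
      (T.nf hp t hφ hε ht1 ht2 hX).2, ?_⟩
    rw [hti]
    exact (T.nf hp t⁻¹ hφ hε (by rwa [ne_eq, inv_eq_one]) (by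
      rw [← mul_inv, ne_eq, inv_eq_one]
      exact ht2) hY).1
  · rcases hcc with hcc | hcc
    · obtain ⟨g, hg⟩ := Cfsg.Agent.H150.MF.exists_conj (Cfsg.Agent.H150.MF.cls_of_irreducible hX)
        (Cfsg.Agent.H150.MF.cls_of_irreducible hY) hcc.symm
      obtain ⟨w, hw1, hw2⟩ := exists_inv hp T t hs hc h3 hφ p hε hZ hB hd hs₀ hX
      refine ⟨φ g * w, ?_⟩
      have f1 : w * (s₀ * φ X)⁻¹ * w⁻¹ = φ X * s₀⁻¹ := by
        calc w * (s₀ * φ X)⁻¹ * w⁻¹ = (w * φ X * w⁻¹)⁻¹ * (w * s₀ * w⁻¹)⁻¹ := by group
          _ = _ := by rw [hw1, hw2, inv_inv]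
      have f2 : ∀ A, s₀⁻¹ * φ A = φ A * s₀⁻¹ := fun A => by
        calc s₀⁻¹ * φ A = s₀⁻¹ * (φ A * s₀) * s₀⁻¹ := by group
          _ = _ := by rw [← hcom]; group
      calc s₀⁻¹ * φ Y = s₀⁻¹ * (φ g * φ X * (φ g)⁻¹) := by rw [hg, map_mul, map_mul, map_inv]
        _ = (s₀⁻¹ * φ g) * φ X * (φ g)⁻¹ := by group
        _ = φ g * (s₀⁻¹ * φ X) * (φ g)⁻¹ := by rw [f2]; group
        _ = φ g * (w * (s₀ * φ X)⁻¹ * w⁻¹) * (φ g)⁻¹ := by rw [f1, f2]
        _ = _ := by group
    · have hXi : Irreducible ((X⁻¹ : Matrix.SpecialLinearGroup (Fin 3) K) : Matrix (Fin 3) (Fin 3) K).charpoly := by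
        rw [← hcc]
        exact hY
      obtain ⟨g, hg⟩ := Cfsg.Agent.H150.MF.exists_conj (Cfsg.Agent.H150.MF.cls_of_irreducible hXi)
        (Cfsg.Agent.H150.MF.cls_of_irreducible hY) hcc.symm
      refine ⟨φ g, ?_⟩
      have f2 : ∀ A, s₀⁻¹ * φ A = φ A * s₀⁻¹ := fun A => by
        calc s₀⁻¹ * φ A = s₀⁻¹ * (φ A * s₀) * s₀⁻¹ := by group
          _ = _ := by rw [← hcom]; group
      calc s₀⁻¹ * φ Y = (s₀⁻¹ * φ g) * (φ X)⁻¹ * (φ g)⁻¹ := by
            rw [hg, map_mul, map_mul, map_inv, map_inv]; group
        _ = φ g * (s₀⁻¹ * (φ X)⁻¹) * (φ g)⁻¹ := by rw [f2]; group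
        _ = φ g * (φ X * s₀)⁻¹ * (φ g)⁻¹ := by group
        _ = _ := by rw [← hcom]

include T hs hc h3 hφ in
/-- **The row in a cover.** -/
theorem row_cover (hK : 4 ≤ Nat.card K) (p : ℕ) [Fact p.Prime] [CharP K p] (hker : (Nat.card θ.ker).Coprime p)
    (hE : commutator E = ⊤) (hε : ε * ε = 1) (hS : IsSimpleGroup ↥(D.group K) ∧ ¬ IsMulCommutative ↥(D.group K))
    (hM : ∀ J : Finset (Fin l), J = ∅ ∨ J = Finset.univ ∨ ∃ a ∈ J, ∃ b, b ∉ J ∧ M a b ≠ 2)
    {d : ℕ} {B : Fin l → Fin l → ℤ} (hB : InvC D l d B) (hd : Odd d) (hm3 : M3 K)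
    {s' : ∀ _ : Fin l, Matrix.SpecialLinearGroup (Fin 2) K →* E} (hs' : ∀ i, θ.comp (s' i) = sl hp i) {g : E}
    (hg : θ g ≠ 1) : ∃ a b : E, g = a * b * a⁻¹ * b⁻¹ := by
  have := finite_W hp M.toCoxeterSystem
  have := hS.1
  have : Nonempty (Fin l) := ⟨i⟩
  obtain ⟨t, ht1, ht2⟩ := exists_unit hK
  exact frame (rgd (K := K) hp M.toCoxeterSystem p) (G1_eq_top hp _) (Cfsg.Agent.OddHalf.NI.ExcEnd.coord hp) hs hc hker
    hE hs' (Cfsg.Agent.Nodes.ChevChart.irr_of hM) (J := {k | k ∈ J})
    (pairs hp T t hs hc h3 hφ p hker hε (Cfsg.Agent.Nodes.ChevChart.center_eq_bot hS) hB hd hm3 ht1 ht2) hg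

end

end Cfsg.Agent.H92.QS
end

-- part: H92/QS/ESix
section
/-!
# `RowA` for `E₆(q)` (S2491, piece C3; helper92)

The universal cover is Steinberg's group `chevE6.SteinbergGroup K`. The blocks of type `A₂` lift (`exists_hom_St`), the
row of `H194.Ore` is repeated in the cover (`row_cover`), and the centre consists of products of scalars of two commuting
groups `SL₃`.
-/

set_option autoImplicit false
set_option linter.unusedSectionVars false

namespace Cfsg.Agent.H92.QS

open Cfsg.Lie Cfsg.Agent.ChevalleyStructure Cfsg.Agent.ChevalleyStructure.Elts Cfsg.Agent.Nodes.RGDChev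
  Cfsg.Agent.KFacts.RgdChevCoord Cfsg.Agent.ChevalleyStructure.RootVec Cfsg.Agent.ChevalleyStructure.NPerm
  Cfsg.Agent.ChevalleyStructure.CoxeterGeomTypes
open Cfsg.Agent.TitsThree.KExcRT Cfsg.Agent.ChevalleyStructure.StBasic Cfsg.Agent.ChevalleyStructure.StTorus
open Cfsg.Agent.OddHalf.NI.Mult Cfsg.Agent.OddHalf.NI.ModelChev Cfsg.Agent.Nodes.KindE
open Cfsg.Agent.H162.GaussExcMain (r6 rt6)
open Cfsg.Agent.H584.Ore.ESix (rA rB rtA o4)
open Cfsg.Agent.H584.Ore.Build (Orth comm_blocks sl_tv nd)
open Cfsg.Agent.H777.Ore (IsC AllC)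
open Cfsg.Agent.H51.Mult (PCE)
open Cfsg.Agent.H6.QO (RowA)

universe u

/-! ### matrices -/

section Mat

variable {K : Type*} [Field K]

theorem dg_eq (t : Kˣ) : dg t = (up (t : K) * lo (-(t : K)⁻¹) * up (t : K)) *
    (up (-1) * lo (-(-1 : K)⁻¹) * up (-1)) := by
  have ht : (t : K) ≠ 0 := t.ne_zero
  apply Subtype.ext
  simp only [Matrix.SpecialLinearGroup.coe_mul, coe_dg, coe_up, coe_lo, Matrix.mul_fin_two]
  ext i j
  (revert i j; simp [ht, _root_.Fin.forall_fin_succ])

/-- the scalar matrix -/
def sc (w : K) (hw : w ^ 3 = 1) : Matrix.SpecialLinearGroup (Fin 3) K :=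
  ⟨Matrix.diagonal fun _ => w, by rw [Matrix.det_diagonal]; simpa only [_root_.Finset.prod_const, _root_.Finset.card_univ, _root_.Fintype.card_fin] using hw⟩

/-- `diag(1, w, w²)` -/
def da (w : K) (hw : w ^ 3 = 1) : Matrix.SpecialLinearGroup (Fin 3) K :=
  ⟨Matrix.diagonal ![1, w, w ^ 2], by
    rw [Matrix.det_diagonal, Fin.prod_univ_three]
    simp only [Matrix.cons_val_zero, Matrix.cons_val_one, Matrix.cons_val_two, Matrix.head_cons, Matrix.tail_cons]
    linear_combination hw⟩

/-- the cyclic permutation -/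
def pb (K : Type*) [Field K] : Matrix.SpecialLinearGroup (Fin 3) K :=
  ⟨!![0, 0, 1; 1, 0, 0; 0, 1, 0], by simp [Matrix.det_fin_three]⟩

theorem sc_comm (w : K) (hw : w ^ 3 = 1) : sc w hw = da w hw * pb K * (da w hw)⁻¹ * (pb K)⁻¹ := by
  rw [eq_mul_inv_iff_mul_eq, eq_mul_inv_iff_mul_eq]
  apply Subtype.ext
  show (Matrix.diagonal fun _ => w) * !![0, 0, 1; 1, 0, 0; 0, 1, 0] * Matrix.diagonal ![1, w, w ^ 2] =
    Matrix.diagonal ![1, w, w ^ 2] * !![0, 0, 1; 1, 0, 0; 0, 1, 0]
  ext i j
  rw [Matrix.mul_diagonal, Matrix.diagonal_mul, Matrix.diagonal_mul]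
  (revert i j; simp only [_root_.Fin.forall_fin_succ, _root_.Matrix.of_apply, _root_.Matrix.cons_val', _root_.Matrix.cons_val_fin_one, _root_.Nat.succ_eq_add_one, Nat.reduceAdd, Fin.isValue, _root_.Matrix.cons_val_zero, _root_.mul_one, _root_.mul_eq_mul_right_iff, _root_.Matrix.cons_val_succ, _root_.forall_const, _root_.or_true, _root_.MulZeroClass.mul_zero, _root_.MulZeroClass.zero_mul, _root_.one_ne_zero, _root_.or_false, _root_.and_true, _root_.true_and]) <;> (repeat' with_reducible apply And.intro)
  · linear_combination hw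
  · ring

end Mat

section St

variable {K : Type u} [Field K] {D : ChevalleyDatum} {l : ℕ} {M : CoxeterMatrix (Fin l)} (hp : IsType D l M)

theorem theta_xc {r : ℕ} (hr : r < D.nroots) (c : K) :
    StTheta.theta hp.inList K (D.stGen K r c) = xc hp (vec D l r) c := by
  apply Subtype.ext
  rw [coe_xc hp hr, StTheta.coe_theta, StTheta.thetaGL_stGen]

/-- the torus elements of the presented group -/
theorem sth_eq_dg {f : Matrix.SpecialLinearGroup (Fin 2) K →* D.SteinbergGroup K} {r : ℕ}
    (h1 : ∀ c, f (up c) = D.stGen K r c) (h2 : ∀ c, f (lo c) = D.stGen K (D.neg r) c) (t : Kˣ) :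
    sth D r (t : K) = f (dg t) := by
  rw [dg_eq]
  simp only [map_mul, h1, h2]
  rw [sth_eq, ← stn_neg, stn_eq, stn_eq]

/-- the homomorphisms `SL₂ → SL₃ → St` -/
theorem emb_up_lo {r : Fin 3 → Fin 3 → ℕ} {s : Fin 3 → Fin 3 → ℤ}
    {φ : Matrix.SpecialLinearGroup (Fin 3) K →* D.SteinbergGroup K}
    (hφ : ∀ a b (hab : a ≠ b) c, φ (Matrix.SpecialLinearGroup.transvection hab c) = D.stGen K (r a b) ((s a b : K) * c))
    {a b : Fin 3} (hab : a ≠ b) {i : ℕ} (hi : r a b = D.simple i) (hn : r b a = D.neg (r a b)) (hs1 : s a b = 1)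
    (hs2 : s b a = 1) :
    (∀ c, φ (Cfsg.Agent.OddHalf.NI.ClosedSL.emb hab (up c)) = D.stGen K (D.simple i) c) ∧
      ∀ c, φ (Cfsg.Agent.OddHalf.NI.ClosedSL.emb hab (lo c)) = D.stGen K (D.neg (D.simple i)) c := by
  constructor
  · intro c
    rw [Cfsg.Agent.OddHalf.NI.ClosedSL.emb_up, Cfsg.Agent.TitsThree.KSideA.tv_of_ne hab, hφ, hi, hs1, Int.cast_one, one_mul]
  · intro c
    rw [Cfsg.Agent.OddHalf.NI.ClosedSL.emb_lo, Cfsg.Agent.TitsThree.KSideA.tv_of_ne hab.symm, hφ, hn, hi, hs2, Int.cast_one, one_mul]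

theorem comp_sl {f : Matrix.SpecialLinearGroup (Fin 2) K →* D.SteinbergGroup K} {i : Fin l}
    (h1 : ∀ c, f (up c) = D.stGen K (D.simple i) c) (h2 : ∀ c, f (lo c) = D.stGen K (D.neg (D.simple i)) c) :
    (StTheta.theta hp.inList K).comp f = sl hp i := by
  have hlt := _root_.Cfsg.Agent.ChevalleyStructure.NPerm.simple_lt hp.inList (lt_rank hp i)
  refine Cfsg.Agent.H162.GaussReg.hom_ext fun a b hab c => ?_
  rw [sl_tv, one_mul, MonoidHom.comp_apply]
  fin_cases a <;> fin_cases b
  · exact absurd rfl hab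
  · have e : Matrix.SpecialLinearGroup.transvection hab c = (up c : Matrix.SpecialLinearGroup (Fin 2) K) :=
      Cfsg.Agent.H584.Ore.Build.tv_uu c
    rw [e, h1, theta_xc hp hlt]
    rfl
  · have e : Matrix.SpecialLinearGroup.transvection hab c = (lo c : Matrix.SpecialLinearGroup (Fin 2) K) :=
      Cfsg.Agent.H584.Ore.Build.tv_vv c
    rw [e, h2, theta_xc hp (_root_.Cfsg.Agent.ChevalleyStructure.NPerm.neg_lt hp.inList hlt)]
    rfl
  · exact absurd rfl hab

end St

/-! ### the tables -/

/-- the signs of the block of the nodes `4`, `5` -/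
def sB : Fin 3 → Fin 3 → ℤ := ![![1, 1, -1], ![1, 1, 1], ![-1, 1, 1]]

theorem rtB' : RTa chevE6 rB ∧ RTb chevE6 rB sB ∧ RTc chevE6 rB ∧ RTd sB ∧ (∀ a b, a ≠ b → sB b a = sB a b) ∧
    ∀ i j, i ≠ j → rB j i = chevE6.neg (rB i j) := by decide +kernel

theorem spl : r6 0 1 = chevE6.simple 3 ∧ r6 1 2 = chevE6.simple 1 ∧ rA 0 1 = chevE6.simple 2 ∧
    rA 1 2 = chevE6.simple 0 ∧ rB 0 1 = chevE6.simple 4 ∧ rB 1 2 = chevE6.simple 5 := by decide +kernel

/-! ### the centre -/

section Center

variable {K : Type u} [Field K]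

theorem center_aux (Φ : (Fin 6 → Kˣ) →* chevE6.SteinbergGroup K)
    (hΦ : ∀ (i : Fin 6) (x : Kˣ), Φ (Pi.mulSingle i x) = sth chevE6 (chevE6.simple i) (x : K)) (t : Fin 6 → Kˣ)
    (ht : ∀ s < chevE6.nroots, ∏ i : Fin 6, t i ^ chevE6.cartan i s = 1) :
    ∃ w : Kˣ, w ^ 3 = 1 ∧ Φ t = sth chevE6 (chevE6.simple 0) (w : K) *
      sth chevE6 (chevE6.simple 2) ((w ^ 2 : Kˣ) : K) *
      (sth chevE6 (chevE6.simple 4) (w : K) * sth chevE6 (chevE6.simple 5) ((w ^ 2 : Kˣ) : K)) := by
  have hlt : ∀ j : Fin 6, chevE6.simple j < chevE6.nroots := by decide +kernel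
  have h : ∀ j : Fin 6, ∏ i : Fin 6, t i ^ chevE6.cartan i (chevE6.simple j) = 1 := fun j => ht _ (hlt j)
  have key := fun (b e : Fin 6 → ℤ) (hb : ∀ i : Fin 6, ∑ j : Fin 6, chevE6.cartan i (chevE6.simple j) * b j = e i) =>
    eval_eq_one (fun i j : Fin 6 => chevE6.cartan i (chevE6.simple j)) b e hb t h
  have k0 := key ![4, 3, 5, 6, 4, 2] ![3, 0, 0, 0, 0, 0] (by decide +kernel)
  have k1 := key ![1, 2, 2, 3, 2, 1] ![0, 1, 0, 0, 0, 0] (by decide +kernel)
  have k2 := key ![-1, 0, 0, 0, 0, 0] ![-2, 0, 1, 0, 0, 0] (by decide +kernel)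
  have k3 := key ![2, 3, 4, 6, 4, 2] ![0, 0, 0, 1, 0, 0] (by decide +kernel)
  have k4 := key ![0, 1, 1, 2, 2, 1] ![-1, 0, 0, 0, 1, 0] (by decide +kernel)
  have k5 := key ![-2, -1, -2, -2, -1, 0] ![-2, 0, 0, 0, 0, 1] (by decide +kernel)
  rw [Fin.prod_univ_six] at k0 k1 k2 k3 k4 k5
  obtain ⟨w, hw⟩ : ∃ w : Kˣ, w = t 0 := ⟨_, rfl⟩
  have e0 : w ^ 3 = 1 := by
    rw [hw]; simpa only [_root_.Fin.isValue, _root_.Matrix.cons_val_zero, _root_.zpow_ofNat, _root_.Matrix.cons_val_one, _root_.pow_zero, _root_.mul_one, _root_.Matrix.cons_val] using k0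
  have e1 : t 1 = 1 := by simpa using k1
  have e2 : t 2 = w ^ 2 := by
    rw [hw]
    have : (t 0) ^ (-2 : ℤ) * t 2 = 1 := by simpa only [_root_.Fin.isValue, _root_.Int.reduceNeg, _root_.zpow_neg, _root_.zpow_ofNat, _root_.Matrix.cons_val_zero, _root_.Matrix.cons_val_one, _root_.pow_zero, _root_.mul_one, _root_.Matrix.cons_val, _root_.pow_one] using k2
    rw [zpow_neg, inv_mul_eq_one] at this
    rw [← this]; rfl
  have e3 : t 3 = 1 := by simpa using k3
  have e4 : t 4 = w := by
    rw [hw]
    have : (t 0) ^ (-1 : ℤ) * t 4 = 1 := by simpa only [_root_.Fin.isValue, _root_.Int.reduceNeg, _root_.zpow_neg, _root_.zpow_ofNat, _root_.pow_one, _root_.Matrix.cons_val_zero, _root_.Matrix.cons_val_one, _root_.pow_zero, _root_.mul_one, _root_.Matrix.cons_val] using k4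
    rw [zpow_neg, inv_mul_eq_one] at this
    rw [← this, zpow_one]
  have e5 : t 5 = w ^ 2 := by
    rw [hw]
    have : (t 0) ^ (-2 : ℤ) * t 5 = 1 := by simpa only [_root_.Fin.isValue, _root_.Int.reduceNeg, _root_.zpow_neg, _root_.zpow_ofNat, _root_.Matrix.cons_val_zero, _root_.Matrix.cons_val_one, _root_.pow_zero, _root_.mul_one, _root_.Matrix.cons_val, _root_.pow_one] using k5
    rw [zpow_neg, inv_mul_eq_one] at this
    rw [← this]; rfl
  refine ⟨w, e0, ?_⟩
  have et : t = Pi.mulSingle 0 w * Pi.mulSingle 2 (w ^ 2) * (Pi.mulSingle 4 w * Pi.mulSingle 5 (w ^ 2)) := by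
    funext i
    fin_cases i
    · simp [hw]
    · simp [e1]
    · simp [e2]
    · simp [e3]
    · simp [e4]
    · simp [e5]
  rw [et, map_mul, map_mul, map_mul, hΦ, hΦ, hΦ, hΦ]
  rfl

theorem center_form {g : chevE6.SteinbergGroup K} (hg : g ∈ Subgroup.center (chevE6.SteinbergGroup K)) :
    ∃ w : Kˣ, w ^ 3 = 1 ∧ g = sth chevE6 (chevE6.simple 0) (w : K) * sth chevE6 (chevE6.simple 2) ((w ^ 2 : Kˣ) : K) *
      (sth chevE6 (chevE6.simple 4) (w : K) * sth chevE6 (chevE6.simple 5) ((w ^ 2 : Kˣ) : K)) := by
  obtain ⟨Φ, hΦ, hle, hiff⟩ := StCenter.exists_Phi K chevE6 (by simp)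
  obtain ⟨t, rfl⟩ := hle hg
  exact center_aux Φ hΦ t ((hiff t).1 hg)

theorem emb_sc_two (w : Kˣ) (hw : w ^ 3 = 1) (hw' : ((w ^ 2 : Kˣ) : K) ^ 3 = 1) :
    Cfsg.Agent.OddHalf.NI.ClosedSL.emb (by decide : (1 : Fin 3) ≠ 2) (dg w) *
      Cfsg.Agent.OddHalf.NI.ClosedSL.emb (by decide : (0 : Fin 3) ≠ 1) (dg (w ^ 2)) = sc ((w ^ 2 : Kˣ) : K) hw' := by
  have h1 : w⁻¹ = w ^ 2 := inv_eq_of_mul_eq_one_right (by rw [← pow_succ', hw])
  have h2 : (w ^ 2)⁻¹ = w := inv_eq_of_mul_eq_one_right (by rw [← pow_succ, hw])
  apply Subtype.ext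
  rw [Matrix.SpecialLinearGroup.coe_mul, Cfsg.Agent.OddHalf.NI.ClosedSL.emb_dg,
    Cfsg.Agent.OddHalf.NI.ClosedSL.emb_dg, Matrix.diagonal_mul_diagonal, h1, h2]
  show Matrix.diagonal _ = Matrix.diagonal fun _ => ((w ^ 2 : Kˣ) : K)
  congr 1
  funext c
  (revert c; simp only [pow_two, _root_.Fin.forall_fin_succ, Fin.isValue, _root_.Units.val_mul, _root_.mul_ite, _root_.ite_mul, _root_.one_mul, _root_.mul_one, ↓reduceIte, _root_.zero_ne_one, Fin.reduceEq, _root_.Fin.succ_ne_zero, _root_.Fin.succ_zero_eq_one, _root_.Fin.succ_one_eq_two, _root_.IsEmpty.forall_iff, _root_.and_self])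

theorem emb_sc_one (w : Kˣ) (hw : w ^ 3 = 1) (hw' : (w : K) ^ 3 = 1) :
    Cfsg.Agent.OddHalf.NI.ClosedSL.emb (by decide : (0 : Fin 3) ≠ 1) (dg w) *
      Cfsg.Agent.OddHalf.NI.ClosedSL.emb (by decide : (1 : Fin 3) ≠ 2) (dg (w ^ 2)) = sc (w : K) hw' := by
  have h1 : w⁻¹ = w ^ 2 := inv_eq_of_mul_eq_one_right (by rw [← pow_succ', hw])
  have h2 : (w ^ 2)⁻¹ = w := inv_eq_of_mul_eq_one_right (by rw [← pow_succ, hw])
  have h3 : (w : K) ^ 2 * (w : K) ^ 2 = (w : K) := by
    linear_combination (w : K) * hw'
  apply Subtype.ext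
  rw [Matrix.SpecialLinearGroup.coe_mul, Cfsg.Agent.OddHalf.NI.ClosedSL.emb_dg,
    Cfsg.Agent.OddHalf.NI.ClosedSL.emb_dg, Matrix.diagonal_mul_diagonal, h1, h2]
  show Matrix.diagonal _ = Matrix.diagonal fun _ => (w : K)
  congr 1
  funext c
  fin_cases c <;> simp [h3]

end Center

/-! ### the row -/

/-- **Every element of Steinberg's group of type `E₆` is a commutator.** -/
theorem allC_St6 {K : Type u} [Field K] [Finite K] (hK : 4 ≤ Nat.card K) : AllC (chevE6.SteinbergGroup K) := by
  have := Fintype.ofFinite K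
  have hcard := Cfsg.Agent.S1079.result (K := K) (q := Fintype.card K) rfl (chevE6, 3) (by simp)
  have hk := Cfsg.Agent.H65.MultE.ker_theta (K := K) isType6.inList
  have hfin : Finite (chevE6.SteinbergGroup K) := Cfsg.Agent.H65.MultE.finite_St isType6.inList (by
    rw [hcard]
    exact (Nat.gcd_pos_of_pos_left _ (by norm_num)).ne')
  obtain ⟨p, hpc⟩ := CharP.exists K
  have hpf : Fact p.Prime := ⟨(CharP.char_is_prime_or_zero K p).resolve_right (CharP.char_ne_zero_of_finite K p)⟩
  have hcd : Nat.card (StTheta.theta isType6.inList K).ker = Nat.gcd 3 (Fintype.card K - 1) := by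
    rw [hk]; exact hcard
  have hcop : (Nat.card (StTheta.theta isType6.inList K).ker).Coprime p := by
    rw [hcd]
    refine Nat.Coprime.coprime_dvd_left (Nat.gcd_dvd_right _ _) ?_
    rw [Nat.coprime_comm, hpf.out.coprime_iff_not_dvd]
    intro h1
    obtain ⟨n, -, hn⟩ := FiniteField.card K p
    have h2 : p ∣ Fintype.card K := by
      rw [hn]; exact dvd_pow_self p n.2.ne'
    have h4 : 1 ≤ Fintype.card K := Fintype.card_pos
    have h3 : p ∣ 1 := by
      have h5 := Nat.dvd_sub h2 h1
      rwa [Nat.sub_sub_self h4] at h5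
    exact hpf.out.one_lt.ne' (Nat.dvd_one.1 h3)
  have h3 : ∀ z : chevE6.SteinbergGroup K, StTheta.theta isType6.inList K z = 1 → z ^ 3 = 1 := by
    intro z hz
    have h1 : (⟨z, hz⟩ : (StTheta.theta isType6.inList K).ker) ^ Nat.card (StTheta.theta isType6.inList K).ker = 1 :=
      pow_card_eq_one'
    rw [hcd] at h1
    obtain ⟨e, he⟩ := Nat.gcd_dvd_left 3 (Fintype.card K - 1)
    have h2 : z ^ Nat.gcd 3 (Fintype.card K - 1) = 1 := by simpa only [_root_.pow_gcd_eq_one, _root_.SubmonoidClass.coe_pow, _root_.OneMemClass.coe_one] using congrArg Subtype.val h1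
    calc z ^ 3 = z ^ (Nat.gcd 3 (Fintype.card K - 1) * e) := by rw [← he]
      _ = 1 := by rw [pow_mul, h2, one_pow]
  have hs := StTheta.theta_surjective (K := K) isType6.inList
  -- the blocks
  obtain ⟨φ₀, hφ₀⟩ := exists_hom_St (K := K) (n := 0) (D := chevE6) (r := r6) (s := fun _ _ => 1) rt6.1 rt6.2.1 rt6.2.2.1
    (fun _ _ => rfl) (fun _ _ _ => rfl) rt6.2.2.2
  obtain ⟨φA, hφA⟩ := exists_hom_St (K := K) (n := 0) (D := chevE6) (r := rA) (s := fun _ _ => 1) rtA.1 rtA.2.1 rtA.2.2.1
    (fun _ _ => rfl) (fun _ _ _ => rfl) rtA.2.2.2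
  obtain ⟨φB, hφB⟩ := exists_hom_St (K := K) (n := 0) (D := chevE6) (r := rB) (s := sB) rtB'.1 rtB'.2.1 rtB'.2.2.1
    rtB'.2.2.2.1 rtB'.2.2.2.2.1 rtB'.2.2.2.2.2
  have q0 := emb_up_lo hφ₀ (by decide : (0 : Fin 3) ≠ 1) spl.1 (rt6.2.2.2 0 1 (by decide)) rfl rfl
  have q1 := emb_up_lo hφ₀ (by decide : (1 : Fin 3) ≠ 2) spl.2.1 (rt6.2.2.2 1 2 (by decide)) rfl rfl
  have q2 := emb_up_lo hφA (by decide : (0 : Fin 3) ≠ 1) spl.2.2.1 (rtA.2.2.2 0 1 (by decide)) rfl rfl
  have q3 := emb_up_lo hφA (by decide : (1 : Fin 3) ≠ 2) spl.2.2.2.1 (rtA.2.2.2 1 2 (by decide)) rfl rfl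
  have q4 := emb_up_lo hφB (by decide : (0 : Fin 3) ≠ 1) spl.2.2.2.2.1 (rtB'.2.2.2.2.2 0 1 (by decide)) rfl rfl
  have q5 := emb_up_lo hφB (by decide : (1 : Fin 3) ≠ 2) spl.2.2.2.2.2 (rtB'.2.2.2.2.2 1 2 (by decide)) rfl rfl
  have hex : ∀ i : Fin 6, ∃ f : Matrix.SpecialLinearGroup (Fin 2) K →* chevE6.SteinbergGroup K,
      (∀ c, f (up c) = chevE6.stGen K (chevE6.simple i) c) ∧
        ∀ c, f (lo c) = chevE6.stGen K (chevE6.neg (chevE6.simple i)) c := by
    intro i
    fin_cases i
    · exact ⟨φA.comp (Cfsg.Agent.OddHalf.NI.ClosedSL.emb (by decide : (1 : Fin 3) ≠ 2)), q3⟩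
    · exact ⟨φ₀.comp (Cfsg.Agent.OddHalf.NI.ClosedSL.emb (by decide : (1 : Fin 3) ≠ 2)), q1⟩
    · exact ⟨φA.comp (Cfsg.Agent.OddHalf.NI.ClosedSL.emb (by decide : (0 : Fin 3) ≠ 1)), q2⟩
    · exact ⟨φ₀.comp (Cfsg.Agent.OddHalf.NI.ClosedSL.emb (by decide : (0 : Fin 3) ≠ 1)), q0⟩
    · exact ⟨φB.comp (Cfsg.Agent.OddHalf.NI.ClosedSL.emb (by decide : (0 : Fin 3) ≠ 1)), q4⟩
    · exact ⟨φB.comp (Cfsg.Agent.OddHalf.NI.ClosedSL.emb (by decide : (1 : Fin 3) ≠ 2)), q5⟩
  choose s' hs1 hs2 using hex
  have cvt : ∀ {r : Fin 3 → Fin 3 → ℕ} {s : Fin 3 → Fin 3 → ℤ}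
      {φ : Matrix.SpecialLinearGroup (Fin 3) K →* chevE6.SteinbergGroup K}, RTa chevE6 r →
      (∀ a b (hab : a ≠ b) c, φ (Matrix.SpecialLinearGroup.transvection hab c) =
        chevE6.stGen K (r a b) ((s a b : K) * c)) →
      ∀ a b (hab : a ≠ b) c, (StTheta.theta isType6.inList K).comp φ (Matrix.SpecialLinearGroup.transvection hab c) =
        xc isType6 (vec chevE6 6 (r a b)) ((s a b : K) * c) := by
    intro r s φ ha hφ a b hab c
    rw [MonoidHom.comp_apply, hφ, theta_xc isType6 (ha a b hab)]
  intro g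
  by_cases hg : StTheta.theta isType6.inList K g = 1
  · -- the centre
    have hgc : g ∈ Subgroup.center (chevE6.SteinbergGroup K) := hk.le hg
    obtain ⟨w, hw, rfl⟩ := center_form hgc
    have hwK : (w : K) ^ 3 = 1 := by
      rw [← Units.val_pow_eq_pow_val, hw, Units.val_one]
    have hwK2 : ((w ^ 2 : Kˣ) : K) ^ 3 = 1 := by
      rw [Units.val_pow_eq_pow_val, ← pow_mul, mul_comm, pow_mul, hwK, one_pow]
    have a0 := sth_eq_dg (D := chevE6) (f := φA.comp (Cfsg.Agent.OddHalf.NI.ClosedSL.emb (by decide : (1 : Fin 3) ≠ 2)))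
      q3.1 q3.2 w
    have a2 := sth_eq_dg (D := chevE6) (f := φA.comp (Cfsg.Agent.OddHalf.NI.ClosedSL.emb (by decide : (0 : Fin 3) ≠ 1)))
      q2.1 q2.2 (w ^ 2)
    have a4 := sth_eq_dg (D := chevE6) (f := φB.comp (Cfsg.Agent.OddHalf.NI.ClosedSL.emb (by decide : (0 : Fin 3) ≠ 1)))
      q4.1 q4.2 w
    have a5 := sth_eq_dg (D := chevE6) (f := φB.comp (Cfsg.Agent.OddHalf.NI.ClosedSL.emb (by decide : (1 : Fin 3) ≠ 2)))
      q5.1 q5.2 (w ^ 2)
    have b1 : sth chevE6 (chevE6.simple 0) (w : K) * sth chevE6 (chevE6.simple 2) ((w ^ 2 : Kˣ) : K) =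
        φA (sc ((w ^ 2 : Kˣ) : K) hwK2) := by
      rw [a0, a2, MonoidHom.comp_apply, MonoidHom.comp_apply, ← map_mul, emb_sc_two w hw hwK2]
    have b2 : sth chevE6 (chevE6.simple 4) (w : K) * sth chevE6 (chevE6.simple 5) ((w ^ 2 : Kˣ) : K) =
        φB (sc (w : K) hwK) := by
      rw [a4, a5, MonoidHom.comp_apply, MonoidHom.comp_apply, ← map_mul, emb_sc_one w hw hwK]
    have hcom : ∀ x y, Commute (φA x) (φB y) := comm_phi2 (perf3 K) hk.le fun x y =>
      (comm_blocks isType6 rtA.1 rtB'.1 o4 (cvt rtA.1 hφA) (cvt rtB'.1 hφB) x y).eq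
    rw [b1, b2, sc_comm, sc_comm (w : K)]
    simp only [map_mul, map_inv]
    obtain ⟨a, ha⟩ : ∃ a, a = φA (da ((w ^ 2 : Kˣ) : K) hwK2) := ⟨_, rfl⟩
    obtain ⟨b, hb⟩ : ∃ b, b = φA (pb K) := ⟨_, rfl⟩
    obtain ⟨c, hc⟩ : ∃ c, c = φB (da (w : K) hwK) := ⟨_, rfl⟩
    obtain ⟨d, hd⟩ : ∃ d, d = φB (pb K) := ⟨_, rfl⟩
    have hac : Commute a c := by rw [ha, hc]; exact hcom _ _
    have had : Commute a d := by rw [ha, hd]; exact hcom _ _
    have hbc : Commute b c := by rw [hb, hc]; exact hcom _ _
    have hbd : Commute b d := by rw [hb, hd]; exact hcom _ _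
    rw [← ha, ← hb, ← hc, ← hd]
    refine ⟨a * c, b * d, ?_⟩
    have f1 : c * b = b * c := hbc.eq.symm
    have f2 : c * a⁻¹ = a⁻¹ * c := (hac.inv_left).eq.symm
    have f3 : d * a⁻¹ = a⁻¹ * d := (had.inv_left).eq.symm
    have f4 : (c * d * c⁻¹) * b⁻¹ = b⁻¹ * (c * d * c⁻¹) :=
      (((hbc.inv_left).mul_right (hbd.inv_left)).mul_right (hbc.inv_left).inv_right).eq.symm
    calc a * b * a⁻¹ * b⁻¹ * (c * d * c⁻¹ * d⁻¹) = a * b * a⁻¹ * (b⁻¹ * (c * d * c⁻¹)) * d⁻¹ := by group
      _ = a * b * a⁻¹ * ((c * d * c⁻¹) * b⁻¹) * d⁻¹ := by rw [f4]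
      _ = a * b * (a⁻¹ * c) * d * c⁻¹ * b⁻¹ * d⁻¹ := by group
      _ = a * b * c * (a⁻¹ * d) * c⁻¹ * b⁻¹ * d⁻¹ := by rw [← f2]; group
      _ = a * (b * c) * d * a⁻¹ * c⁻¹ * b⁻¹ * d⁻¹ := by rw [← f3]; group
      _ = a * c * b * d * (a⁻¹ * c⁻¹) * (b⁻¹ * d⁻¹) := by rw [← f1]; group
      _ = a * c * b * d * (c⁻¹ * a⁻¹) * (d⁻¹ * b⁻¹) := by
        rw [((hac.inv_left).inv_right).eq, ((hbd.inv_left).inv_right).eq]
      _ = _ := by group
  · exact row_cover isType6 Cfsg.Agent.H194.Ore.tab6 hs hk.le h3 (φ := φ₀) (cvt rt6.1 hφ₀) hK p hcop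
      (Cfsg.Agent.H65.UnivE.typE6.perfect K) (by norm_num) (Cfsg.Agent.S1054.result chevE6 (by simp))
      Cfsg.Agent.Nodes.ChevChart.irr6 Cfsg.Agent.H129.TorusChar.invC_E6 (by decide)
      (Cfsg.Agent.H194.Ore.m3_of_four hK) (s' := s') (fun i => comp_sl isType6 (hs1 i) (hs2 i)) hg

/-- **`RowA` for `E₆(q)`, `q ≥ 4`** (C3; it includes all `q ≡ 1 mod 3`). -/
theorem rowA_E6 {K : Type u} [Field K] [Finite K] (hK : 4 ≤ Nat.card K) : RowA ↥(chevE6.group K) := by
  have := Fintype.ofFinite K
  exact RowA.of_trivial (σ := StTheta.theta isType6.inList K)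
    ⟨StTheta.theta_surjective isType6.inList, (Cfsg.Agent.H65.MultE.ker_theta isType6.inList).le,
      Cfsg.Agent.H65.UnivE.typE6.perfect K⟩ (Cfsg.Agent.H65.MultE.multE6 K rfl).2 (allC_St6 hK)

end Cfsg.Agent.H92.QS
end

-- part: H344/QS/McLTree
section
/-!
# The elements of order three of the McLaughlin group and their lifts (helper344)

* `ok`, `lb` : lower bounds for the order of a group of permutations from the growth of an orbit;
* `not_fu_3A` : the elements of class `3A` are not fused in a central extension by a group of order three;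
* `fu_nine` : if `3B` is fused, then so is `9A`.
-/

set_option autoImplicit false
set_option maxRecDepth 100000

namespace Cfsg.Agent.H344.QS.McLTree

open Cfsg.Agent.McLType.Gens Cfsg.Agent.H904.McLCent Cfsg.Agent.H235.Ore.McLM Cfsg.Agent.H235.Ore.McL Subgroup Equiv
open Cfsg.Agent.H344.QS Cfsg.Agent.SporadicA.PermTab

universe u

/-! ### The engine -/

/-- the growth of an orbit: `(q, r, k)` : `q` is the image of `r` under the word `k` -/
def ok (G : List (List ℕ)) : List (ℕ × ℕ × ℕ) → List ℕ → Bool
  | [], _ => true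
  | (q, r, k) :: t, s => s.any (Nat.beq r) && (!(s.any (Nat.beq q)) &&
      (Nat.beq (act (G.getD k []) r) q && ok G t (q :: s)))

theorem base_le {M : Subgroup (Perm (Fin 275))} {p : Fin 275} {s : List ℕ} (hn : s.Nodup)
    (h : ∀ q ∈ s, ∃ g ∈ M, (g p : ℕ) = q) : s.length ≤ Nat.card (MulAction.orbit M p) := by
  classical
  rw [← List.toFinset_card_of_nodup hn]
  have h1 : s.toFinset ⊆ (Set.toFinset (MulAction.orbit M p)).image (fun i : Fin 275 => (i : ℕ)) := by
    intro q hq
    obtain ⟨g, hg, e⟩ := h q (List.mem_toFinset.1 hq)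
    rw [Finset.mem_image]
    exact ⟨g p, Set.mem_toFinset.2 ⟨⟨g, hg⟩, rfl⟩, e⟩
  refine (Finset.card_le_card h1).trans (Finset.card_image_le.trans ?_)
  rw [Nat.card_eq_card_toFinset]

theorem grow {M : Subgroup (Perm (Fin 275))} {G : List (List ℕ)} (hG : ∀ k, wd (G.getD k []) ∈ M) {p : Fin 275} :
    ∀ (t : List (ℕ × ℕ × ℕ)) (s : List ℕ), ok G t s = true → s.Nodup → (∀ q ∈ s, ∃ g ∈ M, (g p : ℕ) = q) →
      s.length + t.length ≤ Nat.card (MulAction.orbit M p)
  | [], s, _, hn, h => base_le hn h
  | (q, r, k) :: t, s, ht, hn, h => by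
    unfold ok at ht
    rw [Bool.and_eq_true, Bool.and_eq_true, Bool.and_eq_true] at ht
    obtain ⟨h1, h2, h3, h4⟩ := ht
    rw [List.any_eq_true] at h1
    obtain ⟨r', hr', e⟩ := h1
    have e := Nat.eq_of_beq_eq_true e
    subst e
    have hq : q ∉ s := by
      intro hq
      have : s.any (Nat.beq q) = true := List.any_eq_true.2 ⟨q, hq, Nat.beq_refl q⟩
      rw [this] at h2
      exact absurd h2 (by decide)
    have h5 := grow hG t (q :: s) h4 (List.nodup_cons.2 ⟨hq, hn⟩) (by
      intro q' hq'
      rcases List.mem_cons.1 hq' with rfl | hq'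
      · obtain ⟨g, hg, e⟩ := h r hr'
        refine ⟨wd (G.getD k []) * g, mul_mem (hG k) hg, ?_⟩
        rw [Perm.mul_apply, ← act_eq, e]
        exact Nat.eq_of_beq_eq_true h3
      · exact h q' hq')
    rw [List.length_cons] at h5 ⊢
    omega

/-- the fixed points of a letter -/
abbrev stab (p : ℕ) (hp : p < 275) : Subgroup (Perm (Fin 275)) :=
  MulAction.stabilizer (Perm (Fin 275)) (⟨p, hp⟩ : Fin 275)

theorem lb {M : Subgroup (Perm (Fin 275))} {G : List (List ℕ)} {t : List (ℕ × ℕ × ℕ)} {p : ℕ} (hp : p < 275)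
    (h : ok G t [p] = true) (hG : ∀ w ∈ G, wd w ∈ M) {m : ℕ} (hm : m ≤ Nat.card ↥(M ⊓ stab p hp)) :
    (1 + t.length) * m ≤ Nat.card M := by
  have hG' : ∀ k, wd (G.getD k []) ∈ M := by
    intro k
    by_cases hk : k < G.length
    · rw [List.getD_eq_getElem _ _ hk]
      exact hG _ (List.getElem_mem hk)
    · rw [List.getD_eq_default _ _ (not_lt.1 hk), wd_nil]
      exact one_mem _
  have h1 := grow hG' (p := ⟨p, hp⟩) t [p] h (List.nodup_singleton p) (by
    intro q hq
    rw [List.mem_singleton] at hq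
    subst hq
    exact ⟨1, one_mem _, rfl⟩)
  have h2 : Nat.card (MulAction.orbit M (⟨p, hp⟩ : Fin 275)) = (MulAction.stabilizer M (⟨p, hp⟩ : Fin 275)).index :=
    (MulAction.index_stabilizer M _).symm
  have h3 : Nat.card (MulAction.stabilizer M (⟨p, hp⟩ : Fin 275)) = Nat.card ↥(M ⊓ stab p hp) := by
    have e : MulAction.stabilizer M (⟨p, hp⟩ : Fin 275) = (M ⊓ stab p hp).subgroupOf M := by
      ext g
      rw [mem_subgroupOf, mem_inf, MulAction.mem_stabilizer_iff, MulAction.mem_stabilizer_iff]
      exact ⟨fun hg => ⟨g.2, hg⟩, fun hg => hg.2⟩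
    rw [e]
    exact Nat.card_congr (subgroupOfEquivOfLe inf_le_left).toEquiv
  rw [← Subgroup.card_mul_index (MulAction.stabilizer M (⟨p, hp⟩ : Fin 275)), h3, ← h2, mul_comm]
  exact Nat.mul_le_mul hm h1

theorem mem_stab {w : List ℕ} {p : ℕ} {hp : p < 275} (h : act w p = p) : wd w ∈ stab p hp := by
  rw [MulAction.mem_stabilizer_iff]
  apply Fin.ext
  show (wd w ⟨p, hp⟩ : ℕ) = p
  rw [← act_eq]
  exact h

/-! ### The data -/

def gA1 : List (List ℕ) := [[4, 1, 3, 5, 2, 5, 4, 0, 1], [1, 6, 5, 3, 6, 5, 0, 3, 6, 2]]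
def gA2 : List (List ℕ) := [[1, 0, 2, 1, 2, 1, 0], [1, 5, 4, 3, 4, 5, 1, 4], [6, 1, 0, 5, 3, 6, 3, 5, 0, 1, 6]]
def gA3 : List (List ℕ) := [[1, 0, 2, 1, 2, 1, 0]]
def gB1 : List (List ℕ) := [[5], [1, 0, 2, 5, 6, 1, 6, 3, 6, 2, 1], [0, 3]]
def gB2 : List (List ℕ) := [[5], [0, 5, 0], [1, 0, 2, 5, 6, 1, 6, 3, 6, 2, 1, 5, 2]]
def tA1 : List (ℕ × ℕ × ℕ) :=
  [(254, 233, 0), (177, 233, 1), (104, 254, 0), (28, 254, 1), (197, 177, 0), (218, 177, 1), (126, 104, 0),
   (209, 28, 0), (60, 28, 1), (78, 197, 0), (48, 197, 1), (203, 218, 0), (172, 218, 1), (267, 126, 0),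
   (174, 126, 1), (73, 209, 0), (71, 209, 1), (22, 60, 0), (52, 60, 1), (98, 78, 0), (8, 78, 1), (153, 48, 0),
   (93, 203, 0), (31, 203, 1), (165, 172, 0), (167, 267, 1), (7, 174, 0), (54, 174, 1), (5, 73, 0),
   (47, 73, 1), (68, 71, 0), (235, 71, 1), (23, 22, 0), (100, 22, 1), (206, 52, 0), (239, 98, 0), (187, 98, 1),
   (17, 8, 0), (220, 153, 0), (69, 153, 1), (51, 93, 0), (118, 93, 1), (64, 31, 0), (236, 31, 1), (2, 165, 1),
   (207, 167, 0), (164, 167, 1), (66, 7, 0), (75, 7, 1), (146, 54, 0), (246, 54, 1), (205, 5, 1), (230, 47, 0),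
   (243, 47, 1), (179, 68, 0), (149, 68, 1), (223, 235, 0), (221, 235, 1), (152, 23, 0), (253, 23, 1),
   (130, 100, 0), (204, 206, 0), (272, 206, 1), (163, 239, 0), (74, 239, 1), (1, 187, 0), (131, 187, 1),
   (185, 17, 1), (40, 220, 0), (21, 220, 1), (208, 69, 1), (159, 51, 0), (273, 51, 1), (112, 118, 0),
   (87, 118, 1), (61, 64, 0), (251, 64, 1), (4, 236, 1), (200, 2, 0), (175, 2, 1), (67, 164, 0), (191, 164, 1),
   (136, 66, 0), (72, 66, 1), (81, 75, 0), (121, 75, 1), (57, 146, 0), (171, 146, 1), (33, 246, 0),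
   (32, 205, 0), (38, 205, 1), (105, 230, 0), (113, 230, 1), (107, 243, 0), (15, 243, 1), (11, 179, 0),
   (90, 179, 1), (156, 149, 1), (129, 223, 0), (70, 152, 0), (170, 152, 1), (20, 253, 0), (265, 130, 1),
   (9, 204, 0), (213, 272, 0), (162, 272, 1), (193, 163, 0), (63, 163, 1), (201, 74, 0), (219, 74, 1),
   (139, 1, 0), (271, 131, 1), (84, 185, 0), (110, 185, 1), (268, 40, 0), (196, 21, 0), (186, 208, 0),
   (216, 208, 1), (141, 159, 0), (211, 159, 1), (106, 273, 0), (132, 273, 1), (55, 87, 0), (19, 87, 1),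
   (3, 61, 0), (195, 251, 1), (240, 4, 0), (158, 200, 0), (227, 200, 1), (96, 175, 0), (142, 67, 0),
   (176, 67, 1), (228, 191, 0), (26, 136, 0), (59, 72, 0), (244, 72, 1), (224, 57, 1), (168, 171, 0),
   (160, 171, 1), (229, 32, 0), (264, 38, 0), (181, 105, 0), (157, 105, 1), (147, 107, 1), (192, 15, 0),
   (29, 11, 0), (128, 11, 1), (140, 90, 1), (256, 156, 0), (145, 156, 1), (269, 129, 0), (263, 129, 1),
   (56, 70, 0), (155, 170, 0), (255, 170, 1), (188, 20, 1), (138, 9, 0), (225, 9, 1), (180, 213, 0),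
   (249, 162, 0), (202, 162, 1), (94, 193, 0), (58, 63, 1), (42, 201, 0), (36, 201, 1), (247, 219, 1),
   (65, 139, 0), (242, 139, 1), (88, 271, 0), (241, 84, 0), (210, 110, 0), (169, 110, 1), (39, 268, 0),
   (95, 196, 1), (10, 186, 0), (127, 186, 1), (266, 106, 0), (215, 106, 1), (214, 132, 0), (248, 132, 1),
   (122, 19, 0), (222, 3, 0), (245, 240, 1), (86, 158, 0), (14, 158, 1), (85, 96, 0), (97, 96, 1),
   (125, 142, 0), (82, 142, 1), (183, 176, 0), (62, 176, 1), (83, 228, 0), (108, 228, 1), (190, 26, 1),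
   (212, 59, 1), (173, 244, 0), (166, 244, 1), (137, 224, 0), (234, 224, 1), (79, 168, 1), (134, 160, 1),
   (12, 229, 0), (115, 229, 1), (91, 264, 1), (154, 181, 0), (250, 181, 1), (37, 157, 1), (46, 147, 0),
   (50, 192, 0), (45, 192, 1), (92, 128, 0), (99, 128, 1), (189, 145, 0), (89, 269, 1), (43, 56, 0),
   (30, 56, 1), (260, 255, 1), (16, 188, 1), (117, 138, 1), (77, 225, 0), (13, 225, 1), (120, 180, 0),
   (18, 249, 0), (25, 249, 1), (124, 94, 0), (182, 58, 0), (217, 36, 0), (148, 242, 0), (270, 88, 0),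
   (133, 88, 1), (135, 241, 0), (237, 241, 1), (76, 210, 0), (252, 210, 1), (261, 127, 0), (184, 266, 0),
   (231, 266, 1), (111, 215, 0), (35, 215, 1), (259, 122, 1), (199, 86, 0), (262, 14, 1), (80, 125, 1),
   (114, 183, 0), (53, 183, 1), (194, 83, 0), (232, 108, 0), (101, 190, 1), (257, 212, 0), (150, 212, 1),
   (109, 137, 1), (161, 234, 1), (226, 115, 1), (178, 50, 1), (24, 189, 0), (258, 260, 0), (143, 16, 1),
   (198, 13, 0), (116, 120, 1), (238, 148, 0), (144, 270, 1), (49, 133, 0), (123, 261, 0), (6, 261, 1),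
   (151, 231, 0), (27, 80, 0), (103, 114, 0), (41, 178, 0), (44, 238, 0)]
def tA2 : List (ℕ × ℕ × ℕ) :=
  [(6, 49, 1), (11, 49, 2), (269, 6, 0), (103, 6, 2), (94, 11, 0), (54, 11, 1), (226, 269, 2), (232, 103, 0),
   (78, 103, 1), (8, 94, 0), (24, 94, 2), (45, 54, 2), (23, 226, 0), (199, 226, 1), (132, 232, 0),
   (187, 232, 2), (97, 78, 2), (27, 24, 1), (198, 45, 0), (185, 23, 0), (110, 23, 2), (169, 199, 2),
   (174, 187, 1), (44, 97, 0), (85, 27, 2), (118, 110, 1)]
def tA3 : List (ℕ × ℕ × ℕ) :=
  [(203, 1, 0), (28, 203, 0), (140, 28, 0)]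
def tB1 : List (ℕ × ℕ × ℕ) :=
  [(159, 69, 1), (235, 69, 2), (160, 159, 1), (266, 159, 2), (222, 235, 2), (239, 160, 0), (271, 160, 1),
   (211, 160, 2), (187, 266, 2), (139, 239, 1), (247, 239, 2), (240, 271, 0), (259, 271, 1), (231, 271, 2),
   (217, 211, 2), (253, 139, 0), (194, 139, 1), (174, 139, 2), (199, 247, 2), (167, 240, 1), (230, 240, 2),
   (209, 259, 0), (273, 259, 1), (152, 259, 2), (252, 231, 2), (191, 253, 1), (146, 253, 2), (181, 194, 0),
   (229, 194, 1), (72, 194, 2), (219, 174, 2), (248, 167, 0), (269, 167, 1), (226, 167, 2), (245, 230, 2),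
   (169, 209, 2), (250, 273, 2), (153, 152, 2), (196, 191, 2), (134, 146, 2), (64, 181, 1), (185, 181, 2),
   (206, 229, 0), (202, 229, 1), (164, 229, 2), (208, 72, 2), (71, 248, 2), (216, 269, 1), (267, 269, 2),
   (272, 226, 2), (166, 169, 2), (195, 250, 2), (251, 196, 2), (192, 64, 2), (255, 185, 2), (214, 206, 1),
   (265, 206, 2), (221, 202, 0), (170, 202, 2), (66, 164, 2), (162, 71, 2), (270, 216, 2), (260, 267, 2),
   (237, 192, 2), (144, 214, 0), (171, 214, 1), (244, 214, 2), (227, 265, 2), (241, 221, 2), (138, 170, 2),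
   (198, 270, 2), (246, 144, 1), (200, 144, 2), (261, 171, 2), (264, 244, 2), (232, 241, 2), (210, 246, 2),
   (268, 200, 2), (242, 261, 2), (74, 210, 2)]
def tB2 : List (ℕ × ℕ × ℕ) :=
  [(106, 2, 0), (88, 2, 1), (48, 2, 2), (35, 106, 1), (10, 106, 2), (39, 88, 2), (18, 48, 0), (33, 48, 2),
   (12, 10, 2), (24, 39, 2), (44, 18, 2)]

private theorem _root_.Cfsg.Agent.KO3f3ebef.e0.{ku, kv} {α : Type kv} {M : List α → Sort ku} (φ : ∀ l, M l) {z : M List.nil} {s : ∀ a l, M l → M (List.cons a l)} (h0 : φ List.nil = z) (hs : ∀ a l, φ (List.cons a l) = s a l (φ l)) (l : List α) : φ l = @List.rec α M z s l := List.rec h0 (fun a l ih => (hs a l).trans (congrArg (s a l) ih)) l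
private noncomputable def _root_.Cfsg.Agent.KO3f3ebef.k32.{ku0} : type_of% @List.any.{ku0} := @(fun x0 x1 x2 => @List.rec.{(ku0+1), ku0} @x0 @(fun x3 => (@x0 → @Bool) → @Bool) @(fun x3 => @Bool.false) @(fun x3 x4 x5 x6 => @Bool.rec.{1} @(fun x7 => @Bool) (@x5 @x6) @Bool.true (@x6 @x3)) @x1 @x2)
private theorem _root_.Cfsg.Agent.KO3f3ebef.e32.{ku0} : @List.any.{ku0} = @_root_.Cfsg.Agent.KO3f3ebef.k32.{ku0} := by delta _root_.Cfsg.Agent.KO3f3ebef.k32; funext a0 a1 a2; refine (congrFun (_root_.Cfsg.Agent.KO3f3ebef.e0 (fun a1 a2 => @List.any.{ku0} a0 a1 a2) ?_ (fun c0 c1 => ?_) a1) a2 :) <;> (rfl')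
private noncomputable def _root_.Cfsg.Agent.KO3f3ebef.k66.{ku0, ku1} : type_of% @List.foldr.{ku0, ku1} := @(fun x0 x1 x2 x3 x4 => @List.rec.{(ku1+1), ku0} @x0 @(fun x5 => @x1) @x3 @(fun x5 x6 x7 => @x2 @x5 @x7) @x4)
private theorem _root_.Cfsg.Agent.KO3f3ebef.e66.{ku0, ku1} : @List.foldr.{ku0, ku1} = @_root_.Cfsg.Agent.KO3f3ebef.k66.{ku0, ku1} := by delta _root_.Cfsg.Agent.KO3f3ebef.k66; funext a0 a1 a2 a3 a4; refine (_root_.Cfsg.Agent.KO3f3ebef.e0 (fun a4 => @List.foldr.{ku0, ku1} a0 a1 a2 a3 a4) ?_ (fun c0 c1 => ?_) a4 :) <;> (rfl')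
private noncomputable def _root_.Cfsg.Agent.KO3f3ebef.k74 : (by first | exact type_of% @Cfsg.Agent.SporadicA.PermTab.lk | exact Unit : Sort _) := by first | (refine @Subtype.val _ (fun g => @Cfsg.Agent.SporadicA.PermTab.lk = @g) (@Subtype.mk _ _ (@(fun x0 x1 => @Nat.land (@Nat.shiftRight @x0 (@Nat.mul (nat_lit 11) @x1)) (nat_lit 2047))) ?_); rfl') | exact @Cfsg.Agent.SporadicA.PermTab.lk | exact ()
private theorem _root_.Cfsg.Agent.KO3f3ebef.e74 : (by first | exact @Cfsg.Agent.SporadicA.PermTab.lk = @_root_.Cfsg.Agent.KO3f3ebef.k74 | exact True : Prop) := by first | (delta _root_.Cfsg.Agent.KO3f3ebef.k74; exact @Subtype.property _ (fun g => @Cfsg.Agent.SporadicA.PermTab.lk = @g) _) | rfl | trivial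
private noncomputable def _root_.Cfsg.Agent.KO3f3ebef.k76.{ku0} : type_of% @List.get?Internal.{ku0} := @(fun x0 x1 x2 => @List.rec.{(ku0+1), ku0} @x0 @(fun x3 => ℕ → @Option.{ku0} @x0) @(fun x3 => @Option.none.{ku0} _) @(fun x3 x4 x5 x6 => @Nat.rec.{(ku0+1)} @(fun x7 => @Option.{ku0} @x0) (@Option.some.{ku0} _ @x3) @(fun x7 x8 => @x5 @x7) @x6) @x1 @x2)
private theorem _root_.Cfsg.Agent.KO3f3ebef.e76.{ku0} : @List.get?Internal.{ku0} = @_root_.Cfsg.Agent.KO3f3ebef.k76.{ku0} := by delta _root_.Cfsg.Agent.KO3f3ebef.k76; funext a0 a1 a2; refine (congrFun (_root_.Cfsg.Agent.KO3f3ebef.e0 (fun a1 a2 => @List.get?Internal.{ku0} a0 a1 a2) ?_ (fun c0 c1 => ?_) a1) a2 :) <;> [(funext b0; (rfl')); (funext b0; (cases b0 with | @zero  => (rfl') | @succ b0_0 => (rfl')))]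
private noncomputable def _root_.Cfsg.Agent.KO3f3ebef.k77 : (by first | exact type_of% @Cfsg.Agent.H344.QS.McLTree.ok | exact Unit : Sort _) := by first | (refine @Subtype.val _ (fun g => @Cfsg.Agent.H344.QS.McLTree.ok = @g) (@Subtype.mk _ _ (@(fun x0 x1 x2 => @List.rec.{1, 0} (ℕ × (ℕ × ℕ)) @(fun x3 => (@List.{0} ℕ) → @Bool) @(fun x3 => @Bool.true) @(fun x3 x4 x5 x6 => @Prod.rec.{1, 0, 0} ℕ (ℕ × ℕ) @(fun x7 => @Bool) @(fun x7 x8 => @Prod.rec.{1, 0, 0} ℕ ℕ @(fun x9 => @Bool) @(fun x9 x10 => @Bool.rec.{1} @(fun x11 => @Bool) @Bool.false (@Bool.rec.{1} @(fun x11 => @Bool) @Bool.false (@Bool.rec.{1} @(fun x11 => @Bool) @Bool.false (@x5 (@x7 :: @x6)) (@Nat.beq (@Cfsg.Agent.KO3f3ebef.k66.{0, 0} _ _ @(fun x11 x12 => @Cfsg.Agent.KO3f3ebef.k74 (@Option.rec.{1, 0} ℕ @(fun x13 => ℕ) (nat_lit 0) @(fun x13 => @x13) (@Cfsg.Agent.KO3f3ebef.k76.{0} _ @Cfsg.Agent.H904.McLCent.e7 (@Nat.mod @x11 (nat_lit 7)))) @x12) @x9 (@Option.rec.{1, 0} (@List.{0} ℕ) @(fun x11 => @List.{0} ℕ) [] @(fun x11 => @x11) (@Cfsg.Agent.KO3f3ebef.k76.{0}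 _ @x0 @x10))) @x7)) (@Bool.rec.{1} @(fun x11 => @Bool) @Bool.true @Bool.false (@Cfsg.Agent.KO3f3ebef.k32.{0} _ @x6 (@Nat.beq @x7)))) (@Cfsg.Agent.KO3f3ebef.k32.{0} _ @x6 (@Nat.beq @x9))) @x8) @x3) @x1 @x2)) ?_); rewrite [← Cfsg.Agent.KO3f3ebef.e32.{0}, ← Cfsg.Agent.KO3f3ebef.e76.{0}, ← Cfsg.Agent.KO3f3ebef.e74, ← Cfsg.Agent.KO3f3ebef.e66.{0, 0}]; funext a0 a1 a2; refine (congrFun (_root_.Cfsg.Agent.KO3f3ebef.e0 (fun a1 a2 => @Cfsg.Agent.H344.QS.McLTree.ok a0 a1 a2) ?_ (fun c0 c1 => ?_) a1) a2 :) <;> ((try delta Cfsg.Agent.H344.QS.McLTree.ok Cfsg.Agent.H344.QS.McLTree.ok._f Cfsg.Agent.H235.Ore.McLM.act Cfsg.Agent.H235.Ore.McLM.tb); (try generalize @Cfsg.Agent.SporadicA.PermTab.lk = g0); (try generalize @Cfsg.Agent.H904.McLCent.e7 = g1); rfl')) | exact @Cfsg.Agent.H344.QS.McLTree.ok | exact ()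
private theorem _root_.Cfsg.Agent.KO3f3ebef.e77 : (by first | exact @Cfsg.Agent.H344.QS.McLTree.ok = @_root_.Cfsg.Agent.KO3f3ebef.k77 | exact True : Prop) := by first | (delta _root_.Cfsg.Agent.KO3f3ebef.k77; exact @Subtype.property _ (fun g => @Cfsg.Agent.H344.QS.McLTree.ok = @g) _) | rfl | trivial

theorem okA1 : ok gA1 tA1 [233] = true := by (first | (rewrite [Cfsg.Agent.KO3f3ebef.e77]; decide +kernel) | decide +kernel)
theorem okA2 : ok gA2 tA2 [49] = true := by decide +kernel
theorem okA3 : ok gA3 tA3 [1] = true := by decide +kernel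
theorem okB1 : ok gB1 tB1 [69] = true := by decide +kernel
theorem okB2 : ok gB2 tB2 [2] = true := by decide +kernel

/-! ### Fusion -/

/-- the word of an element of order nine which commutes with the one of class `3B` -/
def x9 : List ℕ := [1, 0, 2, 5, 6, 1, 6, 3, 6, 2, 1]

theorem cent_le {X : List ℕ} {c : ℕ} (h : Nat.card ↥(centralizer ({w2 X} : Set ↥M2)) ≤ c) :
    Nat.card ↥(centralizer ({wk X} : Set ↥K0)) ≤ c := by
  have key : ∀ g : ↥(centralizer ({wk X} : Set ↥K0)),
      (⟨((g : ↥K0) : Perm (Fin 275)), K0_le_M2 g.1.2⟩ : ↥M2) ∈ centralizer ({w2 X} : Set ↥M2) := by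
    intro g
    have h1 : (g : ↥K0) * wk X = wk X * g := mem_centralizer_singleton_iff.1 g.2
    rw [mem_centralizer_singleton_iff]
    apply Subtype.ext
    exact congrArg (fun z : ↥K0 => (z : Perm (Fin 275))) h1
  refine le_trans (Nat.card_le_card_of_injective
    (fun g : ↥(centralizer ({wk X} : Set ↥K0)) =>
      (⟨⟨((g : ↥K0) : Perm (Fin 275)), K0_le_M2 g.1.2⟩, key g⟩ : ↥(centralizer ({w2 X} : Set ↥M2)))) ?_) h
  intro a b hab
  apply Subtype.ext
  apply Subtype.ext
  exact congrArg (fun z : ↥(centralizer ({w2 X} : Set ↥M2)) => ((z : ↥M2) : Perm (Fin 275))) hab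

section

variable {L : Type u} [Group L] {π : L →* ↥K0}

/-- the image of the centralizer as a group of permutations -/
def Mc (π : L →* ↥K0) (y : L) : Subgroup (Perm (Fin 275)) := (Nc π y).map K0.subtype

theorem card_Mc (y : L) : Nat.card (Mc π y) = Nat.card (Nc π y) :=
  (Nat.card_congr ((Nc π y).equivMapOfInjective K0.subtype K0.subtype_injective).toEquiv).symm

theorem mem_Mc {w : List ℕ} {y : L} (h : wk w ∈ Nc π y) : wd w ∈ Mc π y := ⟨wk w, h, rfl⟩

theorem comm_of {v w : List ℕ} (h : chkB (v ++ w) (w ++ v) = true) : wk v * wk w = wk w * wk v := by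
  have h1 := wk_eq h
  rwa [wk_append, wk_append] at h1

variable (hs : Function.Surjective π) (hc : π.ker ≤ center L) (h3 : Nat.card π.ker = 3)

include hs hc h3 in
theorem killed {X w : List ℕ} {y : L} (hy : π y = wk X) (h1 : chkB (w ++ X) (X ++ w) = true) {n : ℕ}
    (h2 : pOk w n = true) (h4 : Nat.Coprime n 3) : wk w ∈ Nc π y := by
  refine coprime_mem hs hc h3 ?_ (pow_of h2) h4
  rw [hy]
  exact comm_of h1

include hs hc h3 in
/-- **the class `3A` is not fused** -/
theorem not_fu_3A : ¬ Fu π (wk x3A) := by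
  rintro ⟨y, u, hy, h1, h2⟩
  have k1 : wk [4, 1, 3, 5, 2, 5, 4, 0, 1] ∈ Nc π y := killed hs hc h3 hy (by decide +kernel) (n := 10)
    (by decide +kernel) (by norm_num)
  have k2 : wk [1, 6, 5, 3, 6, 5, 0, 3, 6, 2] ∈ Nc π y := killed hs hc h3 hy (by decide +kernel) (n := 4)
    (by decide +kernel) (by norm_num)
  have k3 : wk [1, 0, 2, 1, 2, 1, 0] ∈ Nc π y := killed hs hc h3 hy (by decide +kernel) (n := 4)
    (by decide +kernel) (by norm_num)
  have k4 : wk [1, 5, 4, 3, 4, 5, 1, 4] ∈ Nc π y := killed hs hc h3 hy (by decide +kernel) (n := 4)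
    (by decide +kernel) (by norm_num)
  have k5 : wk [6, 1, 0, 5, 3, 6, 3, 5, 0, 1, 6] ∈ Nc π y := killed hs hc h3 hy (by decide +kernel) (n := 2)
    (by decide +kernel) (by norm_num)
  have s3 : wd [1, 0, 2, 1, 2, 1, 0] ∈ stab 233 (by norm_num) := mem_stab (by decide +kernel)
  have s4 : wd [1, 5, 4, 3, 4, 5, 1, 4] ∈ stab 233 (by norm_num) := mem_stab (by decide +kernel)
  have s5 : wd [6, 1, 0, 5, 3, 6, 3, 5, 0, 1, 6] ∈ stab 233 (by norm_num) := mem_stab (by decide +kernel)
  have s3' : wd [1, 0, 2, 1, 2, 1, 0] ∈ stab 49 (by norm_num) := mem_stab (by decide +kernel)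
  have c3 : 1 ≤ Nat.card ↥(Mc π y ⊓ stab 233 (by norm_num) ⊓ stab 49 (by norm_num) ⊓ stab 1 (by norm_num)) :=
    Nat.card_pos
  have c2 := lb (M := Mc π y ⊓ stab 233 (by norm_num) ⊓ stab 49 (by norm_num)) (by norm_num) okA3 (by
    intro w hw
    simp only [gA3, List.mem_cons, List.not_mem_nil, or_false] at hw
    subst hw
    exact ⟨⟨mem_Mc k3, s3⟩, s3'⟩) c3
  have c1 := lb (M := Mc π y ⊓ stab 233 (by norm_num)) (by norm_num) okA2 (by
    intro w hw
    simp only [gA2, List.mem_cons, List.not_mem_nil, or_false] at hw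
    rcases hw with rfl | rfl | rfl
    · exact ⟨mem_Mc k3, s3⟩
    · exact ⟨mem_Mc k4, s4⟩
    · exact ⟨mem_Mc k5, s5⟩) c2
  have c0 := lb (M := Mc π y) (by norm_num) okA1 (by
    intro w hw
    simp only [gA1, List.mem_cons, List.not_mem_nil, or_false] at hw
    rcases hw with rfl | rfl
    · exact mem_Mc k1
    · exact mem_Mc k2) c1
  rw [card_Mc] at c0
  have d1 : tA1.length = 269 := by decide +kernel
  have d2 : tA2.length = 26 := by decide +kernel
  have d3 : tA3.length = 3 := by decide +kernel
  rw [d1, d2, d3] at c0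
  have e1 := three_mul_le hs hc h3 (y := y) (s := u) (by rw [hy]; exact h1) h2
  rw [hy] at e1
  have e2 := cent_le b3A
  omega

include hs hc h3 in
/-- **if `3B` is fused then so is `9A`** -/
theorem fu_nine (h : Fu π (wk x3B)) : Fu π (wk x9) := by
  obtain ⟨y, u, hy, h1, h2⟩ := h
  by_contra hn
  have k9 : wk x9 ∈ Nc π y := mem_of_not_fu hs (by rw [hy]; exact comm_of (by decide +kernel)) hn
  have k0 : wk [0, 3] ∈ Nc π y := by
    have := self_mem (π := π) y
    rwa [hy] at this
  have k5 : wk [5] ∈ Nc π y := killed hs hc h3 hy (by decide +kernel) (n := 2)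
    (by decide +kernel) (by norm_num)
  have k2 : wk [2] ∈ Nc π y := killed hs hc h3 hy (by decide +kernel) (n := 2)
    (by decide +kernel) (by norm_num)
  have k6 : wk [0, 5, 0] ∈ Nc π y := killed hs hc h3 hy (by decide +kernel) (n := 2)
    (by decide +kernel) (by norm_num)
  have k7 : wk [1, 0, 2, 5, 6, 1, 6, 3, 6, 2, 1, 5, 2] ∈ Nc π y := by
    have e : ([1, 0, 2, 5, 6, 1, 6, 3, 6, 2, 1, 5, 2] : List ℕ) = x9 ++ ([5] ++ [2]) := rfl
    rw [e, wk_append, wk_append]
    exact mul_mem k9 (mul_mem k5 k2)
  have s5 : wd [5] ∈ stab 69 (by norm_num) := mem_stab (by decide +kernel)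
  have s6 : wd [0, 5, 0] ∈ stab 69 (by norm_num) := mem_stab (by decide +kernel)
  have s7 : wd [1, 0, 2, 5, 6, 1, 6, 3, 6, 2, 1, 5, 2] ∈ stab 69 (by norm_num) := mem_stab (by decide +kernel)
  have c2 : 1 ≤ Nat.card ↥(Mc π y ⊓ stab 69 (by norm_num) ⊓ stab 2 (by norm_num)) := Nat.card_pos
  have c1 := lb (M := Mc π y ⊓ stab 69 (by norm_num)) (by norm_num) okB2 (by
    intro w hw
    simp only [gB2, List.mem_cons, List.not_mem_nil, or_false] at hw
    rcases hw with rfl | rfl | rfl
    · exact ⟨mem_Mc k5, s5⟩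
    · exact ⟨mem_Mc k6, s6⟩
    · exact ⟨mem_Mc k7, s7⟩) c2
  have c0 := lb (M := Mc π y) (by norm_num) okB1 (by
    intro w hw
    simp only [gB1, List.mem_cons, List.not_mem_nil, or_false] at hw
    rcases hw with rfl | rfl | rfl
    · exact mem_Mc k5
    · exact mem_Mc k9
    · exact mem_Mc k0) c1
  rw [card_Mc] at c0
  have d1 : tB1.length = 80 := by decide +kernel
  have d2 : tB2.length = 11 := by decide +kernel
  rw [d1, d2] at c0
  have e1 := three_mul_le hs hc h3 (y := y) (s := u) (by rw [hy]; exact h1) h2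
  rw [hy] at e1
  have e2 := cent_le b3B
  omega

/-! ### The outer automorphism -/

theorem T_word {X Y : List ℕ} (h : (base.all fun b => Nat.beq (lk tT (act X (lk tT b))) (act Y b)) = true) :
    T * wd X * T = wd Y := by
  rw [List.all_eq_true] at h
  refine eq_of_base (mul_mem (mul_mem T_mem (K0_le (wd_mem _))) T_mem) (K0_le (wd_mem _)) fun b hb hlt => ?_
  have h1 := Nat.eq_of_beq_eq_true (h b hb)
  rw [Perm.mul_apply, Perm.mul_apply, T_spec, ← act_eq, ← act_eq, T_spec]
  exact h1

theorem cj_coe (m : ↥M2) (g : ↥K0) : ((cj m g : ↥K0) : Perm (Fin 275)) = (m : Perm (Fin 275)) * g * (m : Perm (Fin 275))⁻¹ :=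
  rfl

include hs in
/-- fusion is invariant under `M2` on a class which is -/
theorem fu_cj {X C : List ℕ} (h : T * wd X * T = wd (C ++ (X ++ C.reverse)) ∨
    T * wd X * T = wd (C ++ (X.reverse ++ C.reverse))) (m : ↥M2) : Fu π (cj m (wk X)) ↔ Fu π (wk X) := by
  -- the case of `T`
  have hT : ∀ k : ↥K0, Fu π (k * cj ⟨T, T_mem_M2⟩ (wk X) * k⁻¹) ↔ Fu π (wk X) := by
    intro k
    have aux : ∀ {a b : ↥K0}, Fu π (a * b * a⁻¹) ↔ Fu π b := by
      intro a b
      refine ⟨fun h => ?_, fun h => h.conj hs⟩
      have := h.conj hs (k := a⁻¹)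
      rwa [show a⁻¹ * (a * b * a⁻¹) * a⁻¹⁻¹ = b by group] at this
    rw [aux]
    rcases h with h | h
    · have e : cj ⟨T, T_mem_M2⟩ (wk X) = wk C * wk X * (wk C)⁻¹ := by
        apply Subtype.ext
        rw [cj_coe]
        show T * wd X * T⁻¹ = wd C * wd X * (wd C)⁻¹
        rw [T_inv, h, wd_append, wd_append, wd_reverse, mul_assoc]
      rw [e, aux]
    · have e : cj ⟨T, T_mem_M2⟩ (wk X) = wk C * (wk X)⁻¹ * (wk C)⁻¹ := by
        apply Subtype.ext
        rw [cj_coe]
        show T * wd X * T⁻¹ = wd C * (wd X)⁻¹ * (wd C)⁻¹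
        rw [T_inv, h, wd_append, wd_append, wd_reverse, wd_reverse, mul_assoc]
      rw [e, aux]
      exact ⟨Fu.of_inv, Fu.inv⟩
  rcases mem_M2.1 m.2 with hm | hm
  · have e : cj m (wk X) = (⟨(m : Perm (Fin 275)), hm⟩ : ↥K0) * wk X * (⟨(m : Perm (Fin 275)), hm⟩ : ↥K0)⁻¹ :=
      Subtype.ext rfl
    rw [e]
    refine ⟨fun h => ?_, fun h => h.conj hs⟩
    have := h.conj hs (k := (⟨(m : Perm (Fin 275)), hm⟩ : ↥K0)⁻¹)
    rwa [show (⟨(m : Perm (Fin 275)), hm⟩ : ↥K0)⁻¹ * ((⟨(m : Perm (Fin 275)), hm⟩ : ↥K0) * wk X *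
      (⟨(m : Perm (Fin 275)), hm⟩ : ↥K0)⁻¹) * (⟨(m : Perm (Fin 275)), hm⟩ : ↥K0)⁻¹⁻¹ = wk X by group] at this
  · rw [← hT ⟨(m : Perm (Fin 275)) * T, hm⟩]
    have e : cj m (wk X) = (⟨(m : Perm (Fin 275)) * T, hm⟩ : ↥K0) * cj ⟨T, T_mem_M2⟩ (wk X) *
        (⟨(m : Perm (Fin 275)) * T, hm⟩ : ↥K0)⁻¹ := by
      apply Subtype.ext
      show (m : Perm (Fin 275)) * wd X * (m : Perm (Fin 275))⁻¹ =
        (m : Perm (Fin 275)) * T * (T * wd X * T⁻¹) * ((m : Perm (Fin 275)) * T)⁻¹
      rw [mul_inv_rev, T_inv]
      calc (m : Perm (Fin 275)) * wd X * (m : Perm (Fin 275))⁻¹ =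
          (m : Perm (Fin 275)) * 1 * wd X * (1 * (m : Perm (Fin 275))⁻¹) := by rw [mul_one, one_mul]
        _ = (m : Perm (Fin 275)) * (T * T) * wd X * ((T * T) * (m : Perm (Fin 275))⁻¹) := by rw [T_sq]
        _ = _ := by group
    rw [e]

include hs in
theorem fu_3A (m : ↥M2) : Fu π (cj m (wk x3A)) ↔ Fu π (wk x3A) :=
  fu_cj hs (C := [6, 4, 0, 6, 3, 6, 5, 4, 6, 0]) (Or.inl (T_word (by decide +kernel))) m

include hs in
theorem fu_3B (m : ↥M2) : Fu π (cj m (wk x3B)) ↔ Fu π (wk x3B) :=
  fu_cj hs (C := [1, 6, 2, 3, 5, 6, 4, 3, 5, 6, 0]) (Or.inl (T_word (by decide +kernel))) m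

include hs in
theorem fu_9 (m : ↥M2) : Fu π (cj m (wk x9)) ↔ Fu π (wk x9) :=
  fu_cj hs (C := [1, 2, 0, 6, 3, 4, 6, 5, 4, 3, 2, 1, 6]) (Or.inr (T_word (by decide +kernel))) m

end

end Cfsg.Agent.H344.QS.McLTree
end

-- part: H344/QS/McLPair
section
/-!
# The threefold cover of the McLaughlin group: an element of order three which is fused (helper344)
-/

set_option autoImplicit false
set_option maxRecDepth 100000

namespace Cfsg.Agent.H344.QS.McLPair

open Subgroup Cfsg.Agent.TypeM.OutLyFin Cfsg.Agent.TypeM Cfsg.Agent.H51.Mult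
open Cfsg.Agent.Ly.Mat7
open scoped commutatorElement

theorem chk_cube : eqW (w2 ++ (w2 ++ w2)) [] = true := by decide +kernel

section

variable {P : Type*} [Group P] {x : Fin 5 → P} (D : Cfsg.Agent.Ly.Upper.Data x)

include D in
/-- `x` is a commutator in its centraliser -/
theorem exists_commutator' : ∃ g h : centralizer ({ev (Cfsg.Agent.Ly.WalkCtx.X4 x) Cfsg.Agent.Ly.McL.Data.xw} : Set P),
    ((⁅g, h⁆ : centralizer ({ev (Cfsg.Agent.Ly.WalkCtx.X4 x) Cfsg.Agent.Ly.McL.Data.xw} : Set P)) : P) =
      ev (Cfsg.Agent.Ly.WalkCtx.X4 x) Cfsg.Agent.Ly.McL.Data.xw ∧ g ^ 3 = 1 := by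
  have h1 := Cfsg.Agent.Ly.McL.Main.com_word D chk1
  have h2 := Cfsg.Agent.Ly.McL.Main.com_word D chk2
  have h3 := D.wp _ _ chk3
  have h4 := D.wp _ _ chk_cube
  rw [ev_append, ev_append, ev_append] at h3
  rw [ev_append, ev_append] at h4
  refine ⟨⟨_, mem_centralizer_singleton_iff.2 h2⟩, ⟨_, mem_centralizer_singleton_iff.2 h1⟩, ?_, ?_⟩
  · rw [commutatorElement_def, Subgroup.coe_mul, Subgroup.coe_mul, Subgroup.coe_mul, Subgroup.coe_inv, Subgroup.coe_inv]
    show ev _ w2 * ev _ w1 * (ev _ w2)⁻¹ * (ev _ w1)⁻¹ = _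
    rw [← h3]
    group
  · apply Subtype.ext
    rw [pow_succ, pow_succ, pow_one]
    exact (mul_assoc _ _ _).trans h4

end

theorem exists_three : ∃ (L : Type) (_ : Group L) (_ : Finite L) (π : L →* ↥Cfsg.Spor.McL),
    PCE π ∧ Nat.card π.ker = 3 ∧ ∃ x : ↥Cfsg.Spor.McL, Fu π x ∧ x ^ 3 = 1 := by
  have hfin : Finite Cfsg.Spor.Ly := Cfsg.Agent.Ly.Setup.finite_ly
  have hA0 : Nat.card Cfsg.Agent.Ly.McL.Cent.A0 ≤ 378000 :=
    Cfsg.Agent.Ly.McL.ClassX.card_centralizer_x_le Cfsg.Agent.Ly.T1.card_Hhat
  obtain ⟨h1, h2, h3, h4⟩ := Cfsg.Agent.Ly.McL.Main.main Cfsg.Agent.Ly.Index.data Cfsg.Agent.Ly.Pres.closure_gens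
    Cfsg.Agent.Ly.Setup.card_ly hA0
  have hx := Cfsg.Agent.Ly.McL.Main.order_x' Cfsg.Agent.Ly.Index.data Cfsg.Agent.Ly.Pres.closure_gens
    Cfsg.Agent.Ly.Setup.card_ly
  obtain ⟨L⟩ := FactsLy.exists_mt_ly
  obtain ⟨g, h, hgh, hg3⟩ := exists_commutator' Cfsg.Agent.Ly.Index.data
  obtain ⟨L', htx, h5, h6, L8, hL8⟩ := exists_out_data L hx h1 h2 h3 hgh
  obtain ⟨e⟩ := Cfsg.Agent.McLLyComp.FactsAutMT.iso_mcl L8
  refine ⟨_, inferInstance, inferInstance, e.toMonoidHom.comp (QuotientGroup.mk' (center _)),
    ⟨e.surjective.comp (QuotientGroup.mk'_surjective _), ?_, h6⟩, ?_, ?_⟩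
  · rw [ker_congr, QuotientGroup.ker_mk']
  · rw [ker_congr, QuotientGroup.ker_mk', h2]
  · have hne : h * g ≠ g * h := by
      intro e1
      have e2 : (⁅g, h⁆ : centralizer _) = 1 := by
        rw [commutatorElement_def, ← e1]
        group
      rw [e2] at hgh
      have e3 := orderOf_eq_one_iff.2 hgh.symm
      rw [hx] at e3
      norm_num at e3
    refine ⟨_, ⟨g, h, rfl, ?_, hne⟩, ?_⟩
    · -- the commutator is central
      have hz : (⁅g, h⁆ : centralizer _) ∈ center (centralizer _) := by
        rw [mem_center_iff]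
        intro w
        apply Subtype.ext
        rw [Subgroup.coe_mul, Subgroup.coe_mul, hgh]
        exact mem_centralizer_singleton_iff.1 w.2
      have hz1 : (e.toMonoidHom.comp (QuotientGroup.mk' (center _))) ⁅g, h⁆ = 1 := by
        show e (QuotientGroup.mk' (center _) ⁅g, h⁆) = 1
        have : QuotientGroup.mk' (center _) ⁅g, h⁆ = 1 := (QuotientGroup.eq_one_iff _).2 hz
        rw [this, map_one]
      rw [commutatorElement_def, map_mul, map_mul, map_mul, map_inv, map_inv] at hz1
      exact eq_of_mul_inv_eq_one (by rw [← hz1]; group)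
    · rw [← map_pow, hg3, map_one]

end Cfsg.Agent.H344.QS.McLPair
end

-- part: H344/QS/McL
section
/-!
# S2491, S2492: the row of the threefold cover of the McLaughlin group (helper344)

* `rowA_mcl` : every element of every finite perfect central extension of `McL` is a commutator.

In the threefold cover (the centralizer of an element of order three of the Lyons group) some element of order three of
`McL` has lifts which do not commute with the lift of some element of its centralizer. It is not of class `3A`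
(`McLTree.not_fu_3A`); so `3B` is fused, and then also `9A` (`McLTree.fu_nine`). Every element of `McL` is a commutator
`[x, k]` with `x` of class `3B` (or `9A` for the class `5A`).
-/

set_option autoImplicit false
set_option maxRecDepth 100000

namespace Cfsg.Agent.H344.QS.McL

open Cfsg.Agent.McLType.Gens Cfsg.Agent.H904.McLCent Cfsg.Agent.H235.Ore.McLM Cfsg.Agent.H235.Ore.McL Subgroup Equiv
open Cfsg.Agent.H344.QS Cfsg.Agent.H344.QS.McLTree Cfsg.Agent.H777.Ore Cfsg.Agent.H51.Mult Cfsg.Agent.H6.QO

universe u v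

section

variable {L : Type u} [Group L] {π : L →* ↥K0}

/-- a commutator with a fused first member -/
def Q (π : L →* ↥K0) (g : ↥K0) : Prop := ∃ x k : ↥K0, Fu π x ∧ g = x * k * x⁻¹ * k⁻¹

variable (hs : Function.Surjective π)

include hs in
theorem Q.inv {g : ↥K0} (h : Q π g) : Q π g⁻¹ := by
  obtain ⟨x, k, hx, rfl⟩ := h
  exact ⟨k * x * k⁻¹, k⁻¹, hx.conj hs, by group⟩

include hs in
theorem q_of {X₀ X C B : List ℕ} (hx : ∀ m, Fu π (cj m (wk X₀)))
    (h : chkB X (C ++ (X₀ ++ (C.reverse ++ (B ++ (C ++ (X₀.reverse ++ (C.reverse ++ B.reverse))))))) = true)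
    (m : ↥M2) : Q π (cj m (wk X)) := by
  refine ⟨cj m (wk C) * cj m (wk X₀) * (cj m (wk C))⁻¹, cj m (wk B), (hx m).conj hs, ?_⟩
  have h1 := wk_eq h
  simp only [wk_append, wk_reverse] at h1
  rw [h1]
  simp only [map_mul, map_inv]
  group

end

section

variable {L : Type u} [Group L] {π : L →* ↥K0} (hs : Function.Surjective π) (hc : π.ker ≤ center L)
  (h3 : Nat.card π.ker = 3) (h : Fu π (wk x3B))

include hs h in
theorem fu3 (m : ↥M2) : Fu π (cj m (wk x3B)) := (fu_3B hs m).2 h

include hs hc h3 h in
theorem fu9 (m : ↥M2) : Fu π (cj m (wk x9)) := (fu_9 hs m).2 (fu_nine hs hc h3 h)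

include hs h in
theorem w2A (m : ↥M2) : Q π (cj m (wk x2A)) :=
  q_of hs (X₀ := x3B) (C := [6]) (B := [6, 1, 6]) (fu3 hs h) (by decide +kernel) m

include hs h in
theorem w3A (m : ↥M2) : Q π (cj m (wk x3A)) :=
  q_of hs (X₀ := x3B) (C := []) (B := [1, 4, 2, 5, 0, 3, 1, 4, 2, 0, 1]) (fu3 hs h) (by decide +kernel) m

include hs h in
theorem w3B (m : ↥M2) : Q π (cj m (wk x3B)) :=
  q_of hs (X₀ := x3B) (C := [0]) (B := [0]) (fu3 hs h) (by decide +kernel) m

include hs h in
theorem w4A (m : ↥M2) : Q π (cj m (wk x4A)) :=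
  q_of hs (X₀ := x3B) (C := [1, 4]) (B := [4, 3, 1, 4, 0, 4, 1]) (fu3 hs h) (by decide +kernel) m

include hs hc h3 h in
theorem w5A (m : ↥M2) : Q π (cj m (wk x5A)) :=
  q_of hs (X₀ := x9) (C := [6, 0, 1]) (B := [3, 4, 5, 6, 4, 2, 5, 2, 6]) (fu9 hs hc h3 h) (by decide +kernel) m

include hs h in
theorem w5B (m : ↥M2) : Q π (cj m (wk x5B)) :=
  q_of hs (X₀ := x3B) (C := [4, 6, 1]) (B := [4, 3, 4, 0, 1, 6, 4]) (fu3 hs h) (by decide +kernel) m

include hs h in
theorem w6A (m : ↥M2) : Q π (cj m (wk x6A)) :=
  q_of hs (X₀ := x3B) (C := [1]) (B := [4, 5, 3, 1, 4, 2, 0, 1, 0, 1]) (fu3 hs h) (by decide +kernel) m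

include hs h in
theorem w6B (m : ↥M2) : Q π (cj m (wk x6B)) :=
  q_of hs (X₀ := x3B) (C := [4, 0, 1, 0]) (B := [0, 1, 4, 3, 2, 4]) (fu3 hs h) (by decide +kernel) m

include hs h in
theorem w7A (m : ↥M2) : Q π (cj m (wk x7A)) :=
  q_of hs (X₀ := x3B) (C := []) (B := [0, 3, 1, 4, 1, 0]) (fu3 hs h) (by decide +kernel) m

include hs h in
theorem w8A (m : ↥M2) : Q π (cj m (wk x8A)) :=
  q_of hs (X₀ := x3B) (C := [1, 4]) (B := [3, 0, 1, 4, 2, 0, 1, 0, 4, 1]) (fu3 hs h) (by decide +kernel) m

include hs h in
theorem w9A (m : ↥M2) : Q π (cj m (wk x9A)) :=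
  q_of hs (X₀ := x3B) (C := [3, 4, 6, 4, 1]) (B := [5, 4, 5, 3, 4, 0, 1, 0, 1, 4, 6, 4, 3]) (fu3 hs h) (by decide +kernel) m

include hs h in
theorem w10A (m : ↥M2) : Q π (cj m (wk x10A)) :=
  q_of hs (X₀ := x3B) (C := [5, 0, 1, 4, 1]) (B := [3, 4, 3, 1, 6, 0, 1, 4, 1, 0, 5]) (fu3 hs h) (by decide +kernel) m

include hs h in
theorem w11A (m : ↥M2) : Q π (cj m (wk x11A)) :=
  q_of hs (X₀ := x3B) (C := [0, 6, 3, 4, 6, 4]) (B := [4, 3, 4, 5, 4, 1, 4, 6, 4, 3, 6, 0]) (fu3 hs h) (by decide +kernel) m

include hs h in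
theorem w12A (m : ↥M2) : Q π (cj m (wk x12A)) :=
  q_of hs (X₀ := x3B) (C := [3, 4, 0, 6, 4]) (B := [6, 3, 4, 5, 6, 4, 5, 3, 1, 4, 0, 1, 0, 4, 6, 0, 4, 3]) (fu3 hs h) (by decide +kernel) m

include hs h in
theorem w14A (m : ↥M2) : Q π (cj m (wk x14A)) :=
  q_of hs (X₀ := x3B) (C := [0, 3, 6, 4]) (B := [5, 4, 6, 5, 4, 2, 5, 3, 4, 0, 1, 0, 4, 6, 3, 0]) (fu3 hs h) (by decide +kernel) m

include hs h in
theorem w15A (m : ↥M2) : Q π (cj m (wk x15A)) :=
  q_of hs (X₀ := x3B) (C := [0, 6, 4, 0]) (B := [3, 4, 5, 4, 1, 0, 1, 4, 6, 0]) (fu3 hs h) (by decide +kernel) m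

include hs h in
theorem w30A (m : ↥M2) : Q π (cj m (wk x30A)) :=
  q_of hs (X₀ := x3B) (C := [0, 3, 6, 4, 2, 0, 1]) (B := [1, 6, 5, 0, 3, 1, 4, 2, 0, 1, 0, 1, 0, 2, 4, 6, 3, 0]) (fu3 hs h) (by decide +kernel) m

include hs hc h3 h in
theorem all (g : ↥K0) : Q π g := by
  obtain ⟨p, hp, hpg⟩ := classes (g := ⟨g, K0_le_M2 g.2⟩) (by rw [K, mem_subgroupOf]; exact g.2)
  obtain ⟨c, hc'⟩ := isConj_iff.1 hpg
  have key : ∀ y : ↥K0, (y : Perm (Fin 275)) = p.1 → Q π (cj c y) → Q π g := by
    intro y hy hPy
    have e : cj c y = g := by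
      apply Subtype.ext
      rw [cj_coe, hy]
      exact congrArg Subtype.val hc'
    rwa [← e]
  simp only [Cfsg.Agent.H235.Ore.McL.L, List.mem_cons, List.not_mem_nil, or_false] at hp
  rcases hp with rfl | rfl | rfl | rfl | rfl | rfl | rfl | rfl | rfl | rfl | rfl | rfl | rfl | rfl | rfl | rfl | rfl | rfl | rfl
  · refine key 1 rfl ⟨_, 1, h, ?_⟩
    rw [map_one]
    group
  · exact key _ rfl (w11A hs h c)
  · refine key (wk x11A)⁻¹ rfl ?_
    rw [map_inv]
    exact (w11A hs h c).inv hs
  · exact key _ rfl (w2A hs h c)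
  · exact key _ rfl (w3A hs h c)
  · exact key _ rfl (w3B hs h c)
  · exact key _ rfl (w4A hs h c)
  · exact key _ (by exact rfl) (w5A hs hc h3 h c)
  · exact key _ rfl (w5B hs h c)
  · exact key _ rfl (w6A hs h c)
  · exact key _ rfl (w6B hs h c)
  · exact key _ rfl (w7A hs h c)
  · exact key _ rfl (w8A hs h c)
  · exact key _ rfl (w9A hs h c)
  · exact key _ rfl (w10A hs h c)
  · exact key _ rfl (w12A hs h c)
  · exact key _ rfl (w14A hs h c)
  · exact key _ rfl (w15A hs h c)
  · exact key _ rfl (w30A hs h c)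

include hs hc h3 h in
theorem allC_of : AllC L := by
  intro g
  obtain ⟨x, k, hx, e⟩ := all hs hc h3 h (π g)
  exact hx.isC hs hc h3 e

end

section

variable {L : Type u} [Group L] {π : L →* ↥K0} (hs : Function.Surjective π) (hc : π.ker ≤ center L)
  (h3 : Nat.card π.ker = 3)

include hc in
theorem fu_ne_one {x : ↥K0} (h : Fu π x) : x ≠ 1 := by
  rintro rfl
  obtain ⟨y, u, hy, -, hne⟩ := h
  exact hne (mem_center_iff.1 (hc hy) u)

include hs hc h3 in
/-- an element of order three which is fused is of class `3B` -/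
theorem fu_3B_of {x : ↥K0} (h : Fu π x) (hx : x ^ 3 = 1) : Fu π (wk x3B) := by
  obtain ⟨p, hp, hpg⟩ := classes (g := ⟨x, K0_le_M2 x.2⟩) (by rw [K, mem_subgroupOf]; exact x.2)
  obtain ⟨c, hc'⟩ := isConj_iff.1 hpg
  have ho : orderOf (p.1 : Perm (Fin 275)) = 3 := by
    have h1 : orderOf p.1 = orderOf (⟨x, K0_le_M2 x.2⟩ : ↥M2) := by
      rw [← hc']
      exact ((MulAut.conj c).orderOf_eq p.1).symm
    rw [← Subgroup.orderOf_coe] at h1
    rw [h1, ← Subgroup.orderOf_coe]
    show orderOf (x : Perm (Fin 275)) = 3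
    rw [Subgroup.orderOf_coe]
    exact orderOf_eq_prime hx (fu_ne_one hc h)
  have key : ∀ y : ↥K0, (y : Perm (Fin 275)) = p.1 → Fu π (cj c y) := by
    intro y hy
    have e : cj c y = x := by
      apply Subtype.ext
      rw [cj_coe, hy]
      exact congrArg Subtype.val hc'
    rwa [e]
  have no : ∀ {X : List ℕ} {o : ℕ}, orderOf (wd X) = o → p.1 = w2 X → o ≠ 3 → False := by
    intro X o h1 h2 h3'
    rw [h2] at ho
    exact h3' (h1.symm.trans ho)
  simp only [Cfsg.Agent.H235.Ore.McL.L, List.mem_cons, List.not_mem_nil, or_false] at hp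
  rcases hp with hp | hp | hp | hp | hp | hp | hp | hp | hp | hp | hp | hp | hp | hp | hp | hp | hp | hp | hp
  · exfalso
    rw [hp] at ho
    rw [show (((1 : ↥M2), Nat.card ↥M2).1 : Perm (Fin 275)) = 1 from rfl, orderOf_one] at ho
    norm_num at ho
  · exact (no o11A (congrArg Prod.fst hp) (by norm_num)).elim
  · exfalso
    rw [hp] at ho
    have e : orderOf (wd x11A)⁻¹ = 3 := ho
    rw [orderOf_inv, o11A] at e
    norm_num at e
  · exact (no o2A (congrArg Prod.fst hp) (by norm_num)).elim
  · exact (not_fu_3A hs hc h3 ((fu_3A hs c).1 (key (wk x3A) (by rw [hp]; rfl)))).elim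
  · exact (fu_3B hs c).1 (key (wk x3B) (by rw [hp]; rfl))
  · exact (no o4A (congrArg Prod.fst hp) (by norm_num)).elim
  · exact (no o5A ((congrArg Prod.fst hp :)) (by norm_num)).elim
  · exact (no o5B (congrArg Prod.fst hp) (by norm_num)).elim
  · exact (no o6A (congrArg Prod.fst hp) (by norm_num)).elim
  · exact (no o6B (congrArg Prod.fst hp) (by norm_num)).elim
  · exact (no o7A (congrArg Prod.fst hp) (by norm_num)).elim
  · exact (no o8A (congrArg Prod.fst hp) (by norm_num)).elim
  · exact (no o9A (congrArg Prod.fst hp) (by norm_num)).elim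
  · exact (no o10A (congrArg Prod.fst hp) (by norm_num)).elim
  · exact (no o12A (congrArg Prod.fst hp) (by norm_num)).elim
  · exact (no o14A (congrArg Prod.fst hp) (by norm_num)).elim
  · exact (no o15A (congrArg Prod.fst hp) (by norm_num)).elim
  · exact (no o30A (congrArg Prod.fst hp) (by norm_num)).elim

end

theorem Fu.map {L : Type u} {K K' : Type v} [Group L] [Group K] [Group K'] {π : L →* K} (e : K ≃* K') {x : K}
    (h : Fu π x) : Fu (e.toMonoidHom.comp π) (e x) := by
  obtain ⟨y, u, rfl, h1, h2⟩ := h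
  refine ⟨y, u, rfl, ?_, h2⟩
  show e (π y) * e (π u) = e (π u) * e (π y)
  rw [← map_mul, h1, map_mul]

/-- **all elements of `3.McL` are commutators** -/
theorem exists_cover : ∃ (L : Type) (_ : Group L) (_ : Finite L) (π : L →* ↥Cfsg.Spor.McL),
    PCE π ∧ Nat.card π.ker = 3 ∧ AllC L := by
  obtain ⟨L, iG, iF, π, hπ, hk, x, hx, hx3⟩ := McLPair.exists_three
  obtain ⟨e⟩ := exists_iso (S := ↥Cfsg.Spor.McL) ⟨MulEquiv.refl _⟩
  refine ⟨L, iG, iF, π, hπ, hk, ?_⟩
  have hker : (e.symm.toMonoidHom.comp π).ker = π.ker := by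
    ext y
    rw [MonoidHom.mem_ker, MonoidHom.mem_ker]
    exact e.symm.map_eq_one_iff
  have hs : Function.Surjective (e.symm.toMonoidHom.comp π) := e.symm.surjective.comp hπ.surj
  have hc : (e.symm.toMonoidHom.comp π).ker ≤ center L := by rw [hker]; exact hπ.cen
  have h3 : Nat.card (e.symm.toMonoidHom.comp π).ker = 3 := by rw [hker]; exact hk
  exact allC_of hs hc h3 (fu_3B_of hs hc h3 (Fu.map e.symm hx) (by rw [← map_pow, hx3, map_one]))

/-- **The row of `3.McL`** -/
theorem rowA_mcl {S : Type u} [Group S] (h : Cfsg.Spor.IsoMcL S) : RowA S := by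
  obtain ⟨e⟩ := h
  obtain ⟨L, _, _, π, hπ, hk, hL⟩ := exists_cover
  refine RowA.congr (K := ↥Cfsg.Spor.McL) ?_ e.symm
  refine RowA.of_univ S2047.result hπ ?_ hL
  rw [hk, Nat.card_congr Multiplicative.toAdd, Nat.card_zmod]

end Cfsg.Agent.H344.QS.McL
end

private theorem dce_116aeaed9229 : _root_.True := by
  try have : _root_.True := by simp only [_root_.Cfsg.Agent.H926.QS.O73Wit.wd.eq_1]
  try have : _root_.True := by simp only [_root_.Cfsg.Agent.H926.QS.O73Wit.tab.eq_1]
  try have : _root_.True := by simp only [_root_.Cfsg.Agent.H344.QS.McLTree.gA2.eq_1]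
  try have : _root_.True := by simp only [_root_.Cfsg.Agent.H344.QS.McLTree.gA1.eq_1]
  try have : _root_.True := by simp only [_root_.Cfsg.Agent.H344.QS.McLTree.gB1.eq_1]
  try have : _root_.True := by simp only [_root_.Cfsg.Agent.H92.QS.da.congr_simp]
  try have : _root_.True := by simp only [_root_.Cfsg.Agent.H344.QS.McLTree.gB2.eq_1]
  try have : _root_.True := by simp only [_root_.Cfsg.Agent.H344.QS.McLTree.gA3.eq_1]
  try have : _root_.True := by simp only [_root_.Cfsg.Agent.H926.QS.Cover6.ω.eq_1]
  try have : _root_.True := by simp only [_root_.Cfsg.Agent.H344.QS.McLTree.ok.eq_def]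
  exact _root_.True.intro
end

-- part: H264/QS/CoSieveFin
section
set_option linter.all false
open scoped Cfsg.Agent.FastGrp

-- part: H495/QCo/Tab
section
/-!
# Tables for the odd characters of `2^12` (helper495, for S2491 / S2492, group `2.Co1`)

The numbers of code words of each weight with an even and an odd number of points in a set of one and three points.
-/

set_option autoImplicit false

namespace Cfsg.Agent.H495.QCo.Tab

open Cfsg Cfsg.Agent.SporadicA.GolayCount Cfsg.Agent.H847.Co1Tab

theorem tab1 : tab [0] = [(1, 0), (506, 253), (1288, 1288), (253, 506), (0, 1)] := tabOne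
theorem tab3 : tab [0, 1, 2] = [(1, 0), (378, 381), (1288, 1288), (381, 378), (0, 1)] := tabThree

end Cfsg.Agent.H495.QCo.Tab
end

-- part: H495/QCo/Wt
section
/-!
# Odd representations of `Co0`: the weights of `2^12` (helper495, for S2491 / S2492, group `2.Co1`)

For a representation `R` of `Co0` with `R (-1) = -1` the multiplicities `a`, `b` of the weights belonging to a point and
to a triad satisfy `24 a + 2024 b =` degree, `4096 a = 2 d + 506 v`, `4096 b = 2 d - 6 v` (`v` = trace of an octad
sign change).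
-/

set_option autoImplicit false

namespace Cfsg.Agent.H495.QCo.Wt

open Module Cfsg Cfsg.Agent.H847.Avg
open Cfsg.Agent.SporadicA.GolayCount Cfsg.Agent.H847.Co1Tab Cfsg.Agent.H847.Co1Small
open Cfsg.Agent.SporadicA.Co0Mono
open Cfsg.Agent.SporadicA.Co1Simple (allOne signCo0_add_self)
open Cfsg.Agent.CoOneType.SignFacts (wt sup wt_cases wt_add_allOne sup_mem mem_sup notMem_sup)
open Cfsg.Agent.CoOneType.InvMain (exists_perm_octad exists_perm_dodecad word_ext wordPerm_allOne wordPerm_add)

variable {W : Type*} [AddCommGroup W] [Module ℂ W]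

/-- the representation of the code -/
noncomputable def rc (R : Co0 →* (W →ₗ[ℂ] W)) : Multiplicative golayCode →* (W →ₗ[ℂ] W) where
  toFun c := R (signCo0 (Multiplicative.toAdd c))
  map_one' := by
    show R (signCo0 0) = 1
    rw [signCo0_zero, map_one]
  map_mul' a b := by
    show R (signCo0 (Multiplicative.toAdd a + Multiplicative.toAdd b)) = _
    rw [signCo0_add, map_mul]

theorem rc_apply (R : Co0 →* (W →ₗ[ℂ] W)) (c : Multiplicative golayCode) :
    rc R c = R (signCo0 (Multiplicative.toAdd c)) := rfl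

/-- the trace as a function of the weight -/
noncomputable def tt0 (u v : ℂ) (n : ℕ) : ℂ :=
  if n = 0 then u else if n = 8 then v else if n = 12 then 0 else if n = 16 then -v else -u

theorem trace_conj (R : Co0 →* (W →ₗ[ℂ] W)) (g x : Co0) :
    LinearMap.trace ℂ W (R (g * x * g⁻¹)) = LinearMap.trace ℂ W (R x) := by
  rw [map_mul R (g * x) g⁻¹, LinearMap.trace_mul_comm, ← map_mul, ← mul_assoc, inv_mul_cancel, one_mul]

theorem trace_wordPerm (R : Co0 →* (W →ₗ[ℂ] W)) (g : M24) (c : golayCode) :
    LinearMap.trace ℂ W (R (signCo0 (wordPerm g c))) = LinearMap.trace ℂ W (R (signCo0 c)) := by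
  rw [← perm_mul_sign_mul_inv, trace_conj]

/-- the representation is odd -/
def Odd' (R : Co0 →* (W →ₗ[ℂ] W)) : Prop := R (signCo0 allOne) = -1

theorem Odd'.add {R : Co0 →* (W →ₗ[ℂ] W)} (h : Odd' R) (c : golayCode) :
    R (signCo0 (c + allOne)) = -R (signCo0 c) := by
  rw [signCo0_add, map_mul, show R (signCo0 allOne) = -1 from h, mul_neg, mul_one]

theorem mem_octads {c : golayCode} (h : wt c = 8) : support₂ (c : GolayPt → ZMod 2) ∈ octads := ⟨sup_mem c, h⟩

theorem mem_dodecads {c : golayCode} (h : wt c = 12) : support₂ (c : GolayPt → ZMod 2) ∈ dodecads := ⟨sup_mem c, h⟩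

theorem eq_zero_of_wt {c : golayCode} (h : wt c = 0) : c = 0 := by
  apply word_ext
  have h1 : sup c = ∅ := Finset.card_eq_zero.1 h
  show sup c = _
  rw [h1]
  symm
  rw [Finset.eq_empty_iff_forall_notMem]
  intro p hp
  have hp' : p ∈ sup (0 : golayCode) := hp
  rw [mem_sup] at hp'
  exact absurd hp' (by
    show (0 : ZMod 2) ≠ 1
    decide)

theorem trace_eq0 [FiniteDimensional ℂ W] {R : Co0 →* (W →ₗ[ℂ] W)} (hodd : Odd' R) {o : golayCode} (ho : wt o = 8)
    (c : golayCode) : LinearMap.trace ℂ W (R (signCo0 c)) =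
      tt0 (finrank ℂ W) (LinearMap.trace ℂ W (R (signCo0 o))) (wt c) := by
  unfold tt0
  rcases wt_cases c with h | h | h | h | h
  · rw [if_pos h, eq_zero_of_wt h, signCo0_zero, map_one, LinearMap.trace_one]
  · rw [if_neg (by omega), if_pos h]
    obtain ⟨g, hg⟩ := exists_perm_octad (mem_octads ho) (mem_octads h)
    rw [← hg, trace_wordPerm]
  · rw [if_neg (by omega), if_neg (by omega), if_pos h]
    have h1 := wt_add_allOne c
    obtain ⟨g, hg⟩ := exists_perm_dodecad (mem_dodecads h) (mem_dodecads (c := c + allOne) (by omega))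
    have h2 := trace_wordPerm R g c
    rw [hg, hodd.add, map_neg] at h2
    have h3 : (2 : ℂ) * LinearMap.trace ℂ W (R (signCo0 c)) = 0 := by linear_combination -h2
    exact (mul_eq_zero.1 h3).resolve_left (by norm_num)
  · rw [if_neg (by omega), if_neg (by omega), if_neg (by omega), if_pos h]
    have h1 := wt_add_allOne c
    obtain ⟨g, hg⟩ := exists_perm_octad (mem_octads ho) (mem_octads (c := c + allOne) (by omega))
    have h2 := trace_wordPerm R g o
    rw [hg, hodd.add, map_neg] at h2
    linear_combination -h2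
  · rw [if_neg (by omega), if_neg (by omega), if_neg (by omega), if_neg (by omega)]
    have h1 := wt_add_allOne c
    have h2 : c + allOne = 0 := eq_zero_of_wt (by omega)
    have h3 := hodd.add c
    rw [h2, signCo0_zero, map_one] at h3
    have h4 : R (signCo0 c) = -1 := by rw [← neg_eq_iff_eq_neg, ← h3]
    rw [h4, map_neg, LinearMap.trace_one]

/-- the multiplicity of a character -/
theorem mult0 [FiniteDimensional ℂ W] {R : Co0 →* (W →ₗ[ℂ] W)} (hodd : Odd' R) {o : golayCode} (ho : wt o = 8)
    (S : Finset GolayPt) (bits : List ℕ)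
    (hS : ∀ m, sg (∑ p ∈ S, word m p) = if ev bits m then (1 : ℂ) else -1) :
    (4096 : ℂ) * (finrank ℂ (eig (rc R) (chi S)) : ℂ) =
      ∑ n ∈ ({0, 8, 12, 16, 24} : Finset ℕ),
        (((L.countP fun m => popc m == n && ev bits m : ℕ) : ℂ) - ((L.countP fun m => popc m == n && !ev bits m : ℕ) : ℂ)) *
        tt0 (finrank ℂ W) (LinearMap.trace ℂ W (R (signCo0 o))) n := by
  classical
  let _ : Fintype golayCode := Fintype.ofFinite _
  let _ : Fintype (Multiplicative golayCode) := inferInstanceAs (Fintype golayCode)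
  have hcard : (Fintype.card (Multiplicative golayCode) : ℂ) = 4096 := by
    have h1 := sum_code (fun _ => (1 : ℂ))
    have h2 : L.length = 4096 := by decide +kernel
    rw [Finset.sum_const, Finset.card_univ, nsmul_eq_mul, mul_one, List.map_const', List.sum_replicate, nsmul_eq_mul,
      mul_one, h2] at h1
    rw [Fintype.card_congr Multiplicative.toAdd, h1]
    norm_num
  have h1 := trace_avg (rc R) (lin_chi S)
  rw [trace_avg_eq_sum, hcard] at h1
  rw [← h1, ← mul_assoc, mul_inv_cancel₀ (by norm_num), one_mul]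
  rw [← list_sum L _ popc (ev bits) _ popc_mem]
  have h2 := sum_code (fun w => sg (∑ p ∈ S, w p) *
    tt0 (finrank ℂ W) (LinearMap.trace ℂ W (R (signCo0 o))) (support₂ w).card)
  have h3 : (L.map fun m => sg (∑ p ∈ S, word m p) *
      tt0 (finrank ℂ W) (LinearMap.trace ℂ W (R (signCo0 o))) (support₂ (word m)).card) =
      (L.map fun m => (if ev bits m then (1 : ℂ) else -1) *
      tt0 (finrank ℂ W) (LinearMap.trace ℂ W (R (signCo0 o))) (popc m)) := by
    refine List.map_congr_left fun m _ => ?_
    rw [hS, ← card_pts]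
    rfl
  rw [h3] at h2
  rw [← h2]
  refine Fintype.sum_equiv Multiplicative.toAdd _ _ fun c => ?_
  rw [rc_apply, trace_eq0 hodd ho]
  rfl

theorem key1 : ∀ x : Bool, ((if x then (1 : ZMod 2) else 0) = 0) ↔ ([x].countP (fun b => b) % 2 == 0) = true := by decide

theorem key3 : ∀ x y u : Bool, ((if x then (1 : ZMod 2) else 0) + ((if y then (1 : ZMod 2) else 0) +
    (if u then (1 : ZMod 2) else 0)) = 0) ↔ ([x, y, u].countP (fun b => b) % 2 == 0) = true := by decide

theorem hS1 (m : ℕ) : sg (∑ p ∈ ({some 0} : Finset GolayPt), word m p) = if ev [0] m then (1 : ℂ) else -1 := by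
  rw [Finset.sum_singleton]
  have h0 : pos (some 0) = 0 := by decide
  unfold word sg
  rw [h0, ev_eq]
  exact if_congr (key1 _) rfl rfl

theorem hS3 (m : ℕ) : sg (∑ p ∈ ({some 0, some 1, some 2} : Finset GolayPt), word m p) =
    if ev [0, 1, 2] m then (1 : ℂ) else -1 := by
  rw [Finset.sum_insert (by decide), Finset.sum_insert (by decide), Finset.sum_singleton]
  have h0 : pos (some 0) = 0 := by decide
  have h1 : pos (some 1) = 1 := by decide
  have h2 : pos (some 2) = 2 := by decide
  unfold word sg
  rw [h0, h1, h2, ev_eq]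
  exact if_congr (key3 _ _ _) rfl rfl

theorem tab_sum0 (bits : List ℕ) (p0 q0 p1 q1 p2 q2 p3 q3 p4 q4 : ℕ)
    (h : tab bits = [(p0, q0), (p1, q1), (p2, q2), (p3, q3), (p4, q4)]) (u v : ℂ) :
    (∑ n ∈ ({0, 8, 12, 16, 24} : Finset ℕ),
        (((L.countP fun m => popc m == n && ev bits m : ℕ) : ℂ) - ((L.countP fun m => popc m == n && !ev bits m : ℕ) : ℂ)) *
        tt0 u v n) = ((p0 : ℂ) - q0) * u + ((p1 : ℂ) - q1) * v + ((p3 : ℂ) - q3) * (-v) + ((p4 : ℂ) - q4) * (-u) := by
  unfold tab at h
  simp only [List.map_cons, List.map_nil, List.cons.injEq, Prod.mk.injEq, and_true] at h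
  obtain ⟨⟨a0, b0⟩, ⟨a1, b1⟩, ⟨a2, b2⟩, ⟨a3, b3⟩, a4, b4⟩ := h
  rw [Finset.sum_insert (by decide), Finset.sum_insert (by decide), Finset.sum_insert (by decide),
    Finset.sum_insert (by decide), Finset.sum_singleton, a0, b0, a1, b1, a2, b2, a3, b3, a4, b4]
  have t0 : tt0 u v 0 = u := if_pos rfl
  have t1 : tt0 u v 8 = v := by unfold tt0; rw [if_neg (by omega), if_pos rfl]
  have t2 : tt0 u v 12 = 0 := by unfold tt0; rw [if_neg (by omega), if_neg (by omega), if_pos rfl]
  have t3 : tt0 u v 16 = -v := by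
    unfold tt0; rw [if_neg (by omega), if_neg (by omega), if_neg (by omega), if_pos rfl]
  have t4 : tt0 u v 24 = -u := by
    unfold tt0; rw [if_neg (by omega), if_neg (by omega), if_neg (by omega), if_neg (by omega)]
  rw [t0, t1, t2, t3, t4]
  ring

/-- the multiplicity of the weight of a point -/
noncomputable def mA (R : Co0 →* (W →ₗ[ℂ] W)) : ℕ := finrank ℂ (eig (rc R) (chi {some 0}))

/-- the multiplicity of the weight of a triad -/
noncomputable def mB (R : Co0 →* (W →ₗ[ℂ] W)) : ℕ := finrank ℂ (eig (rc R) (chi {some 0, some 1, some 2}))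

theorem mA_eq [FiniteDimensional ℂ W] {R : Co0 →* (W →ₗ[ℂ] W)} (hodd : Odd' R) {o : golayCode} (ho : wt o = 8) :
    (4096 : ℂ) * mA R = 2 * finrank ℂ W + 506 * LinearMap.trace ℂ W (R (signCo0 o)) := by
  have e := mult0 hodd ho {some 0} [0] hS1
  rw [tab_sum0 _ _ _ _ _ _ _ _ _ _ _ Tab.tab1] at e
  unfold mA
  push_cast at e
  linear_combination e

theorem mB_eq [FiniteDimensional ℂ W] {R : Co0 →* (W →ₗ[ℂ] W)} (hodd : Odd' R) {o : golayCode} (ho : wt o = 8) :
    (4096 : ℂ) * mB R = 2 * finrank ℂ W - 6 * LinearMap.trace ℂ W (R (signCo0 o)) := by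
  have e := mult0 hodd ho {some 0, some 1, some 2} [0, 1, 2] hS3
  rw [tab_sum0 _ _ _ _ _ _ _ _ _ _ _ Tab.tab3] at e
  unfold mB
  push_cast at e
  linear_combination e

/-- `24 a + 2024 b = degree` -/
theorem mult_sum0 [FiniteDimensional ℂ W] {R : Co0 →* (W →ₗ[ℂ] W)} (hodd : Odd' R) :
    24 * mA R + 2024 * mB R = finrank ℂ W := by
  obtain ⟨o, ho⟩ := exists_octad
  have e1 := mA_eq hodd ho
  have e3 := mB_eq hodd ho
  have h : ((24 * mA R + 2024 * mB R : ℕ) : ℂ) = (finrank ℂ W : ℂ) := by
    push_cast
    linear_combination (24 / 4096 : ℂ) * e1 + (2024 / 4096 : ℂ) * e3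
  exact_mod_cast h

end Cfsg.Agent.H495.QCo.Wt
end

-- part: H495/QCo/Proj
section
/-!
# Odd representations of `Co0`: the projections onto the point weights (helper495)
-/

set_option autoImplicit false

namespace Cfsg.Agent.H495.QCo.Proj

open Module Cfsg Cfsg.Agent.H847.Avg
open Cfsg.Agent.H847.Co1Small Cfsg.Agent.H495.QCo.Wt
open Cfsg.Agent.SporadicA.Co0Mono
open Cfsg.Agent.SporadicA.Co1Simple (allOne signCo0_add_self)

variable {W : Type*} [AddCommGroup W] [Module ℂ W]

noncomputable instance fin_code : Fintype (Multiplicative golayCode) :=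
  have : Fintype golayCode := Fintype.ofFinite _
  inferInstanceAs (Fintype golayCode)

/-- the character of a point -/
theorem chi_single (p : GolayPt) (c : Multiplicative golayCode) :
    chi {p} c = sg (((Multiplicative.toAdd c : golayCode) : GolayPt → ZMod 2) p) := by
  unfold chi
  rw [Finset.sum_singleton]

/-- the projection onto the weight space of the point `p` -/
noncomputable def P (R : Co0 →* (W →ₗ[ℂ] W)) (p : GolayPt) : W →ₗ[ℂ] W := avg (rc R) (chi {p})

theorem sign_mul_P (R : Co0 →* (W →ₗ[ℂ] W)) (c : golayCode) (p : GolayPt) :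
    R (signCo0 c) * P R p = sg ((c : GolayPt → ZMod 2) p) • P R p := by
  have h := mul_avg (rc R) (lin_chi {p}) (Multiplicative.ofAdd c)
  rw [chi_single] at h
  exact h

theorem P_mul_sign (R : Co0 →* (W →ₗ[ℂ] W)) (c : golayCode) (p : GolayPt) :
    P R p * R (signCo0 c) = sg ((c : GolayPt → ZMod 2) p) • P R p := by
  have h := avg_mul (rc R) (lin_chi {p}) (Multiplicative.ofAdd c)
  rw [chi_single] at h
  exact h

theorem P_mul_self (R : Co0 →* (W →ₗ[ℂ] W)) (p : GolayPt) : P R p * P R p = P R p := by
  ext x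
  exact avg_eq (rc R) (lin_chi {p}) fun b => apply_avg (rc R) (lin_chi {p}) b x

theorem P_mul_P (R : Co0 →* (W →ₗ[ℂ] W)) {p q : GolayPt} {c : golayCode}
    (h : (c : GolayPt → ZMod 2) p ≠ (c : GolayPt → ZMod 2) q) : P R p * P R q = 0 := by
  have h1 : P R p * R (signCo0 c) * P R q = P R p * (R (signCo0 c) * P R q) := mul_assoc _ _ _
  rw [P_mul_sign, sign_mul_P, smul_mul_assoc, mul_smul_comm] at h1
  have h2 : (sg ((c : GolayPt → ZMod 2) p) - sg ((c : GolayPt → ZMod 2) q)) • (P R p * P R q) = 0 := by
    rw [sub_smul, h1, sub_self]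
  refine (smul_eq_zero.1 h2).resolve_left ?_
  rcases zcases ((c : GolayPt → ZMod 2) p) with hp | hp <;> rcases zcases ((c : GolayPt → ZMod 2) q) with hq | hq
  · exact absurd (hp.trans hq.symm) h
  · rw [hp, hq, sg_zero, sg_one]; norm_num
  · rw [hp, hq, sg_zero, sg_one]; norm_num
  · exact absurd (hp.trans hq.symm) h

theorem perm_mul_P (R : Co0 →* (W →ₗ[ℂ] W)) (σ : M24) (p : GolayPt) :
    R (permCo0 σ) * P R p = P R ((σ : Equiv.Perm GolayPt) p) * R (permCo0 σ) := by
  unfold P avg
  rw [mul_smul_comm, smul_mul_assoc]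
  congr 1
  rw [Finset.mul_sum, Finset.sum_mul]
  let e : Multiplicative golayCode ≃ Multiplicative golayCode :=
    { toFun := fun c => Multiplicative.ofAdd (wordPerm σ (Multiplicative.toAdd c))
      invFun := fun c => Multiplicative.ofAdd (wordPerm σ⁻¹ (Multiplicative.toAdd c))
      left_inv := fun c => by
        show Multiplicative.ofAdd (wordPerm σ⁻¹ (wordPerm σ (Multiplicative.toAdd c))) = c
        rw [← Cfsg.Agent.SporadicA.Co1Simple.wordPerm_mul, inv_mul_cancel]
        rfl
      right_inv := fun c => by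
        show Multiplicative.ofAdd (wordPerm σ (wordPerm σ⁻¹ (Multiplicative.toAdd c))) = c
        rw [← Cfsg.Agent.SporadicA.Co1Simple.wordPerm_mul, mul_inv_cancel]
        rfl }
  refine Fintype.sum_equiv e _ _ fun c => ?_
  rw [mul_smul_comm, smul_mul_assoc, rc_apply, rc_apply, ← map_mul, ← map_mul, perm_mul_sign, chi_single, chi_single]
  have h1 : (((Multiplicative.toAdd (e c) : golayCode) : GolayPt → ZMod 2) ((σ : Equiv.Perm GolayPt) p)) =
      ((Multiplicative.toAdd c : golayCode) : GolayPt → ZMod 2) p := by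
    show (wordPerm σ (Multiplicative.toAdd c) : GolayPt → ZMod 2) ((σ : Equiv.Perm GolayPt) p) = _
    rw [wordPerm_apply, Equiv.symm_apply_apply]
  rw [h1]
  rfl

theorem exists_M24 (p q : GolayPt) : ∃ σ : M24, (σ : Equiv.Perm GolayPt) p = q := by
  have hb : Function.Injective (![some 0, some 1, some 2, some 3, some 4] : Fin 5 → GolayPt) := by decide
  have key : ∀ p : GolayPt, ∃ a : Fin 5 → GolayPt, Function.Injective a ∧ a 0 = p := fun p =>
    ⟨Equiv.swap (some 0) p ∘ ![some 0, some 1, some 2, some 3, some 4], (Equiv.injective _).comp hb,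
      Equiv.swap_apply_left _ _⟩
  obtain ⟨a, ha, ha0⟩ := key p
  obtain ⟨b, hb, hb0⟩ := key q
  obtain ⟨g, hg, h⟩ := Cfsg.Agent.SporadicA.M24Frames.five_transitive a b ha hb
  exact ⟨⟨g, hg⟩, by rw [← ha0, ← hb0]; exact h 0⟩

theorem trace_P_eq (R : Co0 →* (W →ₗ[ℂ] W)) (p q : GolayPt) :
    LinearMap.trace ℂ W (P R p) = LinearMap.trace ℂ W (P R q) := by
  obtain ⟨σ, hσ⟩ := exists_M24 p q
  have h1 : P R q = R (permCo0 σ) * P R p * R (permCo0 σ)⁻¹ := by
    rw [perm_mul_P, hσ, mul_assoc, ← map_mul, mul_inv_cancel, map_one, mul_one]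
  rw [h1, LinearMap.trace_mul_comm, ← mul_assoc, ← map_mul, inv_mul_cancel, map_one, one_mul]

theorem trace_P [FiniteDimensional ℂ W] (R : Co0 →* (W →ₗ[ℂ] W)) (p : GolayPt) :
    LinearMap.trace ℂ W (P R p) = mA R := by
  rw [trace_P_eq R p (some 0)]
  exact trace_avg (rc R) (lin_chi {some 0})

end Cfsg.Agent.H495.QCo.Proj
end

-- part: H495/QCo/KSub
section
/-!
# The intersection of the monomial group of `Co0` with its conjugate under a sextet map (helper495)
-/

set_option autoImplicit false

namespace Cfsg.Agent.H495.QCo.KSub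

open Cfsg
open Cfsg.Agent.SporadicA.Co0Mono hiding smul_add smul_sub smul_neg smul_zero
open Cfsg.Agent.SporadicA.Co1Simple
open Cfsg.Agent.SporadicA.Xi
open Cfsg.Agent.SporadicA.GolayBase (isCode word word_apply idx)
open Cfsg.Agent.SporadicStructure.Co0Base (e8 e8_coe)
open Cfsg.Agent.CoOneType.SignFacts
open Cfsg.Agent.CoOneType.InvClasses (xi_e8)
open Cfsg.Agent.CoOneType.GenCrit (isCoatom_N)
open Cfsg.Agent.KFacts.Co1.Maxi (mem_N_of_map)
open Cfsg.Agent.H848.TrioK (T isSextet_T)

/-- the sextet map -/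
def xi : Co0 := xiCo0 T isSextet_T

theorem xi_smul_smul (v : leechLattice) : xi • (xi • v) = v :=
  Subtype.ext (xiFun_xiFun isSextet_T v.2)

theorem xi_mul_self : xi * xi = 1 := by
  apply ext
  intro v
  rw [mul_smul, xi_smul_smul, one_smul]

theorem xi_inv : xi⁻¹ = xi := inv_eq_of_mul_eq_one_left xi_mul_self

theorem exists_T (k : Fin 6) : ∃ p, T p = k := by
  have h : (fib T k).Nonempty := by
    rw [← Finset.card_pos, isSextet_T.card]
    norm_num
  obtain ⟨p, hp⟩ := h
  exact ⟨p, mem_fib.1 hp⟩

theorem xi_coe (i j : GolayPt) : ((xi • e8 j : leechLattice) : GolayPt → ℤ) i =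
    (if T i = 0 then -1 else 1) * ((if T i = T j then 4 else 0) - (if i = j then 8 else 0)) := xi_e8 isSextet_T i j

theorem xi_notMem_N : xi ∉ N := by
  intro h
  obtain ⟨c, σ, hc⟩ := exists_sign_perm h
  obtain ⟨p, hp⟩ := exists_T 1
  have h1 : (xi • e8 p : leechLattice) = signCo0 c • e8 ((σ : Equiv.Perm GolayPt) p) := by
    rw [hc, mul_smul, perm_smul_e8]
  have h2 : ((xi • e8 p : leechLattice) : GolayPt → ℤ) p = -4 := by
    rw [xi_coe, hp, if_neg (by decide), if_pos rfl, if_pos rfl]
    norm_num
  rw [h1, signCo0_smul, signMap_apply, e8_coe] at h2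
  rcases Cfsg.Agent.SporadicStructure.LeechBase.zmod2_cases ((c : GolayPt → ZMod 2) p) with h3 | h3
  · rw [h3, sgn_zero, one_mul, Pi.single_apply] at h2
    split_ifs at h2
  · rw [h3, sgn_one, Pi.single_apply] at h2
    split_ifs at h2 <;> norm_num at h2

/-- the conjugate of the monomial group -/
def N' : Subgroup Co0 := N.comap (MulAut.conj xi).toMonoidHom

theorem mem_N' {g : Co0} : g ∈ N' ↔ xi * g * xi⁻¹ ∈ N := Iff.rfl

theorem sup_eq_top : N ⊔ N' = ⊤ := by
  by_contra h
  have h1 : N ⊔ N' = N := by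
    rcases isCoatom_N.le_iff.1 (le_sup_left : N ≤ N ⊔ N') with h2 | h2
    · exact absurd h2 h
    · exact h2
  have h2 : N' ≤ N := by rw [← h1]; exact le_sup_right
  apply xi_notMem_N
  apply mem_N_of_conj
  apply h2
  rw [mem_N']
  have h3 : xi * (xi⁻¹ * x23 * xi) * xi⁻¹ = x23 := by group
  rw [h3]
  exact x23_mem_N

/-- the intersection -/
def K : Subgroup Co0 := N ⊓ N'

/-- sign changes in `K` -/
theorem sign_mem_K {c : golayCode} (k : Fin 6) (h : ∀ p, T p = k → (c : GolayPt → ZMod 2) p = 0) : signCo0 c ∈ K := by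
  refine Subgroup.mem_inf.2 ⟨sign_mem_N c, ?_⟩
  obtain ⟨p, hp⟩ := exists_T k
  rw [mem_N', xi_inv]
  refine mem_N_of_map (i := p) (j := p) (Or.inl ?_)
  rw [mul_smul, mul_smul, (sign_fixed_iff c _).2, xi_smul_smul]
  intro i hi
  rw [mem_sup] at hi
  rw [xi_coe]
  have h1 : T i ≠ T p := fun h2 => by
    rw [h i (h2.trans hp)] at hi
    exact absurd hi (by decide)
  have h3 : ¬ i = p := fun h2 => h1 (by rw [h2])
  rw [if_neg h1, if_neg h3, sub_zero, mul_zero]

/-- permutations in `K` -/
theorem perm_mem_K {σ : M24} (k l : Fin 6) (h : ∀ p, T p = k → T ((σ : Equiv.Perm GolayPt) p) = l) : permCo0 σ ∈ K := by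
  classical
  refine Subgroup.mem_inf.2 ⟨perm_mem_N σ, ?_⟩
  obtain ⟨p, hp⟩ := exists_T k
  rw [mem_N', xi_inv]
  -- the tetrad `k` is mapped onto the tetrad `l`
  have hT : ∀ i, T i = l → T ((σ : Equiv.Perm GolayPt).symm i) = k := by
    have h1 : (fib T k).map (σ : Equiv.Perm GolayPt).toEmbedding = fib T l := by
      apply Finset.eq_of_subset_of_card_le
      · intro x hx
        rw [Finset.mem_map] at hx
        obtain ⟨y, hy, rfl⟩ := hx
        exact mem_fib.2 (h y (mem_fib.1 hy))
      · rw [Finset.card_map, isSextet_T.card, isSextet_T.card]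
    intro i hi
    have h2 : i ∈ (fib T k).map (σ : Equiv.Perm GolayPt).toEmbedding := by
      rw [h1]; exact mem_fib.2 hi
    rw [Finset.mem_map] at h2
    obtain ⟨y, hy, hyi⟩ := h2
    have h3 : (σ : Equiv.Perm GolayPt).symm i = y := by
      rw [Equiv.symm_apply_eq]; exact hyi.symm
    rw [h3]
    exact mem_fib.1 hy
  have hT' : ∀ i, T ((σ : Equiv.Perm GolayPt).symm i) = k ↔ T i = l := by
    intro i
    refine ⟨fun h1 => ?_, hT i⟩
    have h2 := h _ h1
    rwa [Equiv.apply_symm_apply] at h2
  have key : ∃ s : ℤ, (s = 1 ∨ s = -1) ∧ ∀ i, ((permCo0 σ • (xi • e8 p) : leechLattice) : GolayPt → ℤ) i =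
      s * ((xi • e8 ((σ : Equiv.Perm GolayPt) p) : leechLattice) : GolayPt → ℤ) i := by
    refine ⟨(if k = 0 then -1 else 1) * (if l = 0 then -1 else 1), ?_, fun i => ?_⟩
    · split_ifs <;> simp
    · rw [permCo0_smul, permMap_apply, xi_coe, xi_coe, hp, h p hp]
      by_cases hi : T i = l
      · rw [(hT' i).2 hi, hi, if_pos rfl, if_pos rfl]
        have e1 : ((σ : Equiv.Perm GolayPt).symm i = p) ↔ (i = (σ : Equiv.Perm GolayPt) p) := by
          rw [Equiv.symm_apply_eq]
        rw [if_congr e1 rfl rfl]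
        by_cases hk : k = 0 <;> by_cases hl : l = 0 <;> simp only [hk, hl, if_true, if_false] <;> ring
      · have e1 : ¬ T ((σ : Equiv.Perm GolayPt).symm i) = k := fun h1 => hi ((hT' i).1 h1)
        have e2 : ¬ (σ : Equiv.Perm GolayPt).symm i = p := fun h1 => e1 (by rw [h1, hp])
        have e3 : ¬ i = (σ : Equiv.Perm GolayPt) p := fun h1 => hi (by rw [h1, h p hp])
        rw [if_neg e1, if_neg e2, if_neg hi, if_neg e3]
        simp
  obtain ⟨s, hs, hi⟩ := key
  refine mem_N_of_map (i := p) (j := (σ : Equiv.Perm GolayPt) p) ?_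
  rw [mul_smul, mul_smul]
  rcases hs with rfl | rfl
  · left
    have h1 : permCo0 σ • (xi • e8 p) = xi • e8 ((σ : Equiv.Perm GolayPt) p) := by
      apply Subtype.ext
      funext i
      rw [hi i, one_mul]
    rw [h1, xi_smul_smul]
  · right
    have h1 : permCo0 σ • (xi • e8 p) = -(xi • e8 ((σ : Equiv.Perm GolayPt) p)) := by
      apply Subtype.ext
      funext i
      rw [hi i]
      show _ = -((xi • e8 ((σ : Equiv.Perm GolayPt) p) : leechLattice) : GolayPt → ℤ) i
      ring
    rw [h1, Cfsg.Agent.SporadicA.Co0Mono.smul_neg, xi_smul_smul]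

/-! ### separation of the points and transitivity -/

/-- the words -/
def ms : List ℕ := [9347075, 16056344, 4800613, 2019456, 4231958, 6292775]

theorem ms_code : ∀ m ∈ ms, isCode m = true := by decide +kernel

theorem ms_tet : ∀ m ∈ ms, ∃ k : Fin 6, ∀ p : GolayPt, T p = k → m.testBit (idx p) = false := by decide +kernel

theorem ms_sep : ∀ p q : GolayPt, p ≠ q → ∃ m ∈ ms, m.testBit (idx p) ≠ m.testBit (idx q) := by decide +kernel

theorem exists_sep {p q : GolayPt} (h : p ≠ q) :
    ∃ c : golayCode, signCo0 c ∈ K ∧ (c : GolayPt → ZMod 2) p ≠ (c : GolayPt → ZMod 2) q := by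
  obtain ⟨m, hm, hpq⟩ := ms_sep p q h
  obtain ⟨k, hk⟩ := ms_tet m hm
  have hc := Cfsg.Agent.CoOneType.MonoWord.cw m (ms_code m hm)
  refine ⟨Cfsg.Agent.CoOneType.MonoWord.cw m (ms_code m hm), sign_mem_K k fun p hp => ?_, ?_⟩
  · show word m p = 0
    rw [word_apply, hk p hp]
    rfl
  · show word m p ≠ word m q
    rw [word_apply, word_apply]
    cases h1 : m.testBit (idx p) <;> cases h2 : m.testBit (idx q)
    · rw [h1, h2] at hpq; exact absurd rfl hpq
    · simp only [_root_.Bool.false_eq_true, ↓ _root_.reduceIte, _root_.ne_eq, _root_.zero_ne_one, _root_.not_false_eq_true]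
    · simp only [↓ _root_.reduceIte, _root_.Bool.false_eq_true, _root_.ne_eq, _root_.one_ne_zero, _root_.not_false_eq_true]
    · rw [h1, h2] at hpq; exact absurd rfl hpq

/-- an injective quintuple starting with the tetrad of `p` -/
theorem exists_quint (p : GolayPt) : ∃ a : Fin 5 → GolayPt, Function.Injective a ∧ a 0 = p ∧
    (∀ x, T x = T p ↔ ∃ i : Fin 5, i ≠ 4 ∧ a i = x) := by
  classical
  have h1 : ((fib T (T p)).erase p).card = 3 := by
    rw [Finset.card_erase_of_mem (mem_fib.2 rfl), isSextet_T.card]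
  obtain ⟨x, y, z, hxy, hxz, hyz, he⟩ := Finset.card_eq_three.1 h1
  have hmem : ∀ w, w ∈ ({x, y, z} : Finset GolayPt) ↔ w ≠ p ∧ T w = T p := by
    intro w
    rw [← he, Finset.mem_erase, mem_fib]
  have hx := (hmem x).1 (by simp)
  have hy := (hmem y).1 (by simp)
  have hz := (hmem z).1 (by simp)
  obtain ⟨r, hr⟩ : ∃ r, T r ≠ T p := by
    obtain ⟨r0, h0⟩ := exists_T 0
    obtain ⟨r1, h1⟩ := exists_T 1
    by_cases h : T p = 0
    · exact ⟨r1, by rw [h1, h]; decide⟩
    · exact ⟨r0, by rw [h0]; exact fun h' => h h'.symm⟩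
  refine ⟨![p, x, y, z, r], ?_, rfl, fun w => ⟨fun hw => ?_, ?_⟩⟩
  · have n1 := hx.1
    have n2 := hy.1
    have n3 := hz.1
    have m0 : r ≠ p := fun h => hr (by rw [h])
    have m1 : r ≠ x := fun h => hr (by rw [h, hx.2])
    have m2 : r ≠ y := fun h => hr (by rw [h, hy.2])
    have m3 : r ≠ z := fun h => hr (by rw [h, hz.2])
    intro i j hij
    fin_cases i <;> fin_cases j <;> simp_all only [_root_.Finset.mem_insert, _root_.Finset.mem_singleton, _root_.or_self, _root_.not_false_eq_true, _root_.Finset.card_insert_of_notMem, _root_.Finset.card_singleton, _root_.Nat.reduceAdd, _root_.ne_eq, _root_.true_and, _root_.Fin.zero_eta, _root_.Fin.isValue, _root_.Matrix.cons_val_zero, _root_.Fin.mk_one, _root_.Matrix.cons_val_one, _root_.zero_ne_one, _root_.not_true_eq_false, _root_.Fin.reduceFinMk, _root_.Matrix.cons_val, _root_.Fin.reduceEq]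
  · by_cases hwp : w = p
    · exact ⟨0, by decide, hwp.symm⟩
    · have h2 := (hmem w).2 ⟨hwp, hw⟩
      simp only [Finset.mem_insert, Finset.mem_singleton] at h2
      rcases h2 with h2 | h2 | h2
      · exact ⟨1, by decide, h2.symm⟩
      · exact ⟨2, by decide, h2.symm⟩
      · exact ⟨3, by decide, h2.symm⟩
  · rintro ⟨i, hi, rfl⟩
    fin_cases i
    · rfl
    · exact hx.2
    · exact hy.2
    · exact hz.2
    · exact absurd rfl hi

theorem exists_perm (p q : GolayPt) : ∃ σ : M24, permCo0 σ ∈ K ∧ (σ : Equiv.Perm GolayPt) p = q := by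
  obtain ⟨a, ha, ha0, haT⟩ := exists_quint p
  obtain ⟨b, hb, hb0, hbT⟩ := exists_quint q
  obtain ⟨g, hg, h⟩ := Cfsg.Agent.SporadicA.M24Frames.five_transitive a b ha hb
  refine ⟨⟨g, hg⟩, perm_mem_K (T p) (T q) fun x hx => ?_, ?_⟩
  · obtain ⟨i, hi, rfl⟩ := (haT x).1 hx
    exact (hbT _).2 ⟨i, hi, (h i).symm⟩
  · rw [← ha0, ← hb0]; exact h 0

end Cfsg.Agent.H495.QCo.KSub
end

-- part: H495/QCo/Nat24
section
/-!
# The natural representation of `Co0` (helper495)

* `odd_repC` : `-1` acts as `-1`;
* `scalar_of_comm` : an endomorphism commuting with the group `K = N ∩ N^ξ` is a scalar.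
-/

set_option autoImplicit false

namespace Cfsg.Agent.H495.QCo.Nat24

open Module Cfsg
open Cfsg.Agent.H847.Co1Small (sg sg_zero sg_one zcases)
open Cfsg.Agent.H495.QCo.Wt Cfsg.Agent.H495.QCo.Proj Cfsg.Agent.H495.QCo.KSub
open Cfsg.Agent.SporadicA.Co0Mono hiding smul_add smul_sub smul_neg smul_zero
open Cfsg.Agent.SporadicA.Co1Simple (allOne allOne_smul perm_smul_e8)
open Cfsg.Agent.SporadicStructure.Co0Base (e8 e8_coe)
open Cfsg.Agent.H419.LeechIrr (repC trace_repC toC repC_toC)

variable {U : Type*} [AddCommGroup U] [Module ℂ U]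

theorem toC_e8 (p : GolayPt) : toC (e8 p) = (8 : ℂ) • Pi.single p (1 : ℂ) := by
  funext j
  rw [Pi.smul_apply, smul_eq_mul]
  show (((e8 p : leechLattice) : GolayPt → ℤ) j : ℂ) = _
  rw [e8_coe]
  by_cases h : j = p
  · subst h; simp
  · simp [h]

theorem single_eq (p : GolayPt) : (Pi.single p (1 : ℂ) : GolayPt → ℂ) = (1 / 8 : ℂ) • toC (e8 p) := by
  rw [toC_e8, smul_smul]
  norm_num

theorem ext_b {f g : (GolayPt → ℂ) →ₗ[ℂ] U} (h : ∀ p, f (toC (e8 p)) = g (toC (e8 p))) : f = g := by
  apply LinearMap.pi_ext'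
  intro p
  ext1
  show f (Pi.single p (1 : ℂ)) = g (Pi.single p (1 : ℂ))
  rw [single_eq, map_smul, map_smul, h]

theorem sgn_sg (a : ZMod 2) : ((sgn a : ℤ) : ℂ) = sg a := by
  rcases zcases a with rfl | rfl
  · rw [sgn_zero, sg_zero]; norm_num
  · rw [sgn_one, sg_one]; norm_num

theorem repC_sign (c : golayCode) (w : GolayPt → ℂ) (q : GolayPt) :
    repC (signCo0 c) w q = sg ((c : GolayPt → ZMod 2) q) * w q := by
  have h : repC (signCo0 c) =
      LinearMap.pi fun q => sg ((c : GolayPt → ZMod 2) q) • (LinearMap.proj q : (GolayPt → ℂ) →ₗ[ℂ] ℂ) := by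
    apply ext_b
    intro p
    funext q
    rw [repC_toC]
    show (((signCo0 c • e8 p : leechLattice) : GolayPt → ℤ) q : ℂ) =
      sg ((c : GolayPt → ZMod 2) q) * (((e8 p : leechLattice) : GolayPt → ℤ) q : ℂ)
    rw [signCo0_smul, signMap_apply]
    push_cast
    rw [sgn_sg]
  rw [h]
  rfl

theorem odd_repC : Odd' repC := by
  show repC (signCo0 allOne) = -1
  apply ext_b
  intro p
  rw [repC_toC, allOne_smul]
  funext q
  show (((-(e8 p) : leechLattice) : GolayPt → ℤ) q : ℂ) = -(((e8 p : leechLattice) : GolayPt → ℤ) q : ℂ)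
  have : ((-(e8 p) : leechLattice) : GolayPt → ℤ) q = -((e8 p : leechLattice) : GolayPt → ℤ) q := rfl
  rw [this]
  push_cast
  rfl

theorem repC_perm (σ : M24) (p : GolayPt) :
    repC (permCo0 σ) (toC (e8 p)) = toC (e8 ((σ : Equiv.Perm GolayPt) p)) := by
  rw [repC_toC, perm_smul_e8]

/-- **the group `K` acts irreducibly** -/
theorem scalar_of_comm (f : (GolayPt → ℂ) →ₗ[ℂ] (GolayPt → ℂ)) (hf : ∀ k ∈ K, f * repC k = repC k * f) :
    ∃ t : ℂ, f = t • (1 : (GolayPt → ℂ) →ₗ[ℂ] (GolayPt → ℂ)) := by
  have hf' : ∀ k ∈ K, ∀ w, f (repC k w) = repC k (f w) := fun k hk w =>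
    congrArg (fun g : (GolayPt → ℂ) →ₗ[ℂ] (GolayPt → ℂ) => g w) (hf k hk)
  -- diagonal
  have h1 : ∀ p q : GolayPt, p ≠ q → f (toC (e8 p)) q = 0 := by
    intro p q hpq
    obtain ⟨c, hc, hcpq⟩ := exists_sep hpq
    have h2 := hf' _ hc (toC (e8 p))
    have h3 : repC (signCo0 c) (toC (e8 p)) = sg ((c : GolayPt → ZMod 2) p) • toC (e8 p) := by
      funext j
      rw [repC_sign, Pi.smul_apply, smul_eq_mul, toC_e8, Pi.smul_apply, smul_eq_mul]
      by_cases hj : j = p
      · rw [hj]
      · simp [hj]
    rw [h3, map_smul] at h2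
    have h4 := congrFun h2 q
    rw [repC_sign, Pi.smul_apply, smul_eq_mul] at h4
    have h5 : (sg ((c : GolayPt → ZMod 2) p) - sg ((c : GolayPt → ZMod 2) q)) * f (toC (e8 p)) q = 0 := by
      rw [sub_mul, h4, sub_self]
    refine (mul_eq_zero.1 h5).resolve_left ?_
    rcases zcases ((c : GolayPt → ZMod 2) p) with hp | hp <;> rcases zcases ((c : GolayPt → ZMod 2) q) with hq | hq
    · exact absurd (hp.trans hq.symm) hcpq
    · rw [hp, hq, sg_zero, sg_one]; norm_num
    · rw [hp, hq, sg_zero, sg_one]; norm_num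
    · exact absurd (hp.trans hq.symm) hcpq
  have h2 : ∀ p : GolayPt, f (toC (e8 p)) = (f (toC (e8 p)) p / 8) • toC (e8 p) := by
    intro p
    funext j
    rw [Pi.smul_apply, smul_eq_mul, toC_e8]
    by_cases hj : j = p
    · rw [hj, Pi.smul_apply, Pi.single_eq_same, smul_eq_mul]
      ring
    · have h3 := h1 p j (Ne.symm hj)
      rw [toC_e8] at h3
      rw [h3, Pi.smul_apply, Pi.single_eq_of_ne hj, smul_zero, mul_zero]
  -- constant
  have h3 : ∀ p q : GolayPt, f (toC (e8 p)) p = f (toC (e8 q)) q := by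
    intro p q
    obtain ⟨σ, hσ, hpq⟩ := exists_perm p q
    have h4 := hf' _ hσ (toC (e8 p))
    rw [repC_perm, hpq, h2 p, map_smul, repC_perm, hpq] at h4
    have h5 := congrFun h4 q
    rw [h5, Pi.smul_apply, smul_eq_mul, toC_e8 q, Pi.smul_apply, Pi.single_eq_same, smul_eq_mul]
    ring
  refine ⟨f (toC (e8 none)) none / 8, ext_b fun p => ?_⟩
  rw [h2 p, h3 p none]
  rfl

end Cfsg.Agent.H495.QCo.Nat24
end

-- part: H495/QCo/Sum
section
/-!
# Odd representations of `Co0` without triad weights: the traces on the monomial group (helper495)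
-/

set_option autoImplicit false

namespace Cfsg.Agent.H495.QCo.Sum

open Module Cfsg Cfsg.Agent.H847.Avg
open Cfsg.Agent.H847.Co1Small Cfsg.Agent.H495.QCo.Wt Cfsg.Agent.H495.QCo.Proj Cfsg.Agent.H495.QCo.KSub
open Cfsg.Agent.SporadicA.Co0Mono
open Cfsg.Agent.SporadicA.Co1Simple (allOne signCo0_add_self)
open Cfsg.Agent.CoOneType.SignFacts (wt sup wt_cases)
open Cfsg.Agent.H419.LeechIrr (repC trace_repC)
open Cfsg.Agent.Co2Type.Mono
open Cfsg.Agent.SporadicA.GolayBase (popcount pt idx)
open Cfsg.Agent.J4.M24InvolData (P1)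
open Cfsg.Agent.J4.M24Invol (ok_P1)
open Cfsg.Agent.SporadicStructure.M24El (el el_smul_pt)
open Cfsg.Agent.H495.QCo.Nat24 (odd_repC)

variable {W : Type*} [AddCommGroup W] [Module ℂ W]

/-! ### Idempotents -/

theorem isProj_range {E : W →ₗ[ℂ] W} (hE : E * E = E) : LinearMap.IsProj (LinearMap.range E) E :=
  ⟨fun x => ⟨x, rfl⟩, by
    rintro _ ⟨x, rfl⟩
    exact congrArg (fun f : W →ₗ[ℂ] W => f x) hE⟩

theorem idem_trace [FiniteDimensional ℂ W] {E : W →ₗ[ℂ] W} (hE : E * E = E) :
    LinearMap.trace ℂ W E = (finrank ℂ (LinearMap.range E) : ℂ) := (isProj_range hE).trace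

theorem idem_zero [FiniteDimensional ℂ W] {E : W →ₗ[ℂ] W} (h : finrank ℂ (LinearMap.range E) = 0) : E = 0 := by
  rw [Submodule.finrank_eq_zero] at h
  exact LinearMap.range_eq_bot.1 h

/-! ### The sum of the projections -/

theorem P_orth (R : Co0 →* (W →ₗ[ℂ] W)) {p q : GolayPt} (h : p ≠ q) : P R p * P R q = 0 := by
  obtain ⟨c, -, hc⟩ := exists_sep h
  exact P_mul_P R hc

theorem card_pt : Fintype.card GolayPt = 24 := by
  rw [← Finset.card_univ, Cfsg.Agent.SporadicStructure.MinShapes.card_pt]

theorem sum_P [FiniteDimensional ℂ W] {R : Co0 →* (W →ₗ[ℂ] W)} (hodd : Odd' R) (hb : mB R = 0) :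
    ∑ p, P R p = 1 := by
  classical
  have hQ : (∑ p, P R p) * (∑ p, P R p) = ∑ p, P R p := by
    rw [Finset.sum_mul]
    refine Finset.sum_congr rfl fun p _ => ?_
    rw [Finset.mul_sum, Finset.sum_eq_single p (fun q _ hq => P_orth R (Ne.symm hq))
      (fun h => absurd (Finset.mem_univ _) h), P_mul_self]
  have hE : (1 - ∑ p, P R p) * (1 - ∑ p, P R p) = 1 - ∑ p, P R p := by
    rw [mul_sub, sub_mul, sub_mul, hQ]
    simp
  have ht : LinearMap.trace ℂ W (1 - ∑ p, P R p) = 0 := by
    have h1 := mult_sum0 hodd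
    rw [hb, mul_zero, add_zero] at h1
    rw [map_sub, LinearMap.trace_one, map_sum, Finset.sum_congr rfl fun p _ => trace_P R p, Finset.sum_const,
      Finset.card_univ, card_pt, ← h1]
    push_cast
    rw [nsmul_eq_mul]
    push_cast
    ring
  have h0 := idem_zero (E := 1 - ∑ p, P R p) (by
    have h2 := idem_trace hE
    rw [ht] at h2
    exact_mod_cast h2.symm)
  exact (sub_eq_zero.1 h0).symm

/-- a permutation moving the point `p` -/
theorem trace_move (R : Co0 →* (W →ₗ[ℂ] W)) {σ : M24} {p : GolayPt} (h : (σ : Equiv.Perm GolayPt) p ≠ p) (c : golayCode) :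
    LinearMap.trace ℂ W (R (signCo0 c) * (R (permCo0 σ) * P R p)) = 0 := by
  have h1 : R (signCo0 c) * (R (permCo0 σ) * P R p) =
      sg ((c : GolayPt → ZMod 2) ((σ : Equiv.Perm GolayPt) p)) • (R (permCo0 σ) * P R p) := by
    rw [perm_mul_P, ← mul_assoc, sign_mul_P, smul_mul_assoc]
  rw [h1, map_smul]
  have h2 : R (permCo0 σ) * P R p = (R (permCo0 σ) * P R p) * P R p := by rw [mul_assoc, P_mul_self]
  rw [h2, LinearMap.trace_mul_comm, perm_mul_P, ← mul_assoc, P_orth R (Ne.symm h), zero_mul, map_zero, smul_eq_mul,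
    mul_zero]

/-- the trace on a monomial element -/
theorem trace_mono [FiniteDimensional ℂ W] {R : Co0 →* (W →ₗ[ℂ] W)} (hodd : Odd' R) (hb : mB R = 0)
    (hfix : ∀ (σ : M24) (p : GolayPt), (σ : Equiv.Perm GolayPt) p = p → R (permCo0 σ) * P R p = P R p)
    (c : golayCode) (σ : M24) :
    LinearMap.trace ℂ W (R (signCo0 c * permCo0 σ)) =
      mA R * ∑ p, if (σ : Equiv.Perm GolayPt) p = p then sg ((c : GolayPt → ZMod 2) p) else 0 := by
  classical
  have h1 : R (signCo0 c * permCo0 σ) = ∑ p, R (signCo0 c) * (R (permCo0 σ) * P R p) := by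
    rw [← Finset.mul_sum, ← Finset.mul_sum, sum_P hodd hb, mul_one, map_mul]
  rw [h1, map_sum, Finset.mul_sum]
  refine Finset.sum_congr rfl fun p _ => ?_
  by_cases hp : (σ : Equiv.Perm GolayPt) p = p
  · rw [if_pos hp, hfix σ p hp, sign_mul_P, map_smul, trace_P, smul_eq_mul, mul_comm]
  · rw [if_neg hp, mul_zero, trace_move R hp]

/-! ### The involution -/

/-- the involution -/
noncomputable def tau : M24 := el P1

theorem tau_apply (p : GolayPt) : (tau : Equiv.Perm GolayPt) p = pt (Cfsg.Agent.SporadicA.GolayPerm.papp P1 (idx p)) := by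
  exact el_smul_pt ok_P1 p

theorem card_fix : (Finset.univ.filter fun p => (tau : Equiv.Perm GolayPt) p = p).card = 8 := by
  have h : (Finset.univ.filter fun p => (tau : Equiv.Perm GolayPt) p = p) =
      Finset.univ.filter fun p => pt (Cfsg.Agent.SporadicA.GolayPerm.papp P1 (idx p)) = p :=
    Finset.filter_congr fun p _ => by rw [tau_apply]
  rw [h]
  decide +kernel

theorem tau_sq : tau * tau = 1 := by
  have h : el (Cfsg.Agent.SporadicA.GolayPerm.pcomp P1 P1) = 1 := by
    have h1 : Cfsg.Agent.SporadicA.GolayPerm.pcomp P1 P1 = Cfsg.Agent.SporadicStructure.M24El.idP := by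
      decide +kernel
    rw [h1, Cfsg.Agent.SporadicStructure.M24El.el_idP]
  rw [← h, Cfsg.Agent.SporadicStructure.M24El.el_pcomp ok_P1 ok_P1]
  rfl

theorem tr8_tau : tr8 (permCo0 tau) = 64 := by
  have h1 : permCo0 tau = mo 0 P1 := by
    unfold mo tau
    rw [cd_zero, signCo0_zero, one_mul]
  rw [h1, tr8_mo Cfsg.Agent.SporadicA.GolayBase.isCode_zero ok_P1]
  have h2 : trN 0 P1 = 8 := by decide +kernel
  rw [h2]
  norm_num

theorem finrank_nat : finrank ℂ (GolayPt → ℂ) = 24 := by
  rw [finrank_fintype_fun_eq_card, card_pt]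

theorem nat_mA : mA repC = 1 ∧ mB repC = 0 := by
  have h := mult_sum0 odd_repC
  rw [finrank_nat] at h
  (clear * - h; solve | lia | omega)

/-- `tau` is conjugate to an octad sign change -/
theorem exists_conj_tau : ∃ (g : Co0) (c : golayCode), wt c = 8 ∧ g * permCo0 tau * g⁻¹ = signCo0 c := by
  obtain ⟨g, c, hc⟩ := Cfsg.Agent.CoOneType.InvMain.conj_sign_of_sq_one (permCo0 tau)
    (by rw [← map_mul, tau_sq, map_one])
  refine ⟨g, c, ?_, hc⟩
  obtain ⟨o, ho⟩ := exists_octad
  have h1 := mA_eq odd_repC ho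
  rw [nat_mA.1, finrank_nat] at h1
  have hv : LinearMap.trace ℂ _ (repC (signCo0 o)) = 8 := by
    push_cast at h1
    linear_combination (-1 / 506 : ℂ) * h1
  have h2 : LinearMap.trace ℂ _ (repC (signCo0 c)) = 8 := by
    rw [← hc, Wt.trace_conj, trace_repC, tr8_tau]
    norm_num
  rw [trace_eq0 odd_repC ho, finrank_nat, hv] at h2
  unfold tt0 at h2
  rcases wt_cases c with h | h | h | h | h <;> rw [h] at h2
  · norm_num at h2
  · exact h
  · norm_num at h2
  · norm_num at h2
  · norm_num at h2

theorem trace_tau [FiniteDimensional ℂ W] {R : Co0 →* (W →ₗ[ℂ] W)} (hodd : Odd' R) (hb : mB R = 0) :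
    LinearMap.trace ℂ W (R (permCo0 tau)) = 8 * mA R := by
  obtain ⟨g, c, h8, hc⟩ := exists_conj_tau
  rw [← Wt.trace_conj R g, hc]
  have h1 := mA_eq hodd h8
  have h3 := mB_eq hodd h8
  rw [hb] at h3
  push_cast at h3
  linear_combination (-1 / 512 : ℂ) * h1 + (1 / 512 : ℂ) * h3

/-- the multiplicity of the eigenvalue `-1` of an involution on a weight space -/
noncomputable def Yp (R : Co0 →* (W →ₗ[ℂ] W)) (σ : M24) (p : GolayPt) : W →ₗ[ℂ] W :=
  (1 / 2 : ℂ) • (P R p - R (permCo0 σ) * P R p)

theorem Yp_idem (R : Co0 →* (W →ₗ[ℂ] W)) {σ : M24} (hσ : σ * σ = 1) {p : GolayPt}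
    (hp : (σ : Equiv.Perm GolayPt) p = p) : Yp R σ p * Yp R σ p = Yp R σ p := by
  have h1 : R (permCo0 σ) * P R p = P R p * R (permCo0 σ) := by
    have := perm_mul_P R σ p
    rwa [hp] at this
  have h2 : R (permCo0 σ) * R (permCo0 σ) = 1 := by rw [← map_mul, ← map_mul, hσ, map_one, map_one]
  have h3 : (R (permCo0 σ) * P R p) * (R (permCo0 σ) * P R p) = P R p := by
    calc (R (permCo0 σ) * P R p) * (R (permCo0 σ) * P R p) =
        R (permCo0 σ) * (P R p * R (permCo0 σ)) * P R p := by simp only [mul_assoc]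
      _ = (R (permCo0 σ) * R (permCo0 σ)) * (P R p * P R p) := by rw [← h1]; simp only [mul_assoc]
      _ = P R p := by rw [h2, one_mul, P_mul_self]
  have h4 : P R p * (R (permCo0 σ) * P R p) = R (permCo0 σ) * P R p := by
    rw [h1, ← mul_assoc, P_mul_self]
  have h5 : (R (permCo0 σ) * P R p) * P R p = R (permCo0 σ) * P R p := by rw [mul_assoc, P_mul_self]
  unfold Yp
  rw [smul_mul_smul_comm, mul_sub, sub_mul, sub_mul, P_mul_self, h3, h4, h5]
  have h6 : P R p - R (permCo0 σ) * P R p - (R (permCo0 σ) * P R p - P R p) =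
      (2 : ℂ) • (P R p - R (permCo0 σ) * P R p) := by
    rw [two_smul]
    abel
  rw [h6, smul_smul]
  norm_num

theorem tau_fix [FiniteDimensional ℂ W] {R : Co0 →* (W →ₗ[ℂ] W)} (hodd : Odd' R) (hb : mB R = 0)
    {p : GolayPt} (hp : (tau : Equiv.Perm GolayPt) p = p) : R (permCo0 tau) * P R p = P R p := by
  classical
  have h1 : LinearMap.trace ℂ W (R (permCo0 tau)) =
      ∑ p, LinearMap.trace ℂ W (R (permCo0 tau) * P R p) := by
    rw [← map_sum, ← Finset.mul_sum, sum_P hodd hb, mul_one]
  have h2 : ∑ p, LinearMap.trace ℂ W (R (permCo0 tau) * P R p) =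
      ∑ p ∈ Finset.univ.filter fun p => (tau : Equiv.Perm GolayPt) p = p,
        LinearMap.trace ℂ W (R (permCo0 tau) * P R p) := by
    symm
    apply Finset.sum_subset (Finset.subset_univ _)
    intro q _ hq
    rw [Finset.mem_filter, not_and] at hq
    have h3 := trace_move R (hq (Finset.mem_univ q)) 0
    rwa [signCo0_zero, map_one, one_mul] at h3
  have h3 : ∀ q ∈ Finset.univ.filter fun p => (tau : Equiv.Perm GolayPt) p = p,
      LinearMap.trace ℂ W (R (permCo0 tau) * P R q) =
        mA R - 2 * (finrank ℂ (LinearMap.range (Yp R tau q)) : ℂ) := by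
    intro q hq
    have h4 := idem_trace (Yp_idem R tau_sq (Finset.mem_filter.1 hq).2)
    rw [← h4]
    unfold Yp
    rw [map_smul, map_sub, trace_P, smul_eq_mul]
    ring
  rw [h2, Finset.sum_congr rfl h3, Finset.sum_sub_distrib, Finset.sum_const, card_fix, ← Finset.mul_sum,
    trace_tau hodd hb, nsmul_eq_mul] at h1
  have h5 : ((∑ q ∈ Finset.univ.filter fun p => (tau : Equiv.Perm GolayPt) p = p,
      finrank ℂ (LinearMap.range (Yp R tau q)) : ℕ) : ℂ) = 0 := by
    push_cast
    push_cast at h1
    linear_combination (1 / 2 : ℂ) * h1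
  have h6 : ∑ q ∈ Finset.univ.filter fun p => (tau : Equiv.Perm GolayPt) p = p,
      finrank ℂ (LinearMap.range (Yp R tau q)) = 0 := by exact_mod_cast h5
  have h7 : Yp R tau p = 0 :=
    idem_zero ((Finset.sum_eq_zero_iff.1 h6) p (Finset.mem_filter.2 ⟨Finset.mem_univ _, hp⟩))
  unfold Yp at h7
  have h8 := (smul_eq_zero.1 h7).resolve_left (by norm_num)
  exact (sub_eq_zero.1 h8).symm

/-- **the stabiliser of a point acts trivially on its weight space** -/
theorem fix_all [FiniteDimensional ℂ W] {R : Co0 →* (W →ₗ[ℂ] W)} (hodd : Odd' R) (hb : mB R = 0)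
    (σ : M24) (p : GolayPt) (hσ : (σ : Equiv.Perm GolayPt) p = p) : R (permCo0 σ) * P R p = P R p := by
  -- it is enough to treat one point
  obtain ⟨p0, hp0⟩ : ∃ p0, (tau : Equiv.Perm GolayPt) p0 = p0 := by
    have h : (Finset.univ.filter fun p => (tau : Equiv.Perm GolayPt) p = p).Nonempty := by
      rw [← Finset.card_pos, card_fix]; norm_num
    obtain ⟨p0, h0⟩ := h
    exact ⟨p0, (Finset.mem_filter.1 h0).2⟩
  have key : ∀ σ : M24, (σ : Equiv.Perm GolayPt) p0 = p0 → R (permCo0 σ) * P R p0 = P R p0 := by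
    let S : Subgroup (MulAction.stabilizer M24 p0) :=
      { carrier := {g | R (permCo0 (g : M24)) * P R p0 = P R p0}
        one_mem' := by
          show R (permCo0 1) * P R p0 = P R p0
          rw [map_one, map_one, one_mul]
        mul_mem' := by
          intro a b ha hb
          show R (permCo0 ((a : M24) * b)) * P R p0 = P R p0
          rw [map_mul, map_mul, mul_assoc, show R (permCo0 (b : M24)) * P R p0 = P R p0 from hb]
          exact ha
        inv_mem' := by
          intro a ha
          show R (permCo0 ((a : M24)⁻¹)) * P R p0 = P R p0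
          have ha' : R (permCo0 (a : M24)) * P R p0 = P R p0 := ha
          calc R (permCo0 ((a : M24)⁻¹)) * P R p0 = R (permCo0 ((a : M24)⁻¹)) * (R (permCo0 (a : M24)) * P R p0) := by
                rw [ha']
            _ = P R p0 := by rw [← mul_assoc, ← map_mul, ← map_mul, inv_mul_cancel, map_one, map_one, one_mul] }
    have hn : S.Normal := by
      constructor
      intro s hs g
      show R (permCo0 ((g : M24) * s * (g : M24)⁻¹)) * P R p0 = P R p0
      have hg : ((g : M24)⁻¹ : Equiv.Perm GolayPt) p0 = p0 := by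
        have h1 : (((g : M24) : M24) : Equiv.Perm GolayPt) p0 = p0 := g.2
        rw [Equiv.Perm.inv_eq_iff_eq]
        exact h1.symm
      have hs' : R (permCo0 (s : M24)) * P R p0 = P R p0 := hs
      have hP : R (permCo0 ((g : M24)⁻¹)) * P R p0 = P R p0 * R (permCo0 ((g : M24)⁻¹)) := by
        have h2 := perm_mul_P R ((g : M24)⁻¹) p0
        rw [Subgroup.coe_inv, hg] at h2
        exact h2
      rw [map_mul, map_mul, map_mul, map_mul, mul_assoc, hP, mul_assoc, ← mul_assoc (R (permCo0 (s : M24))), hs',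
        ← hP, ← mul_assoc, ← map_mul, ← map_mul, mul_inv_cancel, map_one, map_one, one_mul]
    have hsimple := Cfsg.Agent.S0377.result p0
    have htau : (⟨tau, hp0⟩ : MulAction.stabilizer M24 p0) ∈ S := tau_fix hodd hb hp0
    rcases hsimple.eq_bot_or_eq_top_of_normal S hn with h | h
    · exfalso
      rw [h, Subgroup.mem_bot] at htau
      have h1 : tau = 1 := congrArg Subtype.val htau
      have h2 := card_fix
      have h3 : (Finset.univ.filter fun p => (tau : Equiv.Perm GolayPt) p = p) = Finset.univ := by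
        apply Finset.filter_true_of_mem
        intro q _
        rw [h1]
        rfl
      rw [h3, Finset.card_univ, card_pt] at h2
      omega
    · intro σ hσ
      have h1 : (⟨σ, hσ⟩ : MulAction.stabilizer M24 p0) ∈ S := by rw [h]; trivial
      exact h1
  obtain ⟨g, hg⟩ := exists_M24 p0 p
  have h1 : ((g⁻¹ * σ * g : M24) : Equiv.Perm GolayPt) p0 = p0 := by
    rw [Subgroup.coe_mul, Subgroup.coe_mul, Equiv.Perm.mul_apply, Equiv.Perm.mul_apply, hg, hσ, Subgroup.coe_inv,
      Equiv.Perm.inv_eq_iff_eq]
    exact hg.symm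
  have h2 := key _ h1
  have h3 : P R p = R (permCo0 g) * P R p0 * R (permCo0 g⁻¹) := by
    rw [perm_mul_P, hg, mul_assoc, ← map_mul, ← map_mul, mul_inv_cancel, map_one, map_one, mul_one]
  have h4 : R (permCo0 σ) * R (permCo0 g) = R (permCo0 g) * R (permCo0 (g⁻¹ * σ * g)) := by
    rw [← map_mul, ← map_mul, ← map_mul, ← map_mul]
    congr 2
    group
  rw [h3, ← mul_assoc, ← mul_assoc, h4, mul_assoc (R (permCo0 g)), h2]

/-- **the trace on the monomial group** -/
theorem trace_N [FiniteDimensional ℂ W] {R : Co0 →* (W →ₗ[ℂ] W)} (hodd : Odd' R) (hb : mB R = 0)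
    {g : Co0} (hg : g ∈ Cfsg.Agent.SporadicA.Co1Simple.N) :
    LinearMap.trace ℂ W (R g) = mA R * LinearMap.trace ℂ _ (repC g) := by
  obtain ⟨c, σ, rfl⟩ := Cfsg.Agent.SporadicA.Co1Simple.exists_sign_perm hg
  rw [trace_mono hodd hb (fix_all hodd hb), trace_mono odd_repC nat_mA.2 (fix_all odd_repC nat_mA.2), nat_mA.1]
  push_cast
  ring

end Cfsg.Agent.H495.QCo.Sum
end

-- part: H495/QCo/Amal
section
/-!
# Equivariant maps for subgroups (helper495)

`exists_map` : for two representations `ρ`, `σ` of `G = ⟨A, B⟩` and `K ≤ A ∩ B` such that the spaces of the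
`A`-equivariant, `B`-equivariant and `K`-equivariant maps have the same dimension `≠ 0`, there is a nonzero
`G`-equivariant map.
-/

set_option autoImplicit false

namespace Cfsg.Agent.H495.QCo.Amal

open Module Cfsg Representation
open Cfsg.Agent.Characters.Core

variable {G V W : Type*} [Group G] [AddCommGroup V] [Module ℂ V] [AddCommGroup W] [Module ℂ W]

theorem comp_inv_left (ρ : G →* (V →ₗ[ℂ] V)) (g : G) : ρ g⁻¹ ∘ₗ ρ g = LinearMap.id := by
  rw [← Module.End.mul_eq_comp, ← map_mul, inv_mul_cancel, map_one, Module.End.one_eq_id]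

theorem comp_inv_right (ρ : G →* (V →ₗ[ℂ] V)) (g : G) : ρ g ∘ₗ ρ g⁻¹ = LinearMap.id := by
  rw [← Module.End.mul_eq_comp, ← map_mul, mul_inv_cancel, map_one, Module.End.one_eq_id]

/-- the equivariant maps for a subgroup -/
noncomputable def Hm (ρ : G →* (V →ₗ[ℂ] V)) (σ : G →* (W →ₗ[ℂ] W)) (S : Subgroup G) : Submodule ℂ (V →ₗ[ℂ] W) :=
  invariants (linHom (ρ.comp S.subtype) (σ.comp S.subtype))

theorem key (ρ : G →* (V →ₗ[ℂ] V)) (σ : G →* (W →ₗ[ℂ] W)) (f : V →ₗ[ℂ] W) (g : G) :
    (σ g ∘ₗ f ∘ₗ ρ g⁻¹ = f) ↔ σ g ∘ₗ f = f ∘ₗ ρ g := by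
  constructor
  · intro h
    rw [← h, LinearMap.comp_assoc, LinearMap.comp_assoc, comp_inv_left, LinearMap.comp_id, h]
  · intro h
    rw [← LinearMap.comp_assoc, h, LinearMap.comp_assoc, comp_inv_right, LinearMap.comp_id]

theorem mem_Hm {ρ : G →* (V →ₗ[ℂ] V)} {σ : G →* (W →ₗ[ℂ] W)} {S : Subgroup G} {f : V →ₗ[ℂ] W} :
    f ∈ Hm ρ σ S ↔ ∀ g ∈ S, σ g ∘ₗ f = f ∘ₗ ρ g := by
  unfold Hm
  rw [mem_invariants]
  constructor
  · intro h g hg
    exact (key ρ σ f g).1 (h ⟨g, hg⟩)
  · intro h g
    exact (key ρ σ f g).2 (h g g.2)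

theorem Hm_mono {ρ : G →* (V →ₗ[ℂ] V)} {σ : G →* (W →ₗ[ℂ] W)} {S S' : Subgroup G} (h : S ≤ S') :
    Hm ρ σ S' ≤ Hm ρ σ S := fun _ hf => mem_Hm.2 fun g hg => mem_Hm.1 hf g (h hg)

theorem finrank_Hm [FiniteDimensional ℂ V] [FiniteDimensional ℂ W] (ρ : G →* (V →ₗ[ℂ] V)) (σ : G →* (W →ₗ[ℂ] W))
    (S : Subgroup G) [Fintype S] :
    (finrank ℂ (Hm ρ σ S) : ℂ) = (Nat.card S : ℂ)⁻¹ * ∑ s : S, LinearMap.trace ℂ V (ρ (s : G)⁻¹) *
      LinearMap.trace ℂ W (σ (s : G)) := by
  have : Invertible (Nat.card S : ℂ) := invertibleOfNonzero card_ne_zero_complex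
  unfold Hm
  rw [← card_inv_mul_sum_char_eq_finrank]
  congr 1
  refine Finset.sum_congr rfl fun s _ => ?_
  rw [char_linHom]
  rfl

theorem trace_conj (ρ : G →* (V →ₗ[ℂ] V)) (g x : G) :
    LinearMap.trace ℂ V (ρ (g * x * g⁻¹)) = LinearMap.trace ℂ V (ρ x) := by
  rw [map_mul ρ (g * x) g⁻¹, LinearMap.trace_mul_comm, ← map_mul, ← mul_assoc, inv_mul_cancel, one_mul]

/-- the dimension for a subgroup on which `tr σ = a tr ρ` -/
theorem finrank_of_trace [Finite G] [FiniteDimensional ℂ V] [FiniteDimensional ℂ W] (ρ : G →* (V →ₗ[ℂ] V))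
    (σ : G →* (W →ₗ[ℂ] W)) {S : Subgroup G} {a : ℕ}
    (h : ∀ g ∈ S, LinearMap.trace ℂ W (σ g) = a * LinearMap.trace ℂ V (ρ g)) :
    finrank ℂ (Hm ρ σ S) = a * finrank ℂ (Hm ρ ρ S) := by
  classical
  have := Fintype.ofFinite S
  have h' : (finrank ℂ (Hm ρ σ S) : ℂ) = ((a * finrank ℂ (Hm ρ ρ S) : ℕ) : ℂ) := by
    have e : ∑ s : S, LinearMap.trace ℂ V (ρ (s : G)⁻¹) * LinearMap.trace ℂ W (σ (s : G)) =
        a * ∑ s : S, LinearMap.trace ℂ V (ρ (s : G)⁻¹) * LinearMap.trace ℂ V (ρ (s : G)) := by
      rw [Finset.mul_sum]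
      refine Finset.sum_congr rfl fun s _ => ?_
      rw [h s s.2]
      ring
    push_cast
    rw [finrank_Hm, finrank_Hm, e]
    ring
  exact_mod_cast h'

/-- the dimension for a conjugate subgroup -/
theorem finrank_conj [Finite G] [FiniteDimensional ℂ V] [FiniteDimensional ℂ W] (ρ : G →* (V →ₗ[ℂ] V))
    (σ : G →* (W →ₗ[ℂ] W)) {A B : Subgroup G} (t : G) (h : ∀ g, g ∈ B ↔ t * g * t⁻¹ ∈ A) :
    finrank ℂ (Hm ρ σ B) = finrank ℂ (Hm ρ σ A) := by
  classical
  have := Fintype.ofFinite A
  have := Fintype.ofFinite B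
  let e : B ≃ A :=
    { toFun := fun g => ⟨t * g * t⁻¹, (h g).1 g.2⟩
      invFun := fun g => ⟨t⁻¹ * g * t, by
        rw [h]
        have : t * (t⁻¹ * (g : G) * t) * t⁻¹ = g := by group
        rw [this]
        exact g.2⟩
      left_inv := fun g => Subtype.ext (by
        show t⁻¹ * (t * (g : G) * t⁻¹) * t = g
        group)
      right_inv := fun g => Subtype.ext (by
        show t * (t⁻¹ * (g : G) * t) * t⁻¹ = g
        group) }
  have h : (finrank ℂ (Hm ρ σ B) : ℂ) = (finrank ℂ (Hm ρ σ A) : ℂ) := by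
    rw [finrank_Hm, finrank_Hm, Nat.card_congr e]
    congr 1
    refine Fintype.sum_equiv e _ _ fun s => ?_
    have h1 : ((e s : A) : G)⁻¹ = t * (s : G)⁻¹ * t⁻¹ := by
      show (t * (s : G) * t⁻¹)⁻¹ = _
      group
    rw [h1, trace_conj]
    congr 1
    exact (trace_conj σ t (s : G)).symm
  exact_mod_cast h

/-- **equivariant maps for the group generated by two subgroups** -/
theorem exists_map [FiniteDimensional ℂ V] [FiniteDimensional ℂ W] {ρ : G →* (V →ₗ[ℂ] V)} {σ : G →* (W →ₗ[ℂ] W)}
    {A B K : Subgroup G} (hAB : A ⊔ B = ⊤) (hKA : K ≤ A) (hKB : K ≤ B) {a : ℕ} (ha : a ≠ 0)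
    (hA : finrank ℂ (Hm ρ σ A) = a) (hB : finrank ℂ (Hm ρ σ B) = a) (hK : finrank ℂ (Hm ρ σ K) = a) :
    ∃ f : V →ₗ[ℂ] W, f ≠ 0 ∧ ∀ g : G, σ g ∘ₗ f = f ∘ₗ ρ g := by
  have e1 : Hm ρ σ A = Hm ρ σ K := Submodule.eq_of_le_of_finrank_eq (Hm_mono hKA) (by rw [hA, hK])
  have e2 : Hm ρ σ B = Hm ρ σ K := Submodule.eq_of_le_of_finrank_eq (Hm_mono hKB) (by rw [hB, hK])
  have hne : Hm ρ σ K ≠ ⊥ := by
    intro h
    rw [h, finrank_bot] at hK
    exact ha hK.symm
  obtain ⟨f, hf, hf0⟩ := Submodule.exists_mem_ne_zero_of_ne_bot hne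
  refine ⟨f, hf0, ?_⟩
  let St : Subgroup G :=
    { carrier := {g | σ g ∘ₗ f = f ∘ₗ ρ g}
      one_mem' := by
        show σ 1 ∘ₗ f = f ∘ₗ ρ 1
        rw [map_one, map_one]
        rfl
      mul_mem' := by
        intro a b ha hb
        have ha' : σ a ∘ₗ f = f ∘ₗ ρ a := ha
        have hb' : σ b ∘ₗ f = f ∘ₗ ρ b := hb
        show σ (a * b) ∘ₗ f = f ∘ₗ ρ (a * b)
        rw [map_mul, map_mul, Module.End.mul_eq_comp, Module.End.mul_eq_comp, LinearMap.comp_assoc, hb',
          ← LinearMap.comp_assoc, ha', LinearMap.comp_assoc]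
      inv_mem' := by
        intro a ha
        have ha' : σ a ∘ₗ f = f ∘ₗ ρ a := ha
        show σ a⁻¹ ∘ₗ f = f ∘ₗ ρ a⁻¹
        have h1 := (key ρ σ f a).2 ha'
        calc σ a⁻¹ ∘ₗ f = σ a⁻¹ ∘ₗ (σ a ∘ₗ f ∘ₗ ρ a⁻¹) := by rw [h1]
          _ = (σ a⁻¹ ∘ₗ σ a) ∘ₗ f ∘ₗ ρ a⁻¹ := (LinearMap.comp_assoc _ _ _).symm
          _ = f ∘ₗ ρ a⁻¹ := by rw [comp_inv_left, LinearMap.id_comp] }
  have hle : A ⊔ B ≤ St := by
    have hf1 := mem_Hm.1 (e1 ▸ hf : f ∈ Hm ρ σ A)
    have hf2 := mem_Hm.1 (e2 ▸ hf : f ∈ Hm ρ σ B)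
    exact sup_le (fun g hg => hf1 g hg) (fun g hg => hf2 g hg)
  rw [hAB, top_le_iff] at hle
  intro g
  have : g ∈ St := by rw [hle]; trivial
  exact this

theorem finrank_one {X : Type*} [AddCommGroup X] [Module ℂ X] {v : X} (hv : v ≠ 0) (h : ∀ w : X, ∃ c : ℂ, c • v = w) :
    finrank ℂ X = 1 :=
  (finrank_eq_one_iff_of_nonzero' v hv).2 h

/-- a group with only scalar commuting maps -/
theorem finrank_self [Nontrivial V] (ρ : G →* (V →ₗ[ℂ] V)) (S : Subgroup G)
    (h : ∀ f : V →ₗ[ℂ] V, (∀ k ∈ S, f * ρ k = ρ k * f) → ∃ t : ℂ, f = t • (1 : V →ₗ[ℂ] V)) :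
    finrank ℂ (Hm ρ ρ S) = 1 := by
  have h1 : (1 : V →ₗ[ℂ] V) ∈ Hm ρ ρ S := mem_Hm.2 fun g _ => by
    rw [← Module.End.mul_eq_comp, ← Module.End.mul_eq_comp, mul_one, one_mul]
  refine finrank_one (v := ⟨1, h1⟩) (fun h0 => ?_) fun w => ?_
  · have h2 : (1 : V →ₗ[ℂ] V) = 0 := congrArg Subtype.val h0
    obtain ⟨x, hx⟩ := exists_ne (0 : V)
    apply hx
    have h3 := congrArg (fun f : V →ₗ[ℂ] V => f x) h2
    simpa using h3
  · obtain ⟨t, ht⟩ := h (w : V →ₗ[ℂ] V) (fun k hk => (mem_Hm.1 w.2 k hk).symm)
    exact ⟨t, Subtype.ext ht.symm⟩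

/-- the character of a representation with only scalar commuting maps is irreducible -/
theorem isIrr_of_scalar [Finite G] [FiniteDimensional ℂ V] [Nontrivial V] (ρ : Representation ℂ G V)
    (h : ∀ f : V →ₗ[ℂ] V, (∀ k : G, f * ρ k = ρ k * f) → ∃ t : ℂ, f = t • (1 : V →ₗ[ℂ] V)) :
    IsIrrCharacter G ρ.character := by
  classical
  have := Fintype.ofFinite G
  refine isIrr_of_classInner_self (isCharacter_of_rep ρ) ?_
  have h1 := finrank_self (ρ : G →* (V →ₗ[ℂ] V)) ⊤ (fun f hf => h f fun k => hf k (Subgroup.mem_top k))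
  have h2 := finrank_Hm (ρ : G →* (V →ₗ[ℂ] V)) ρ ⊤
  rw [h1, Nat.cast_one] at h2
  rw [classInner_def, h2]
  congr 1
  · rw [Subgroup.card_top]
  · refine (Fintype.sum_equiv Subgroup.topEquiv.toEquiv _ _ fun s => ?_).symm
    rw [mul_comm, ← isCharacter_apply_inv (isCharacter_of_rep ρ)]
    rfl

/-- two irreducible representations with a nonzero equivariant map have the same character -/
theorem char_eq_of_map [Finite G] [FiniteDimensional ℂ V] [FiniteDimensional ℂ W] {ρ : Representation ℂ G V}
    {σ : Representation ℂ G W} (hρ : IsIrrCharacter G ρ.character) (hσ : IsIrrCharacter G σ.character)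
    {f : V →ₗ[ℂ] W} (hf0 : f ≠ 0) (hf : ∀ g : G, σ g ∘ₗ f = f ∘ₗ ρ g) : σ.character = ρ.character := by
  classical
  have := Fintype.ofFinite G
  by_contra hne
  have h1 := classInner_irr_ne hσ hρ hne
  rw [classInner_def] at h1
  have h2 := finrank_Hm (ρ : G →* (V →ₗ[ℂ] V)) (σ : G →* (W →ₗ[ℂ] W)) ⊤
  have h3 : (Nat.card (⊤ : Subgroup G) : ℂ)⁻¹ * ∑ s : (⊤ : Subgroup G), LinearMap.trace ℂ V (ρ (s : G)⁻¹) *
      LinearMap.trace ℂ W (σ (s : G)) = 0 := by
    rw [← h1]
    congr 1
    · rw [Subgroup.card_top]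
    · refine Fintype.sum_equiv Subgroup.topEquiv.toEquiv _ _ fun s => ?_
      rw [mul_comm, ← isCharacter_apply_inv (isCharacter_of_rep ρ)]
      rfl
  rw [h3] at h2
  have h4 : finrank ℂ (Hm (ρ : G →* (V →ₗ[ℂ] V)) (σ : G →* (W →ₗ[ℂ] W)) ⊤) = 0 := by exact_mod_cast h2
  rw [Submodule.finrank_eq_zero] at h4
  have h5 : f ∈ Hm (ρ : G →* (V →ₗ[ℂ] V)) (σ : G →* (W →ₗ[ℂ] W)) ⊤ := mem_Hm.2 fun g _ => hf g
  rw [h4, Submodule.mem_bot] at h5
  exact hf0 h5

end Cfsg.Agent.H495.QCo.Amal
end

-- part: H495/QCo/Main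
section
/-!
# The faithful irreducible characters of `Co0` of degree prime to 23 and smaller than 2048 (helper495)

`deg2 : Deg2 2048` (the input of `H264/QS/CoSieve`): such a character is the 24-dimensional one.
-/

set_option autoImplicit false

namespace Cfsg.Agent.H495.QCo.Main

open Module Cfsg
open Cfsg.Agent.H495.QCo.Wt Cfsg.Agent.H495.QCo.KSub Cfsg.Agent.H495.QCo.Sum Cfsg.Agent.H495.QCo.Amal
open Cfsg.Agent.H495.QCo.Nat24
open Cfsg.Agent.SporadicA.Co0Mono (signCo0)
open Cfsg.Agent.SporadicA.Co1Simple (N allOne)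
open Cfsg.Agent.H419.LeechIrr (repC trace_repC)
open Cfsg.Agent.Characters.Core

variable {W : Type*} [AddCommGroup W] [Module ℂ W]

/-- **an odd representation without triad weights contains the natural one** -/
theorem exists_nat [FiniteDimensional ℂ W] {R : Co0 →* (W →ₗ[ℂ] W)} (hodd : Odd' R) (hb : mB R = 0)
    (ha : mA R ≠ 0) : ∃ f : (GolayPt → ℂ) →ₗ[ℂ] W, f ≠ 0 ∧ ∀ g : Co0, R g ∘ₗ f = f ∘ₗ repC g := by
  have hfin := CpAutBig.CoZero.finite_co0
  have hKN : K ≤ N := inf_le_left
  have hKN' : K ≤ N' := inf_le_right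
  have h1 : ∀ S : Subgroup Co0, K ≤ S → finrank ℂ (Hm repC repC S) = 1 := fun S hS =>
    _root_.Cfsg.Agent.H495.QCo.Amal.finrank_self repC S fun f hf => scalar_of_comm f fun k hk => hf k (hS hk)
  have hN : finrank ℂ (Hm repC R N) = mA R := by
    rw [finrank_of_trace repC R (fun g hg => trace_N hodd hb hg), h1 N hKN, mul_one]
  have hN' : finrank ℂ (Hm repC R N') = mA R := by
    rw [finrank_conj repC R (A := N) (B := N') xi (fun g => mem_N'), hN]
  have hK : finrank ℂ (Hm repC R K) = mA R := by
    rw [finrank_of_trace repC R (fun g hg => trace_N hodd hb (hKN hg)), h1 K le_rfl, mul_one]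
  exact exists_map sup_eq_top hKN hKN' ha hN hN' hK

/-- the natural representation -/
noncomputable def nat : Representation ℂ Co0 (GolayPt → ℂ) := repC

/-- the natural character -/
theorem char_nat : nat.character = Cfsg.Agent.H264.QS.CoSieve.nu := by
  funext g
  exact trace_repC g

/-- the natural character is irreducible -/
theorem isIrr_nat : IsIrrCharacter Co0 Cfsg.Agent.H264.QS.CoSieve.nu := by
  have hfin := CpAutBig.CoZero.finite_co0
  rw [← char_nat]
  exact isIrr_of_scalar nat fun f hf => scalar_of_comm f fun k _ => hf k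

/-- **Characters of `Co0`** -/
theorem eq_nu_of_lt {n : ℕ} {ρ : Representation ℂ Co0 (Fin n → ℂ)} (hirr : ρ.IsIrreducible)
    (hz : ∃ z ∈ Subgroup.center Co0, ρ.character z ≠ ρ.character 1) (h23 : ¬ 23 ∣ n) (hn : n < 2048) :
    ρ.character = Cfsg.Agent.H264.QS.CoSieve.nu := by
  have hfin := CpAutBig.CoZero.finite_co0
  have hodd : Odd' (ρ : Co0 →* _) := by
    obtain ⟨z, hzc, hzn⟩ := hz
    obtain ⟨c, hc⟩ := Cfsg.Agent.Characters.Central.exists_smul_of_comm ρ hirr (ρ z) (fun g => by
      rw [← map_mul, ← map_mul, (Subgroup.mem_center_iff.1 hzc g)])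
    rcases Cfsg.Agent.Schreier.Co1.mem_center.1 hzc with rfl | rfl
    · exact absurd rfl hzn
    · have h1 : (c * c) • (1 : Module.End ℂ (Fin n → ℂ)) = 1 := by
        have h2 : ρ (signCo0 allOne) * ρ (signCo0 allOne) = 1 := by
          rw [← map_mul, Cfsg.Agent.SporadicA.Co0Mono.signCo0_mul_self, map_one]
        rw [hc, smul_mul_smul_comm, mul_one] at h2
        exact h2
      have hn0 : n ≠ 0 := fun h => h23 (h ▸ dvd_zero _)
      have hne : Nonempty (Fin n) := ⟨⟨0, Nat.pos_of_ne_zero hn0⟩⟩
      have h3 : c * c = 1 := by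
        have h4 := congrArg (fun f : Module.End ℂ (Fin n → ℂ) => f (fun _ => 1) hne.some) h1
        simpa only [_root_.LinearMap.smul_apply, _root_.Module.End.one_apply, _root_.Pi.smul_apply, _root_.smul_eq_mul, _root_.mul_one] using h4
      rcases mul_self_eq_one_iff.1 h3 with h | h
      · exfalso
        apply hzn
        show LinearMap.trace ℂ _ (ρ (signCo0 allOne)) = LinearMap.trace ℂ _ (ρ 1)
        rw [hc, h, one_smul, map_one ρ]
      · show ρ (signCo0 allOne) = -1
        rw [hc, h]
        exact neg_one_smul ℂ (1 : Module.End ℂ (Fin n → ℂ))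
  have h1 := mult_sum0 hodd
  rw [Module.finrank_fin_fun] at h1
  have hb : mB (ρ : Co0 →* _) = 0 := by
    by_contra hb
    have h2 : mB (ρ : Co0 →* _) = 1 := by omega
    have h3 : mA (ρ : Co0 →* _) = 0 := by omega
    rw [h2, h3] at h1
    apply h23
    rw [← h1]
    norm_num
  have ha : mA (ρ : Co0 →* _) ≠ 0 := by
    intro ha
    rw [ha, hb] at h1
    apply h23
    rw [← h1]
    norm_num
  obtain ⟨f, hf0, hf⟩ := exists_nat hodd hb ha
  rw [← char_nat]
  have hi : IsIrrCharacter Co0 nat.character := by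
    rw [char_nat]; exact isIrr_nat
  exact char_eq_of_map hi ⟨n, ρ, hirr, rfl⟩ hf0 hf

/-- **The faithful irreducible characters of `Co0` of degree prime to 23 are the natural one or have degree at
least 2048.** -/
theorem deg2 : Cfsg.Agent.H264.QS.CoSieve.Deg2 2048 := by
  intro χ hz h23
  rcases χ with ⟨χ, n, ρ, hirr, rfl⟩
  have hd : charDegree ρ.character = n := by
    unfold charDegree
    rw [Representation.char_one, Module.finrank_fin_fun]
    exact Nat.floor_natCast n
  by_cases hn : n < 2048
  · exact Or.inl (eq_nu_of_lt hirr hz (by rw [← hd]; exact h23) hn)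
  · right
    show 2048 ≤ charDegree ρ.character
    rw [hd]
    omega

end Cfsg.Agent.H495.QCo.Main
end

-- part: H264/QS/CoSieveFin
section
/-!
# The sieve in `Co0` without hypotheses (helper264, for S2491, S2492)

`isC_bd` : `|C_Co1(mk x)| ≤ c`, `8 t ≤ tr8 x` and `(t, c)` in the table of `CoSieve.isC_of_bd` give `IsC x`.
-/

set_option autoImplicit false

namespace Cfsg.Agent.H264.QS.CoSieve

open Cfsg Subgroup
open Cfsg.Agent.H777.Ore (IsC)
open Cfsg.Agent.Co2Type.Mono (tr8)
open Cfsg.Agent.CoOneType.ClosingFacts (mk)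
open Cfsg.Spor (Co1)

theorem deg1 : Deg1 1782 := Cfsg.Agent.H590.Ore.CoOneDeg.degOff

/-- **The sieve in `Co0`.** -/
theorem isC_bd {x : Co0} {c : ℕ} (hc : Nat.card (centralizer ({_root_.Cfsg.Agent.CoOneType.ClosingFacts.mk x} : Set Co1)) ≤ c) {t : ℤ} (htx : 8 * t ≤ tr8 x)
    (h : (t = 0 ∧ c = 11007) ∨ (t = -1 ∧ c = 10099) ∨ (t = -2 ∧ c = 9245) ∨ (t = -3 ∧ c = 8420) ∨ (t = -4 ∧ c = 7633) ∨
      (t = -5 ∧ c = 6897) ∨ (t = -6 ∧ c = 6183) ∨ (t = -7 ∧ c = 5522) ∨ (t = -8 ∧ c = 4887) ∨ (t = -9 ∧ c = 4294) ∨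
      (t = -10 ∧ c = 3737) ∨ (t = -11 ∧ c = 3222) ∨ (t = -12 ∧ c = 2752) ∨ (t = -13 ∧ c = 2308) ∨
      (t = -14 ∧ c = 1908) ∨ (t = -15 ∧ c = 1544) ∨ (t = -16 ∧ c = 1218)) : IsC x :=
  isC_of_bd deg1 Cfsg.Agent.H495.QCo.Main.deg2 hc htx h

end Cfsg.Agent.H264.QS.CoSieve
end
end

-- part: H868/QS/CoAsm
section
prune_inst 0xd1200960434000000000001080000014040004900000080048a00146008a5202000200000c8008000002000000040000020800000000000000000000000001001000100400000000000010000004000000000000000000000000800000041000008000000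
set_option linter.all false
open scoped Cfsg.Agent.FastGrp

namespace Cfsg.Agent.Co0A_H868_QS_CoAsm

open Cfsg Cfsg.Agent.SporadicA Cfsg.Agent.SporadicStructure.Co0Matrix Cfsg.Agent.CoOneType.CoEval

/-- dot product with two accumulators -/
private noncomputable def dk (r : List ℤ) : List ℤ → ℕ → ℕ → ℤ :=
  List.rec (fun _ P N => Int.subNatNat P N) (fun a _ ih l P N => List.rec (Int.subNatNat P N) (fun b t _ =>
    Int.rec (fun x => Int.rec (fun y => ih t (Nat.add P (Nat.mul x y)) N) (fun y => ih t P (Nat.add N (Nat.mul x (Nat.succ y)))) b)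
      (fun x => Int.rec (fun y => ih t P (Nat.add N (Nat.mul (Nat.succ x) y)))
        (fun y => ih t (Nat.add P (Nat.mul (Nat.succ x) (Nat.succ y))) N) b) a) l) r

private theorem dk_eq : ∀ (r l : List ℤ) (P N : ℕ), dk r l P N = P - N + dotL r l
  | [], l, P, N => by rw [dotL_nil_left, add_zero]; exact Int.subNatNat_eq_coe
  | a :: s, [], P, N => by rw [dotL_nil_right, add_zero]; exact Int.subNatNat_eq_coe
  | .ofNat x :: s, .ofNat y :: t, P, N => (dk_eq s t (P + x * y) N).trans (by
      rw [dotL_cons, Int.ofNat_eq_natCast, Int.ofNat_eq_natCast]; push_cast; ring)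
  | .ofNat x :: s, .negSucc y :: t, P, N => (dk_eq s t P (N + x * (y + 1))).trans (by
      rw [dotL_cons, Int.ofNat_eq_natCast, Int.negSucc_eq]; push_cast; ring)
  | .negSucc x :: s, .ofNat y :: t, P, N => (dk_eq s t P (N + (x + 1) * y)).trans (by
      rw [dotL_cons, Int.ofNat_eq_natCast, Int.negSucc_eq]; push_cast; ring)
  | .negSucc x :: s, .negSucc y :: t, P, N => (dk_eq s t (P + (x + 1) * (y + 1)) N).trans (by
      rw [dotL_cons, Int.negSucc_eq, Int.negSucc_eq]; push_cast; ring)

/-- the columns, packed -/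
private noncomputable def pk (A : List (List ℤ)) : List ℤ :=
  List.rec (List.replicate 24 0) (fun g _ s => List.zipWith (fun a b => a + 187072209578355573530071658587695627230779288774677 * b) g s) A

/-- the offset -/
private noncomputable def off (A : List (List ℤ)) : ℕ :=
  List.rec 0 (fun _ _ s => 46768052394588893382517914646921056628989841375232 + 187072209578355573530071658587695627230779288774677 * s) A

/-- the digits, divided by 8 -/
private noncomputable def unp (A : List (List ℤ)) : ℕ → List ℤ :=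
  List.rec (fun _ => []) (fun _ _ ih P => Int.subNatNat (Nat.div (Nat.mod P (nat_lit 187072209578355573530071658587695627230779288774677))
    (nat_lit 8)) (nat_lit 5846006549323611672814739330865132078623730171904) ::
    ih (Nat.div P (nat_lit 187072209578355573530071658587695627230779288774677))) A

/-- small entries -/
private noncomputable def sm (B : ℕ) (l : List ℤ) : Bool :=
  List.rec true (fun a _ ih => cond (Nat.ble (Int.rec (fun x => x) (fun x => Nat.succ x) a) B) ih false) l

private theorem sm_cons {B : ℕ} {a : ℤ} {l : List ℤ} (h : sm B (a :: l) = true) : |a| ≤ B ∧ sm B l = true := by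
  have h1 : cond (Nat.ble a.natAbs B) (sm B l) false = true := by cases a <;> exact h
  cases h2 : Nat.ble a.natAbs B
  · rw [h2] at h1; exact absurd h1 Bool.false_ne_true
  · rw [h2] at h1
    exact ⟨by rw [Int.abs_eq_natAbs]; exact Int.ofNat_le.2 (Nat.le_of_ble_eq_true h2), h1⟩

private theorem abs_dot {B C : ℕ} : ∀ {l r : List ℤ}, sm B l = true → sm C r = true → |dotL l r| ≤ r.length * (B * C)
  | [], r, _, _ => by rw [dotL_nil_left, abs_zero]; positivity
  | _ :: _, [], _, _ => by rw [dotL_nil_right, abs_zero]; positivity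
  | a :: l, b :: r, h1, h2 => by
    rw [dotL_cons, List.length_cons, Nat.cast_succ, add_mul, one_mul, add_comm _ ((B : ℤ) * C)]
    exact (abs_add_le _ _).trans (add_le_add ((abs_mul a b).trans_le (mul_le_mul (sm_cons h1).1 (sm_cons h2).1 (abs_nonneg _)
      (Int.natCast_nonneg _))) (abs_dot (sm_cons h1).2 (sm_cons h2).2))

private theorem dot_zip (X : ℤ) : ∀ (l g s : List ℤ), g.length = s.length →
    dotL l (List.zipWith (fun a b => a + X * b) g s) = dotL l g + X * dotL l s
  | [], _, _, _ => by rw [dotL_nil_left, dotL_nil_left, dotL_nil_left, mul_zero, add_zero]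
  | _ :: _, [], [], _ => by rw [List.zipWith_nil_left, dotL_nil_right, mul_zero, add_zero]
  | _ :: _, [], _ :: _, h => absurd h.symm (Nat.succ_ne_zero _)
  | _ :: _, _ :: _, [], h => absurd h (Nat.succ_ne_zero _)
  | c :: l, a :: g, b :: s, h => by
    rw [List.zipWith_cons_cons, dotL_cons, dotL_cons, dotL_cons, dot_zip X l g s (Nat.succ.inj h)]; ring

private theorem dot_rep : ∀ (l : List ℤ) (n : ℕ), dotL l (List.replicate n 0) = 0
  | [], _ => dotL_nil_left _
  | _ :: _, 0 => rfl
  | a :: l, n + 1 => by rw [List.replicate_succ, dotL_cons, dot_rep l n, mul_zero, add_zero]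

/-- shape of the matrix -/
private noncomputable def sh (A : List (List ℤ)) : Bool :=
  List.rec true (fun r _ ih => Nat.beq r.length 24 && (sm 1000 r && ih)) A

private theorem unp_eq {l : List ℤ} (hl : sm 1427247692705959881058285969449495136382746624 l = true) : ∀ A : List (List ℤ), sh A = true →
    (pk A).length = 24 ∧ 0 ≤ off A + dotL l (pk A) ∧ ∀ P : ℕ, (P : ℤ) = off A + dotL l (pk A) → unp A P = ap A l
  | [], _ => ⟨rfl, (congrArg (0 + ·) (dot_rep l 24)).ge, fun _ _ => rfl⟩
  | r :: A, h => by
    obtain ⟨h1, h⟩ := Bool.and_eq_true_iff.1 h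
    obtain ⟨h2, h⟩ := Bool.and_eq_true_iff.1 h
    obtain ⟨h3, h4, h5⟩ := unp_eq hl A h
    have h6 := Nat.eq_of_beq_eq_true h1
    have h7 := abs_le.1 (abs_dot hl h2)
    have h8 : (off (r :: A) : ℤ) + dotL l (pk (r :: A)) = dotL l r + 46768052394588893382517914646921056628989841375232 +
        187072209578355573530071658587695627230779288774677 * (off A + dotL l (pk A)) := by
      rw [show dotL l (pk (r :: A)) = _ from dot_zip _ l r (pk A) (h6.trans h3.symm), show off (r :: A) =
        46768052394588893382517914646921056628989841375232 + 187072209578355573530071658587695627230779288774677 * off A from rfl]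
      push_cast
      ring
    rw [h6] at h7
    rw [h8]
    generalize (off A : ℤ) + dotL l (pk A) = z at h4 h5
    refine ⟨(List.length_zipWith.trans (congrArg₂ min h6 h3) :), by omega, fun P hP => congrArg₂ List.cons ?_
      (h5 (P / 187072209578355573530071658587695627230779288774677) (by omega))⟩
    show Int.subNatNat (P % 187072209578355573530071658587695627230779288774677 / 8)
      5846006549323611672814739330865132078623730171904 = dotL l r / 8
    rw [Int.subNatNat_eq_coe]
    (clear * - h7 hP; solve | lia | omega)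

/-- matrix times vector -/
private noncomputable def apF (A : List (List ℤ)) (l : List ℤ) : List ℤ :=
  cond (sh A) (cond (sm 1427247692705959881058285969449495136382746624 l) (Nat.casesOn (motive := fun _ => List ℤ)
    (Int.toNat (dk l (pk A) (off A) 0)) (unp A 0) (fun P => unp A (Nat.succ P))) (ap A l)) (ap A l)

private theorem apF_eq : apF = ap := funext fun A => funext fun l => by
  unfold apF
  cases h1 : sh A
  · rfl
  cases h2 : sm 1427247692705959881058285969449495136382746624 l
  · rfl
  obtain ⟨-, h3, h4⟩ := unp_eq h2 A h1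
  have h5 := h4 (Int.toNat (dk l (pk A) (off A) 0)) (by rw [dk_eq, Nat.cast_zero, sub_zero]; exact Int.toNat_of_nonneg h3)
  generalize Int.toNat (dk l (pk A) (off A) 0) = P at h5
  cases P <;> exact h5

private theorem ap_F : ap = apF := apF_eq.symm

end Cfsg.Agent.Co0A_H868_QS_CoAsm

-- part: H868/QS/CoZL
section
/-!
# `2.Co₁`: the elements over `Z × G₂(4)` (helper868, S2491 / S2492, piece E8d)

The lifts of the letters of `L = G₂(4)` commute with `k`, `u` (a quaternion group over `Z = {1, w, v, wv}`) and with a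
lift of `r`, of order three modulo `Z`.  Hence every element of `Co₀` over `b l`, `b ∈ Z`, `l ∈ L`, is a commutator
(`isC_ZL`), and so is `-1` (`isC_neg`).
-/

set_option autoImplicit false

open Subgroup

namespace Cfsg.Agent.H868.QS

open Cfsg Cfsg.Agent.SporadicA Cfsg.Agent.SporadicA.Co0Mono
open Cfsg.Agent.SporadicA.Co1Simple (allOne)
open Cfsg.Agent.KFacts.Co1D4 Cfsg.Agent.CoOneType
open Cfsg.Agent.CoOneType.ClosingFacts (mk mk_mul mk_inv exists_mk mk_eq_one mk_eq)
open Cfsg.Agent.H777.Ore
open Cfsg.Spor (Co1)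

/-- `-1` -/
noncomputable abbrev n : Co0 := signCo0 allOne

theorem nn : n * n = 1 := signCo0_mul_self _
theorem n_comm : ∀ g : Co0, g * n = n * g := SignFacts.sign_allOne_comm
/-- the lifts of the letters -/
noncomputable def Γ : Subgroup Co0 := _root_.Subgroup.closure (Set.range fun i : Fin 6 => Letters.e i.val)

theorem Γ_comm {g : Co0} (h : ∀ i : Fin 6, Letters.e i.val * g = g * Letters.e i.val) : ∀ γ ∈ Γ, γ * g = g * γ := by
  have h1 : Γ ≤ centralizer ({g} : Set Co0) := by
    unfold Γ
    rw [closure_le]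
    rintro _ ⟨i, rfl⟩
    exact mem_centralizer_singleton_iff.mpr (h i)
  exact fun l hl => mem_centralizer_singleton_iff.mp (h1 hl)

theorem Γk : ∀ γ ∈ Γ, γ * TwoB.k = TwoB.k * γ := Γ_comm fun i => (Letters.e_comm i).1
theorem Γu : ∀ γ ∈ Γ, γ * TwoB.u = TwoB.u * γ := Γ_comm fun i => (Letters.e_comm i).2.1
theorem Γr : ∀ γ ∈ Γ, γ * Letters.e 13 = Letters.e 13 * γ := Γ_comm fun i => (Letters.e_comm i).2.2

/-- the elements of `L` lift to `Γ` -/
theorem exists_Γ {l : Co1} (hl : l ∈ GTwo.L) : ∃ γ ∈ Γ, CoOneType.ClosingFacts.mk γ = l := by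
  have h1 : Γ.map (QuotientGroup.mk' (center Co0)) = GTwo.L := by
    unfold Γ GTwo.L
    rw [MonoidHom.map_closure, ← Set.range_comp]
    rfl
  rw [← h1] at hl
  obtain ⟨γ, hγ, rfl⟩ := hl
  exact ⟨γ, hγ, rfl⟩

/-- the group `⟨k, u, r⟩` -/
noncomputable def S3 : Subgroup Co0 := _root_.Subgroup.closure {TwoB.k, TwoB.u, Letters.e 13}

theorem k_mem : TwoB.k ∈ S3 := _root_.Subgroup.subset_closure (by simp)
theorem u_mem : TwoB.u ∈ S3 := _root_.Subgroup.subset_closure (by simp)
theorem r_mem : Letters.e 13 ∈ S3 := _root_.Subgroup.subset_closure (by simp)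

theorem S3_comm : ∀ s ∈ S3, ∀ γ ∈ Γ, γ * s = s * γ := by
  intro s hs γ hγ
  have h1 : S3 ≤ centralizer ({γ} : Set Co0) := by
    unfold S3
    rw [closure_le]
    rintro x (rfl | rfl | rfl)
    · exact mem_centralizer_singleton_iff.mpr (Γk γ hγ).symm
    · exact mem_centralizer_singleton_iff.mpr (Γu γ hγ).symm
    · exact mem_centralizer_singleton_iff.mpr (Γr γ hγ).symm
  exact (mem_centralizer_singleton_iff.mp (h1 hs)).symm

/-- a commutator of elements of `S3` -/
def CS (q : Co0) : Prop := ∃ a ∈ S3, ∃ b ∈ S3, q = a * b * a⁻¹ * b⁻¹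

theorem kk : TwoB.k * TwoB.k = n := TwoB.k_sq
theorem ku : TwoB.k * TwoB.u = n * (TwoB.u * TwoB.k) := TwoB.ku

theorem cs_one : CS 1 := ⟨1, one_mem _, 1, one_mem _, by simp⟩

theorem cs_neg : CS n := ⟨TwoB.k, k_mem, TwoB.u, u_mem, by rw [ku]; group⟩

/-- a commutator over which both lifts are reached -/
theorem cs_both {a b c q : Co0} (ha : a ∈ S3) (hb : b ∈ S3) (hc : c ∈ S3) (hcb : c * b = n * (b * c))
    (h : CoOneType.ClosingFacts.mk q = CoOneType.ClosingFacts.mk a * CoOneType.ClosingFacts.mk b * (CoOneType.ClosingFacts.mk a)⁻¹ * (CoOneType.ClosingFacts.mk b)⁻¹) : CS q := by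
  have h1 : CoOneType.ClosingFacts.mk q = CoOneType.ClosingFacts.mk (a * b * a⁻¹ * b⁻¹) := by rw [h]; rfl
  rcases (mk_eq _ _).1 h1 with h2 | h2
  · exact ⟨a, ha, b, hb, h2⟩
  · refine ⟨a * c, mul_mem ha hc, b, hb, ?_⟩
    rw [h2]
    calc a * b * a⁻¹ * b⁻¹ * n = n * (a * b * a⁻¹ * b⁻¹) := by rw [← n_comm]
      _ = (n * a) * b * a⁻¹ * b⁻¹ := by group
      _ = (a * n) * b * a⁻¹ * b⁻¹ := by rw [n_comm]
      _ = a * (n * (b * c)) * c⁻¹ * a⁻¹ * b⁻¹ := by group
      _ = a * (c * b) * c⁻¹ * a⁻¹ * b⁻¹ := by rw [hcb]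
      _ = a * c * b * (a * c)⁻¹ * b⁻¹ := by group

theorem uk : TwoB.u * TwoB.k = n * (TwoB.k * TwoB.u) := by
  rw [ku, ← mul_assoc, nn, one_mul]

theorem rw_ : TwoB.r * TwoB.w * TwoB.r⁻¹ = TwoB.v := TwoB.rw_
theorem rv : TwoB.r * TwoB.v * TwoB.r⁻¹ = TwoB.w * TwoB.v := TwoB.rv

theorem cs_w {q : Co0} (h : CoOneType.ClosingFacts.mk q = TwoB.w) : CS q := by
  refine cs_both r_mem u_mem k_mem ku ?_
  show CoOneType.ClosingFacts.mk q = TwoB.r * TwoB.v * TwoB.r⁻¹ * TwoB.v⁻¹
  rw [rv, h]; group

theorem cs_v {q : Co0} (h : CoOneType.ClosingFacts.mk q = TwoB.v) : CS q := by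
  refine cs_both r_mem (mul_mem k_mem u_mem) k_mem ?_ ?_
  · calc TwoB.k * (TwoB.k * TwoB.u) = TwoB.k * (n * (TwoB.u * TwoB.k)) := by rw [ku]
      _ = (TwoB.k * n) * (TwoB.u * TwoB.k) := by group
      _ = (n * TwoB.k) * (TwoB.u * TwoB.k) := by rw [n_comm]
      _ = n * (TwoB.k * TwoB.u * TwoB.k) := by group
  · show CoOneType.ClosingFacts.mk q = TwoB.r * (TwoB.w * TwoB.v) * TwoB.r⁻¹ * (TwoB.w * TwoB.v)⁻¹
    rw [h, show TwoB.r * (TwoB.w * TwoB.v) * TwoB.r⁻¹ = (TwoB.r * TwoB.w * TwoB.r⁻¹) * (TwoB.r * TwoB.v * TwoB.r⁻¹) by group,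
      rw_, rv]
    group

theorem cs_wv {q : Co0} (h : CoOneType.ClosingFacts.mk q = TwoB.w * TwoB.v) : CS q := by
  refine cs_both r_mem k_mem u_mem uk ?_
  show CoOneType.ClosingFacts.mk q = TwoB.r * TwoB.w * TwoB.r⁻¹ * TwoB.w⁻¹
  have hw : TwoB.w⁻¹ = TwoB.w := (inv_eq_of_mul_eq_one_left TwoB.ww :)
  rw [rw_, h, TwoB.wv, hw]

theorem cs {q : Co0} (h : CoOneType.ClosingFacts.mk q = 1 ∨ CoOneType.ClosingFacts.mk q = TwoB.w ∨ CoOneType.ClosingFacts.mk q = TwoB.v ∨ CoOneType.ClosingFacts.mk q = TwoB.w * TwoB.v) : CS q := by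
  rcases h with h | h | h | h
  · rcases (mk_eq_one _).1 h with rfl | rfl
    · exact cs_one
    · exact cs_neg
  · exact cs_w h
  · exact cs_v h
  · exact cs_wv h

theorem allC_L : AllC GTwo.L := by
  have : Fintype (GaloisField 2 2) := Fintype.ofFinite _
  have h4 : Fintype.card (GaloisField 2 2) = 4 := by
    rw [← Nat.card_eq_fintype_card, GaloisField.card 2 2 (by norm_num)]; norm_num
  obtain ⟨e⟩ := StdG24.Iso6.equiv_chev (GaloisField 2 2) h4
  have h : AllC StdG24.Mod6.L := H538.Ore.ore_g2 ⟨GaloisField 2 2, inferInstance, inferInstance, by rw [h4]; norm_num, ⟨e⟩⟩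
  exact AllC.congr GTwo.φ h

/-- **the lifts of the elements of `Z × L`** -/
theorem isC_ZL {x : Co0} {b l : Co1} (hb : b = 1 ∨ b = TwoB.w ∨ b = TwoB.v ∨ b = TwoB.w * TwoB.v) (hl : l ∈ GTwo.L)
    (h : CoOneType.ClosingFacts.mk x = b * l) : IsC x := by
  obtain ⟨c, d, hcd⟩ := allC_L ⟨l, hl⟩
  obtain ⟨γ, hγ, hc⟩ := exists_Γ c.2
  obtain ⟨δ, hδ, hd⟩ := exists_Γ d.2
  have hl' : l = CoOneType.ClosingFacts.mk (γ * δ * γ⁻¹ * δ⁻¹) := by
    have h1 := congrArg (fun y : GTwo.L => (y : Co1)) hcd
    show l = CoOneType.ClosingFacts.mk γ * CoOneType.ClosingFacts.mk δ * (CoOneType.ClosingFacts.mk γ)⁻¹ * (CoOneType.ClosingFacts.mk δ)⁻¹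
    rw [hc, hd]
    exact h1
  set! y : Co0 := γ * δ * γ⁻¹ * δ⁻¹ with hy; rewrite [← hy] at hl'
  have hq : CoOneType.ClosingFacts.mk (x * y⁻¹) = b := by
    rw [mk_mul, mk_inv, ← hl', h, mul_inv_cancel_right]
  obtain ⟨α, hα, β, hβ, hq'⟩ := cs (q := x * y⁻¹) (by rw [hq]; exact hb)
  have h2 := isC_mul_of_commute hq' hy (S3_comm α hα γ hγ).symm (S3_comm α hα δ hδ).symm (S3_comm β hβ γ hγ).symm
    (S3_comm β hβ δ hδ).symm
  rwa [inv_mul_cancel_right] at h2

/-- both lifts of an element of odd order which commutes with `w` -/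
theorem isC_of_mem_L {x : Co0} (h : CoOneType.ClosingFacts.mk x ∈ GTwo.L) : IsC x := (isC_ZL (b := 1) (Or.inl rfl) h (one_mul _).symm :)

end Cfsg.Agent.H868.QS
end

-- part: H868/QS/Eig
section
/-!
# A bound for rational characters (helper868, piece E8d of S2491 / S2492)

`bound` : `χ` a character with rational values, `y = x ^ m` with `y ^ p = 1`, `f` the dimension of the fixed space of `y`:
`(p - 1) |χ x| ≤ (p - 1) f + (χ 1 - f)`.
-/

set_option autoImplicit false

namespace Cfsg.Agent.H868.QS.Eig

open Cfsg Finset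
open Cfsg.Agent.Characters.GaloisBasic (isCharacter_exists_fin_pow)
open Cfsg.Agent.Characters.SchurBound (value_pow)

theorem geom {p : ℕ} {z : ℂ} (hz : z ^ p = 1) : ∑ i ∈ range p, z ^ i = if z = 1 then (p : ℂ) else 0 := by
  split_ifs with h
  · subst h; simp
  · have h1 := mul_geom_sum z p
    rw [hz, sub_self] at h1
    exact (mul_eq_zero.1 h1).resolve_left (sub_ne_zero.2 h)

theorem norm_sum_le_card {d : ℕ} {F : Finset (Fin d)} {a : Fin d → ℂ} (h : ∀ j, ‖a j‖ = 1) : ‖∑ j ∈ F, a j‖ ≤ F.card := by
  refine (norm_sum_le _ _).trans ?_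
  rw [sum_congr rfl fun j _ => h j, sum_const, nsmul_eq_mul, mul_one]

/-- the exponents prime to the order -/
theorem coprime_of {N m p i : ℕ} (hp : p.Prime) (hN : N ∣ m * p) (h : ¬ p ∣ 1 + m * i) : (1 + m * i).Coprime N := by
  refine Nat.coprime_of_dvd fun q hq h1 h2 => ?_
  have h3 : q ∣ m ∨ q ∣ p := (Nat.Prime.dvd_mul hq).1 (h2.trans hN)
  rcases h3 with h3 | h3
  · have h4 : q ∣ 1 := (Nat.dvd_add_left (h3.mul_right i)).1 h1
    exact hq.one_lt.ne' (Nat.dvd_one.1 h4)
  · rw [(Nat.prime_dvd_prime_iff_eq hq hp).1 h3] at h1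
    exact h h1

/-- the exceptional exponent -/
theorem exists_exc {m p : ℕ} (hp : p.Prime) (h : ¬ p ∣ m) : ∃ i₀ < p, ∀ i < p, p ∣ 1 + m * i ↔ i = i₀ := by
  have hfact : Fact p.Prime := ⟨hp⟩
  have hm : (m : ZMod p) ≠ 0 := by rwa [Ne, ZMod.natCast_eq_zero_iff]
  refine ⟨(-(m : ZMod p)⁻¹).val, ZMod.val_lt _, fun i hi => ?_⟩
  rw [← ZMod.natCast_eq_zero_iff]
  push_cast
  constructor
  · intro h1
    have h2 : (i : ZMod p) = -(m : ZMod p)⁻¹ := by
      have h3 : (m : ZMod p) * i = -1 := by linear_combination h1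
      calc (i : ZMod p) = (m : ZMod p)⁻¹ * (m * i) := by rw [← mul_assoc, inv_mul_cancel₀ hm, one_mul]
        _ = -(m : ZMod p)⁻¹ := by rw [h3]; ring
    rw [← h2, ZMod.val_natCast_of_lt hi]
  · rintro rfl
    rw [ZMod.natCast_val, ZMod.cast_id]
    field_simp
    ring

variable {G : Type*} [Group G]

/-- **the bound** -/
theorem bound {χ : G → ℂ} (hχ : IsCharacter G χ) (hq : ∀ g, ∃ q : ℚ, χ g = q) {d : ℕ} (hd : χ 1 = d) {x : G} {N : ℕ}
    (hN : N ≠ 0) (hx : x ^ N = 1) {p m : ℕ} (hp : p.Prime) (hpm : N ∣ m * p) {f : ℕ}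
    (hf : ∑ i ∈ range p, χ (x ^ (m * i)) = p * f) :
    f ≤ d ∧ ((p : ℝ) - 1) * ‖χ x‖ ≤ ((p : ℝ) - 1) * f + (d - f) := by
  classical
  obtain ⟨d', μ, hd', hμ, hk⟩ := isCharacter_exists_fin_pow hχ x hN hx
  have hdd : d' = d := by
    have : (d' : ℂ) = d := by rw [← hd', hd]
    exact_mod_cast this
  subst hdd
  have hp0 : (p : ℂ) ≠ 0 := by exact_mod_cast hp.ne_zero
  have hnorm : ∀ j, ‖μ j‖ = 1 := fun j => Complex.norm_eq_one_of_pow_eq_one (hμ j) hN
  have hnormp : ∀ j (k : ℕ), ‖μ j ^ k‖ = 1 := fun j k => by rw [norm_pow, hnorm, one_pow]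
  have hw : ∀ j, (μ j ^ m) ^ p = 1 := by
    intro j
    obtain ⟨c, hc⟩ := hpm
    rw [← pow_mul, hc, pow_mul, hμ, one_pow]
  set! F : Finset (Fin d') := univ.filter fun j => μ j ^ m = 1 with hF
  have hS : ∀ k : ℕ, ∑ i ∈ range p, χ (x ^ (k + m * i)) = p * ∑ j ∈ F, μ j ^ k := by
    intro k
    calc ∑ i ∈ range p, χ (x ^ (k + m * i)) = ∑ i ∈ range p, ∑ j, μ j ^ k * (μ j ^ m) ^ i := by
          refine sum_congr rfl fun i _ => ?_
          rw [hk]
          refine sum_congr rfl fun j _ => ?_
          rw [pow_add, pow_mul]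
      _ = ∑ j, μ j ^ k * ∑ i ∈ range p, (μ j ^ m) ^ i := by
          rw [sum_comm]
          refine sum_congr rfl fun j _ => ?_
          rw [mul_sum]
      _ = ∑ j, μ j ^ k * (if μ j ^ m = 1 then (p : ℂ) else 0) := by
          refine sum_congr rfl fun j _ => ?_
          rw [geom (hw j)]
      _ = ∑ j ∈ F, μ j ^ k * p := by
          rw [hF, sum_filter]
          refine sum_congr rfl fun j _ => ?_
          split_ifs <;> simp
      _ = p * ∑ j ∈ F, μ j ^ k := by rw [← sum_mul, mul_comm]
  have hcard : F.card = f := by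
    have h1 := hS 0
    simp only [zero_add, pow_zero, sum_const, nsmul_eq_mul, mul_one] at h1
    rw [hf] at h1
    have h2 := mul_left_cancel₀ hp0 h1
    exact_mod_cast h2.symm
  have hfd : f ≤ d' := by
    rw [← hcard]
    exact (card_le_univ F).trans (by rw [Fintype.card_fin])
  refine ⟨hfd, ?_⟩
  have hfd' : (f : ℝ) ≤ d' := by exact_mod_cast hfd
  have hp1 : (1 : ℝ) ≤ p := by exact_mod_cast hp.one_lt.le
  have hS1 : ‖∑ j ∈ F, μ j‖ ≤ f := by
    rw [← hcard]
    exact norm_sum_le_card hnorm
  have h1 := hS 1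
  simp only [pow_one] at h1
  obtain ⟨q, hqx⟩ := hq x
  have hval : ∀ i, ¬ p ∣ 1 + m * i → χ (x ^ (1 + m * i)) = χ x := fun i hi =>
    value_pow hχ x hqx hN hx (coprime_of hp hpm hi)
  by_cases hpd : p ∣ m
  · have h2 : ∀ i, ¬ p ∣ 1 + m * i := by
      intro i hi
      have h4 : p ∣ 1 := (Nat.dvd_add_left (hpd.mul_right i)).1 hi
      exact hp.one_lt.ne' (Nat.dvd_one.1 h4)
    rw [sum_congr rfl fun i _ => hval i (h2 i), sum_const, card_range, nsmul_eq_mul] at h1
    rw [mul_left_cancel₀ hp0 h1]
    nlinarith only [hfd', hp1, hS1]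
  · obtain ⟨i₀, hi₀, hexc⟩ := exists_exc hp hpd
    have h2 : ∑ i ∈ range p, χ (x ^ (1 + m * i)) = (p - 1) * χ x + χ (x ^ (1 + m * i₀)) := by
      rw [← sum_erase_add _ _ (mem_range.2 hi₀)]
      congr 1
      rw [sum_congr rfl fun i hi => hval i (fun h => (mem_erase.1 hi).1 ((hexc i (mem_range.1 (mem_erase.1 hi).2)).1 h)),
        sum_const, card_erase_of_mem (mem_range.2 hi₀), card_range, nsmul_eq_mul, Nat.cast_sub hp.one_lt.le, Nat.cast_one]
    have h3 : χ (x ^ (1 + m * i₀)) = ∑ j ∈ F, μ j + ∑ j ∈ univ \ F, μ j ^ (1 + m * i₀) := by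
      rw [hk, ← sum_sdiff (subset_univ F), add_comm]
      congr 1
      refine sum_congr rfl fun j hj => ?_
      have h4 : μ j ^ m = 1 := (mem_filter.1 hj).2
      rw [pow_add, pow_one, pow_mul, h4, one_pow, mul_one]
    have h4 : ((p : ℂ) - 1) * χ x = (p - 1) * ∑ j ∈ F, μ j - ∑ j ∈ univ \ F, μ j ^ (1 + m * i₀) := by
      rw [h2, h3] at h1
      linear_combination h1
    have h5 : ‖∑ j ∈ univ \ F, μ j ^ (1 + m * i₀)‖ ≤ (d' - f : ℝ) := by
      refine (norm_sum_le_card (F := univ \ F) fun j => hnormp j _).trans ?_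
      rw [card_sdiff_of_subset (subset_univ F), card_univ, Fintype.card_fin, hcard, Nat.cast_sub hfd]
    have h6 : ‖(p : ℂ) - 1‖ = (p : ℝ) - 1 := by
      have : (p : ℂ) - 1 = ((p - 1 : ℝ) : ℂ) := by push_cast; ring
      rw [this, Complex.norm_real, Real.norm_of_nonneg (by linarith only [hp1])]
    calc ((p : ℝ) - 1) * ‖χ x‖ = ‖((p : ℂ) - 1) * χ x‖ := by rw [norm_mul, h6]
      _ ≤ ‖((p : ℂ) - 1) * ∑ j ∈ F, μ j‖ + ‖∑ j ∈ univ \ F, μ j ^ (1 + m * i₀)‖ := by rw [h4]; exact norm_sub_le _ _
      _ ≤ ((p : ℝ) - 1) * f + (d' - f) := by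
          rw [norm_mul, h6]
          have : ((p : ℝ) - 1) * ‖∑ j ∈ F, μ j‖ ≤ ((p : ℝ) - 1) * f := mul_le_mul_of_nonneg_left hS1 (by linarith only [hp1])
          linarith only [h5, this]

/-- **`p ^ 2` divides the order** -/
theorem bound_sq {χ : G → ℂ} (hχ : IsCharacter G χ) (hq : ∀ g, ∃ q : ℚ, χ g = q) {x : G} {N : ℕ}
    (hN : N ≠ 0) (hx : x ^ N = 1) {p m : ℕ} (hp : p.Prime) (hpm : N ∣ m * p) (hpd : p ∣ m) {f : ℕ}
    (hf : ∑ i ∈ range p, χ (x ^ (m * i)) = p * f) : ‖χ x‖ ≤ f := by
  classical
  obtain ⟨d', μ, hd', hμ, hk⟩ := isCharacter_exists_fin_pow hχ x hN hx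
  have hp0 : (p : ℂ) ≠ 0 := by exact_mod_cast hp.ne_zero
  have hnorm : ∀ j, ‖μ j‖ = 1 := fun j => Complex.norm_eq_one_of_pow_eq_one (hμ j) hN
  have hw : ∀ j, (μ j ^ m) ^ p = 1 := by
    intro j
    obtain ⟨c, hc⟩ := hpm
    rw [← pow_mul, hc, pow_mul, hμ, one_pow]
  set! F : Finset (Fin d') := univ.filter fun j => μ j ^ m = 1 with hF
  have hS : ∀ k : ℕ, ∑ i ∈ range p, χ (x ^ (k + m * i)) = p * ∑ j ∈ F, μ j ^ k := by
    intro k
    calc ∑ i ∈ range p, χ (x ^ (k + m * i)) = ∑ i ∈ range p, ∑ j, μ j ^ k * (μ j ^ m) ^ i := by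
          refine sum_congr rfl fun i _ => ?_
          rw [hk]
          refine sum_congr rfl fun j _ => ?_
          rw [pow_add, pow_mul]
      _ = ∑ j, μ j ^ k * ∑ i ∈ range p, (μ j ^ m) ^ i := by
          rw [sum_comm]
          refine sum_congr rfl fun j _ => ?_
          rw [mul_sum]
      _ = ∑ j, μ j ^ k * (if μ j ^ m = 1 then (p : ℂ) else 0) := by
          refine sum_congr rfl fun j _ => ?_
          rw [geom (hw j)]
      _ = ∑ j ∈ F, μ j ^ k * p := by
          rw [hF, sum_filter]
          refine sum_congr rfl fun j _ => ?_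
          split_ifs <;> simp
      _ = p * ∑ j ∈ F, μ j ^ k := by rw [← sum_mul, mul_comm]
  have hcard : F.card = f := by
    have h1 := hS 0
    simp only [zero_add, pow_zero, sum_const, nsmul_eq_mul, mul_one] at h1
    rw [hf] at h1
    have h2 := mul_left_cancel₀ hp0 h1
    exact_mod_cast h2.symm
  have h1 := hS 1
  simp only [pow_one] at h1
  obtain ⟨q, hqx⟩ := hq x
  have hval : ∀ i, ¬ p ∣ 1 + m * i → χ (x ^ (1 + m * i)) = χ x := fun i hi =>
    value_pow hχ x hqx hN hx (coprime_of hp hpm hi)
  have h2 : ∀ i, ¬ p ∣ 1 + m * i := by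
    intro i hi
    have h4 : p ∣ 1 := (Nat.dvd_add_left (hpd.mul_right i)).1 hi
    exact hp.one_lt.ne' (Nat.dvd_one.1 h4)
  rw [sum_congr rfl fun i _ => hval i (h2 i), sum_const, card_range, nsmul_eq_mul] at h1
  rw [mul_left_cancel₀ hp0 h1, ← hcard]
  exact norm_sum_le_card hnorm

end Cfsg.Agent.H868.QS.Eig
end

-- part: H868/QS/CoTr
section
/-!
# Bounds for the trace on the 24-dimensional space (helper868, piece E8d of S2491 / S2492)

* `tr_le` : `y` of odd prime order `p` in `⟨mk x⟩`, `fr y = 2 ^ f`: `(p - 1) |tr8 x| ≤ 8 (24 + (p - 2) f)`;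
* `tr_le_sq` : `h ∈ ⟨mk x⟩`, `h ^ p` of order `p`, `fr (h ^ p) = 2 ^ f`: `|tr8 x| ≤ 8 f`.
-/

set_option autoImplicit false

open Subgroup

namespace Cfsg.Agent.H868.QS

open Cfsg Cfsg.Agent.SporadicA Cfsg.Agent.SporadicA.Co0Mono
open Cfsg.Agent.SporadicA.Co1Simple (allOne)
open Cfsg.Agent.CoOneType
open Cfsg.Agent.CoOneType.ClosingFacts (mk mk_mul mk_inv exists_mk mk_eq_one mk_eq)
open Cfsg.Agent.Co2Type.Mono (tr8)
open Cfsg.Agent.SigZeroCo2.Rank (fix mem_fix)
open Cfsg.Agent.SigZeroCo2.Lin (rep Sp)
open Cfsg.Agent.LThreeMB (fr fr_conj)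
open Cfsg.Spor (Co1)
open Module (finrank)

/-- the character -/
noncomputable def nuC : Co0 → ℂ := fun g => (tr8 g : ℂ) / 8

theorem isCharacter_nuC : IsCharacter Co0 nuC := H419.LeechIrr.isCharacter_lchi (MonoidHom.id Co0)

theorem rat_nuC (g : Co0) : ∃ q : ℚ, nuC g = q := ⟨(tr8 g : ℚ) / 8, by unfold nuC; push_cast; rfl⟩

theorem nuC_one : nuC 1 = (24 : ℕ) := by
  unfold nuC
  rw [SigZeroCo2.Lin.tr8_one]
  norm_num

theorem norm_nuC (g : Co0) : ‖nuC g‖ = |(tr8 g : ℝ)| / 8 := by
  unfold nuC
  rw [norm_div]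
  have h1 : (tr8 g : ℂ) = ((tr8 g : ℝ) : ℂ) := by push_cast; rfl
  rw [h1, Complex.norm_real, Real.norm_eq_abs]
  norm_num

theorem mk_pow (a : Co0) (k : ℕ) : CoOneType.ClosingFacts.mk (a ^ k) = CoOneType.ClosingFacts.mk a ^ k := rfl

/-- the power of `x` over a power of `mk x` of odd order -/
theorem exists_exp {x : Co0} {y : Co1} {p k : ℕ} (hp : Odd p) (hy : y ^ p = 1) (hk : CoOneType.ClosingFacts.mk x ^ k = y) :
    CoOneType.ClosingFacts.mk (x ^ (k * (p + 1))) = y ∧ x ^ (k * (p + 1) * p) = 1 := by
  obtain ⟨c, hc⟩ := hp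
  constructor
  · rw [mk_pow, pow_mul, hk, pow_succ, hy, one_mul]
  · have h1 : CoOneType.ClosingFacts.mk (x ^ (k * p)) = 1 := by rw [mk_pow, pow_mul, hk, hy]
    rw [show k * (p + 1) * p = k * p * 2 * (c + 1) by rw [hc]; ring, pow_mul, pow_mul]
    rcases (mk_eq_one _).1 h1 with h | h
    · rw [h, one_pow, one_pow]
    · rw [h, pow_two, signCo0_mul_self, one_pow]

theorem exists_nat_pow {g y : Co1} (h : y ∈ zpowers g) : ∃ k : ℕ, g ^ k = y := by
  have : Finite Co1 := H264.QS.CoSieve.finite_co1
  obtain ⟨k, hk⟩ := (mem_powers_iff_mem_zpowers (x := g) (y := y)).2 h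
  exact ⟨k, hk⟩

/-- the average of the traces of the powers -/
theorem sum_eq {z : Co0} {p f : ℕ} (hp : Odd p) (hz : z ^ p = 1) (hf : fr (CoOneType.ClosingFacts.mk z) = 2 ^ f) :
    ∑ i ∈ Finset.range p, nuC (z ^ i) = p * f := by
  have h0 : p ≠ 0 := by rintro rfl; exact absurd hp (by decide)
  have h1 := CoFive.FixRank.fr_eq hp hz
  have h2 : finrank ℚ (fix (rep z)) = f := by
    have h3 : (2 : ℕ) ^ finrank ℚ (fix (rep z)) = 2 ^ f := by rw [← h1]; exact hf
    exact Nat.pow_right_injective le_rfl h3
  have h4 := CoFive.FixRank.mul_finrank h0 hz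
  rw [h2] at h4
  have h5 : ((8 * (p : ℤ) * f : ℤ) : ℂ) = ((∑ i ∈ Finset.range p, tr8 (z ^ i) : ℤ) : ℂ) := by rw [h4]
  push_cast at h5
  unfold nuC
  rw [← Finset.sum_div, ← h5]
  ring

/-- **the first bound** -/
theorem tr_le {x : Co0} {y : Co1} {p f : ℕ} (hp : p.Prime) (hp2 : p ≠ 2) (hy : orderOf y = p) (hyx : y ∈ zpowers (CoOneType.ClosingFacts.mk x))
    (hf : fr y = 2 ^ f) : f ≤ 24 ∧ ((p : ℤ) - 1) * |tr8 x| ≤ 8 * (24 + ((p : ℤ) - 2) * f) := by
  have := CpAutBig.CoZero.finite_co0
  have hodd : Odd p := hp.odd_of_ne_two hp2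
  obtain ⟨k, hk⟩ := exists_nat_pow hyx
  obtain ⟨h1, h2⟩ := exists_exp hodd (by rw [← hy, pow_orderOf_eq_one]) hk
  have hN : orderOf x ≠ 0 := (orderOf_pos x).ne'
  obtain ⟨h3, h4⟩ := Eig.bound isCharacter_nuC rat_nuC nuC_one hN (pow_orderOf_eq_one x) (p := p) (m := k * (p + 1)) hp
    (orderOf_dvd_of_pow_eq_one h2) (f := f) (by
      have h5 := sum_eq (z := x ^ (k * (p + 1))) (p := p) (f := f) hodd (by rw [← pow_mul]; exact h2) (by rw [h1]; exact hf)
      rw [← h5]
      exact Finset.sum_congr rfl fun i _ => by rw [pow_mul])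
  refine ⟨h3, ?_⟩
  rw [norm_nuC] at h4
  have h5 : (((p : ℤ) - 1) * |tr8 x| : ℝ) ≤ (8 * (24 + ((p : ℤ) - 2) * f) : ℝ) := by
    push_cast at h4 ⊢
    linarith only [h4]
  exact_mod_cast h5

/-- **the second bound** -/
theorem tr_le_sq {x : Co0} {h : Co1} {p f : ℕ} (hp : p.Prime) (hp2 : p ≠ 2) (hy : (h ^ p) ^ p = 1) (hyx : h ∈ zpowers (CoOneType.ClosingFacts.mk x))
    (hf : fr (h ^ p) = 2 ^ f) : |tr8 x| ≤ 8 * f := by
  have := CpAutBig.CoZero.finite_co0
  have hodd : Odd p := hp.odd_of_ne_two hp2
  obtain ⟨k, hk⟩ := exists_nat_pow hyx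
  obtain ⟨h1, h2⟩ := exists_exp (k := k * p) hodd hy (by rw [pow_mul, hk])
  have hN : orderOf x ≠ 0 := (orderOf_pos x).ne'
  have h4 := Eig.bound_sq isCharacter_nuC rat_nuC hN (pow_orderOf_eq_one x) (p := p) (m := k * p * (p + 1)) hp
    (orderOf_dvd_of_pow_eq_one h2) ⟨k * (p + 1), by ring⟩ (f := f) (by
      have h5 := sum_eq (z := x ^ (k * p * (p + 1))) (p := p) (f := f) hodd (by rw [← pow_mul]; exact h2)
        (by rw [h1]; exact hf)
      rw [← h5]
      exact Finset.sum_congr rfl fun i _ => by rw [pow_mul])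
  rw [norm_nuC] at h4
  have h5 : (|tr8 x| : ℝ) ≤ (8 * f : ℝ) := by linarith only [h4]
  exact_mod_cast h5

/-! ### the primes -/

theorem tr_five {x : Co0} {y : Co1} (hy : orderOf y = 5) (hyx : y ∈ zpowers (CoOneType.ClosingFacts.mk x)) :
    (fr y = 1 ∧ 8 * (-6) ≤ tr8 x) ∨ (fr y = 2 ^ 4 ∧ 8 * (-9) ≤ tr8 x) ∨ (fr y = 2 ^ 8 ∧ 8 * (-12) ≤ tr8 x) := by
  rcases CoFive.Ranks.ranks y hy with h | h | h
  · obtain ⟨-, h1⟩ := tr_le (p := 5) (f := 0) (by norm_num) (by norm_num) hy hyx (by rw [h, pow_zero])
    refine Or.inl ⟨h, ?_⟩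
    have := neg_abs_le (tr8 x)
    push_cast at h1
    omega
  · obtain ⟨-, h1⟩ := tr_le (p := 5) (f := 4) (by norm_num) (by norm_num) hy hyx h
    refine Or.inr (Or.inl ⟨h, ?_⟩)
    have := neg_abs_le (tr8 x)
    push_cast at h1
    omega
  · obtain ⟨-, h1⟩ := tr_le (p := 5) (f := 8) (by norm_num) (by norm_num) hy hyx h
    refine Or.inr (Or.inr ⟨h, ?_⟩)
    have := neg_abs_le (tr8 x)
    push_cast at h1
    omega

theorem tr_seven {x : Co0} {y : Co1} (hy : orderOf y = 7) (hyx : y ∈ zpowers (CoOneType.ClosingFacts.mk x)) : 8 * (-9) ≤ tr8 x := by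
  have hab := neg_abs_le (tr8 x)
  rcases CpAutMSeven.RanksH.main hy with h | ⟨-, h⟩
  · obtain ⟨-, h1⟩ := tr_le (p := 7) (f := 0) (by norm_num) (by norm_num) hy hyx (by rw [h, pow_zero])
    push_cast at h1
    omega
  · obtain ⟨-, h1⟩ := tr_le (p := 7) (f := 6) (by norm_num) (by norm_num) hy hyx h
    push_cast at h1
    omega

theorem exists_fr {y : Co1} {p : ℕ} (hp : Odd p) (hy : orderOf y = p) : ∃ f : ℕ, fr y = 2 ^ f := by
  obtain ⟨a, ha, hap⟩ := LThreeBX.NoSeven.exists_odd hp (show y ^ p = 1 by rw [← hy, pow_orderOf_eq_one])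
  exact ⟨finrank ℚ (fix (rep a)), by rw [← ha]; exact CoFive.FixRank.fr_eq hp hap⟩

theorem tr_eleven {x : Co0} {y : Co1} (hy : orderOf y = 11) (hyx : y ∈ zpowers (CoOneType.ClosingFacts.mk x)) : 8 * (-6) ≤ tr8 x := by
  have hab := neg_abs_le (tr8 x)
  obtain ⟨f, hf⟩ := exists_fr (by decide) hy
  have h4 : f ≤ 4 := by
    have h1 := BpSpor.MBigCo.fr_le hy
    rw [hf] at h1
    exact (Nat.pow_le_pow_iff_right (by norm_num)).1 h1
  obtain ⟨-, h1⟩ := tr_le (p := 11) (f := f) (by norm_num) (by norm_num) hy hyx hf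
  push_cast at h1
  have h5 : (f : ℤ) ≤ 4 := by exact_mod_cast h4
  omega

theorem tr_thirteen {x : Co0} {y : Co1} (hy : orderOf y = 13) (hyx : y ∈ zpowers (CoOneType.ClosingFacts.mk x)) : 8 * (-2) ≤ tr8 x := by
  have hab := neg_abs_le (tr8 x)
  obtain ⟨-, h1⟩ := tr_le (p := 13) (f := 0) (by norm_num) (by norm_num) hy hyx
    (by rw [BpSpor.MBigCo.fr_thirteen hy, pow_zero])
  push_cast at h1
  omega

theorem tr_23 {x : Co0} {y : Co1} (hy : orderOf y = 23) (hyx : y ∈ zpowers (CoOneType.ClosingFacts.mk x)) : 8 * (-3) ≤ tr8 x := by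
  have hab := neg_abs_le (tr8 x)
  obtain ⟨f, hf⟩ := exists_fr (by decide) hy
  have h4 : f ≤ 2 := by
    have h1 := H451.Weak.MCo.fr_le hy
    rw [hf] at h1
    exact (Nat.pow_le_pow_iff_right (by norm_num)).1 h1
  obtain ⟨-, h1⟩ := tr_le (p := 23) (f := f) (by norm_num) (by norm_num) hy hyx hf
  push_cast at h1
  have h5 : (f : ℤ) ≤ 2 := by exact_mod_cast h4
  omega

/-- order three with 256 fixed points -/
theorem tr_three {x : Co0} {y : Co1} (hy : orderOf y = 3) (hyx : y ∈ zpowers (CoOneType.ClosingFacts.mk x)) (hf : fr y = 2 ^ 8) :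
    8 * (-16) ≤ tr8 x := by
  have hab := neg_abs_le (tr8 x)
  obtain ⟨-, h1⟩ := tr_le (p := 3) (f := 8) (by norm_num) (by norm_num) hy hyx hf
  push_cast at h1
  omega

/-- order nine -/
theorem tr_nine {x : Co0} {h : Co1} (hh : orderOf h = 9) (hhx : h ∈ zpowers (CoOneType.ClosingFacts.mk x)) :
    (fr (h ^ 3) = 1 ∧ 8 * 0 ≤ tr8 x) ∨ (fr (h ^ 3) = 2 ^ 6 ∧ 8 * (-6) ≤ tr8 x) ∨ (fr (h ^ 3) = 2 ^ 8 ∧ 8 * (-8) ≤ tr8 x) ∨
      (fr (h ^ 3) = 2 ^ 12 ∧ 8 * (-12) ≤ tr8 x) := by
  have hab := neg_abs_le (tr8 x)
  have h3 : orderOf (h ^ 3) = 3 := by rw [orderOf_pow_of_dvd (by norm_num) (by rw [hh]; norm_num), hh]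
  have h33 : (h ^ 3) ^ 3 = 1 := by rw [← pow_mul, show 3 * 3 = 9 by norm_num, ← hh, pow_orderOf_eq_one]
  rcases LThreeCo1.Ranks.ranks (h ^ 3) h3 with h4 | h4 | h4 | h4
  · have h1 := tr_le_sq (p := 3) (f := 0) (by norm_num) (by norm_num) h33 hhx (by rw [h4, pow_zero])
    refine Or.inl ⟨h4, ?_⟩
    push_cast at h1
    omega
  · have h1 := tr_le_sq (p := 3) (f := 6) (by norm_num) (by norm_num) h33 hhx h4
    refine Or.inr (Or.inl ⟨h4, ?_⟩)
    push_cast at h1
    omega
  · have h1 := tr_le_sq (p := 3) (f := 8) (by norm_num) (by norm_num) h33 hhx h4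
    refine Or.inr (Or.inr (Or.inl ⟨h4, ?_⟩))
    push_cast at h1
    omega
  · have h1 := tr_le_sq (p := 3) (f := 12) (by norm_num) (by norm_num) h33 hhx h4
    refine Or.inr (Or.inr (Or.inr ⟨h4, ?_⟩))
    push_cast at h1
    omega

end Cfsg.Agent.H868.QS
end

-- part: H868/QS/CoTrW
section
/-!
# `2.Co₁`: the trace of the elements with a power `w` (helper868, S2491 / S2492)

`tr_w` : if `w ∈ ⟨mk x⟩` then `x ^ (1 + 2 j) = -x` for some `j`, `1 + 2 j` prime to the order `4 j`: `tr8 x = 0`.
-/

set_option autoImplicit false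

open Subgroup

namespace Cfsg.Agent.H868.QS

open Cfsg Cfsg.Agent.SporadicA Cfsg.Agent.SporadicA.Co0Mono
open Cfsg.Agent.SporadicA.Co1Simple (allOne)
open Cfsg.Agent.KFacts.Co1D4 Cfsg.Agent.CoOneType
open Cfsg.Agent.CoOneType.ClosingFacts (mk mk_mul mk_inv exists_mk mk_eq_one mk_eq)
open Cfsg.Agent.Co2Type.Mono (tr8)
open Cfsg.Agent.Characters.SchurBound (value_pow)
open Cfsg.Spor (Co1)

theorem tr8_mul_n (g : Co0) : tr8 (g * n) = - tr8 g := by
  have h := H630.Ore.Co1.Tr.tr8_neg g
  rwa [TwoB.negCo0_eq] at h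

/-- **the trace is zero** -/
theorem tr_w {x : Co0} (h : TwoB.w ∈ zpowers (CoOneType.ClosingFacts.mk x)) : tr8 x = 0 := by
  obtain ⟨j, hj⟩ := exists_nat_pow h
  have hj0 : j ≠ 0 := by
    rintro rfl
    rw [pow_zero] at hj
    exact TwoB.w_ne hj.symm
  have h1 : x ^ j * x ^ j = n := by
    have h2 : CoOneType.ClosingFacts.mk (x ^ j) = CoOneType.ClosingFacts.mk TwoB.k := by rw [mk_pow, hj]
    rcases (mk_eq _ _).1 h2 with h3 | h3
    · rw [h3, kk]
    · rw [h3]
      calc TwoB.k * n * (TwoB.k * n) = TwoB.k * (n * TwoB.k) * n := by group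
        _ = TwoB.k * (TwoB.k * n) * n := by rw [← n_comm]
        _ = (TwoB.k * TwoB.k) * (n * n) := by group
        _ = n := by rw [kk, nn, mul_one]
  have h4 : x ^ (2 * j) = n := by rw [two_mul, pow_add, h1]
  have h5 : x ^ (4 * j) = 1 := by
    rw [show 4 * j = 2 * j + 2 * j by ring, pow_add, h4, nn]
  obtain ⟨q, hq⟩ := rat_nuC x
  have hco : (1 + 2 * j).Coprime (4 * j) := by
    refine Nat.Coprime.symm (Nat.Coprime.mul_left ?_ ?_)
    · have h6 : Nat.Coprime 2 (1 + 2 * j) := (Nat.coprime_two_left).2 ⟨j, by ring⟩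
      exact Nat.Coprime.pow_left 2 h6
    · rw [add_comm, Nat.coprime_mul_right_add_right]
      exact Nat.coprime_one_right j
  have h6 := value_pow isCharacter_nuC x hq (N := 4 * j) (by omega) h5 hco
  rw [pow_add, pow_one, h4] at h6
  unfold nuC at h6
  rw [tr8_mul_n] at h6
  have h7 : ((-tr8 x : ℤ) : ℂ) = ((tr8 x : ℤ) : ℂ) := by
    have h8 : (8 : ℂ) ≠ 0 := by norm_num
    exact (div_left_inj' h8).1 h6
  have h8 : -tr8 x = tr8 x := by exact_mod_cast h7
  omega

end Cfsg.Agent.H868.QS
end

-- part: H868/QS/CoEven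
section
/-!
# Elements of order three of `Co₁` commute with an involution (helper868, piece E8d of S2491 / S2492)
-/

set_option autoImplicit false

open Subgroup

namespace Cfsg.Agent.H868.QS

open Cfsg Cfsg.Agent.SporadicStructure.Co0Matrix Cfsg.Agent.CoOneType.CoEval
open Cfsg.Agent.LThreeMB (fr fr_conj ClassOf)
open Cfsg.Agent.LThreeCo1.Ev Cfsg.Agent.LThreeCo1.Class Cfsg.Agent.LThreeCo1.Rel Cfsg.Agent.LThreeCo1.AGrp
open Cfsg.Agent.LThreeCo1.Ranks
open Cfsg.Agent.CoOneType.ClosingFacts (mk)
open Cfsg.Spor (Co1)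

namespace Even

/-- the value of a word -/
noncomputable def vl (w : List ℕ) : Co1 := ((w.map fun i => pr (e i)).prod :)

theorem vl_append (u v : List ℕ) : vl (u ++ v) = vl u * vl v := by
  rw [vl, vl, vl, List.map_append, List.prod_append]

theorem vl_rep (w : List ℕ) (n : ℕ) : vl (List.replicate n w).flatten = vl w ^ n := by
  induction n with
  | zero => simp [vl]
  | succ n ih => rw [List.replicate_succ, List.flatten_cons, vl_append, ih, pow_succ']

/-- a commuting element of order two -/
def EvC (s : Co1) : Prop := ∃ t : Co1, orderOf t = 2 ∧ t * s = s * t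

theorem EvC.conj {s : Co1} (h : EvC s) (g : Co1) : (EvC (g * s * g⁻¹) :) := by
  obtain ⟨t, ht, hts⟩ := h
  refine ⟨g * t * g⁻¹, ?_, ?_⟩
  · rw [← ht]
    exact MulEquiv.orderOf_eq (MulAut.conj g) t
  · calc g * t * g⁻¹ * (g * s * g⁻¹) = g * (t * s) * g⁻¹ := by group
      _ = g * (s * t) * g⁻¹ := by rw [hts]
      _ = g * s * g⁻¹ * (g * t * g⁻¹) := by group

/-- the check -/
theorem evC_of {w c : List ℕ} {n : ℕ} (h1 : sameB M (w ++ c) (c ++ w) = true)
    (k : (neB M (List.replicate n w).flatten &&
      (eqL (fold M (List.replicate n w).flatten (fold M (List.replicate n w).flatten betaL)) betaL ||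
      eqL (fold M (List.replicate n w).flatten (fold M (List.replicate n w).flatten betaL)) negbetaL)) = true) :
    EvC (vl c) := by
  obtain ⟨h3, k2⟩ := Bool.and_eq_true_iff.1 k
  have k3 : fold M (List.replicate n w).flatten (fold M (List.replicate n w).flatten betaL) =
      fold M (List.replicate (2 * n) w).flatten betaL := by
    rw [two_mul, List.replicate_add, List.flatten_append]
    exact List.foldr_append.symm
  rw [k3] at k2
  have h2 : vl (List.replicate (2 * n) w).flatten = 1 := by
    rw [vl, map_prod_pr]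
    rcases Bool.or_eq_true_iff.1 k2 with k | k
    · rw [eq_one_of_oneB rep k]
      exact (map_one (QuotientGroup.mk' (Subgroup.center Co0)) :)
    · rw [eq_neg_of_negB rep k, pr_neg]
  have hc : vl w * vl c = vl c * vl w := by
    rw [← vl_append, ← vl_append]
    exact eq_of_sameB rep h1
  refine ⟨vl w ^ n, ?_, ((show Commute (vl w) (vl c) from hc).pow_left n).eq⟩
  refine orderOf_eq_prime (p := 2) ?_ ?_
  · rw [← pow_mul, mul_comm n 2, ← vl_rep]
    exact h2
  · rw [← vl_rep]
    exact ne_one_of_neB rep h3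

theorem vl_c6 : vl (wd 79) = CoOneType.ClosingFacts.mk c6 := (map_prod_pr e _).trans (congrArg pr w79)
theorem vl_c12 : vl (wd 4) = CoOneType.ClosingFacts.mk c12 := (map_prod_pr e _).trans (congrArg pr w4)

theorem ev_c6 : EvC (CoOneType.ClosingFacts.mk c6) := by
  rw [← vl_c6]
  exact evC_of (w := [8, 11, 11, 8, 8, 11, 8]) (n := 12) (by (delta Cfsg.Agent.CoOneType.CoEval.fold Cfsg.Agent.CoOneType.CoEval.sameB; rewrite [Cfsg.Agent.Co0A_H868_QS_CoAsm.ap_F]; decide +kernel)) (by (delta Cfsg.Agent.CoOneType.CoEval.fold Cfsg.Agent.CoOneType.CoEval.neB; rewrite [Cfsg.Agent.Co0A_H868_QS_CoAsm.ap_F]; decide +kernel))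

theorem ev_c12 : EvC (CoOneType.ClosingFacts.mk c12) := by
  rw [← vl_c12]
  exact evC_of (w := [7, 11, 7, 11]) (n := 6) (by (delta Cfsg.Agent.CoOneType.CoEval.fold Cfsg.Agent.CoOneType.CoEval.sameB; rewrite [Cfsg.Agent.Co0A_H868_QS_CoAsm.ap_F]; decide +kernel)) (by (delta Cfsg.Agent.CoOneType.CoEval.fold Cfsg.Agent.CoOneType.CoEval.neB; rewrite [Cfsg.Agent.Co0A_H868_QS_CoAsm.ap_F]; decide +kernel))

theorem order_mk {c : Co0} (hc : orderOf c = 3) : orderOf (CoOneType.ClosingFacts.mk c) = 3 := by
  refine orderOf_eq_prime (p := 3) ?_ ?_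
  · have h : c ^ 3 = 1 := by rw [← hc, pow_orderOf_eq_one]
    show CoOneType.ClosingFacts.mk (c ^ 3) = 1
    rw [h]; rfl
  · intro h
    rcases (CoOneType.ClosingFacts.mk_eq_one c).1 h with h1 | h1
    · rw [h1, orderOf_one] at hc
      norm_num at hc
    · have h2 : c ^ 2 = 1 := by rw [h1, pow_two]; exact SporadicA.Co0Mono.signCo0_mul_self _
      have h3 := orderOf_dvd_of_pow_eq_one h2
      rw [hc] at h3
      norm_num at h3

open KFacts.Co1D4 H630.Ore.Co1.LThree

theorem orderOf_w : orderOf TwoB.w = 2 := orderOf_eq_prime (p := 2) (by rw [pow_two, TwoB.ww]) TwoB.w_ne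

theorem evC_L {s : Co1} (h : s ∈ GTwo.L) : EvC s := ⟨TwoB.w, orderOf_w, (TwoB.Lw s h).symm⟩

/-- **elements of order three commute with an involution** -/
theorem evC {s : Co1} (hs : orderOf s = 3) : EvC s := by
  have key : ∀ {n : ℕ} {t : Co1}, ClassOf n → orderOf t = 3 → fr t = n → fr s = n → EvC t → EvC s := by
    intro n t hC ht hft hfs h
    obtain ⟨g, hg⟩ := hC t s ht hs hft hfs
    rw [← hg]
    exact h.conj g
  have h3 : ∀ {l : List ℕ}, H630.Ore.Co1.LThree.F (Letters.val l) → Letters.val l ≠ 1 → orderOf (Letters.val l) = 3 :=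
    fun h h1 => order_three h.1 h1
  have hz1 : fr (Letters.val wc) = 1 := by
    have ho := order_three F_z.1 z_ne
    rw [val_eq_mk] at ho ⊢
    exact H630.Ore.Co1.Tr.fr_of_96 ho (by rw [PreUniqCo.TrWord.tr8_word Letters.hM, pc])
  have hx8 : fr (Letters.val wa) = 2 ^ 8 := by
    have ho := order_three F_x.1 x_ne
    rw [val_eq_mk] at ho ⊢
    exact H630.Ore.Co1.Tr.fr_of_zero ho (by rw [PreUniqCo.TrWord.tr8_word Letters.hM, pa])
  rcases ranks s hs with h | h | h | h
  · exact key zero (h3 F_z z_ne) hz1 h (evC_L z_mem)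
  · exact key six (order_mk order_c6) fr_c6 h ev_c6
  · exact key eight (h3 F_x x_ne) hx8 h (evC_L x_mem)
  · exact key twelve (order_mk order_c12) fr_c12 h ev_c12

end Even

end Cfsg.Agent.H868.QS
end

-- part: H868/QS/CoNine
section
/-!
# `Co1`: elements whose order is divisible by nine (helper868, piece E8d of S2491 / S2492)

`nine_pgroup` : an involution not conjugate to `w` commutes with `g`, or `C(g)` is a 3-group.
-/

set_option autoImplicit false

namespace Cfsg.Agent.H868.QS

open Cfsg Subgroup Module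
open Cfsg.Agent.H868.Ore.Co1
open Cfsg.Agent.SigZeroCo2.Rank (fix mem_fix)
open Cfsg.Agent.SigZeroCo2.Lin (rep Sp)
open Cfsg.Agent.SporadicA.Co0Mono Cfsg.Agent.SporadicA.Co1Simple
open Cfsg.Agent.CoOneType.ClosingFacts (mk mk_mul mk_inv exists_mk mk_eq_one mk_eq)
open Cfsg.Agent.LThreeMB (fr XX Zx)
open Cfsg.Agent.H55.CoOneBd (card_co1 card_cent_dvd exists_lift finite_co1)
open Cfsg.Agent.KFacts.Co1D4
open Cfsg.Spor (Co1)

/-- **elements whose order is divisible by nine** -/
theorem nine_pgroup {g : Co1} (h9 : 9 ∣ orderOf g) :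
    (∃ t : Co1, orderOf t = 2 ∧ t * g = g * t ∧ ¬ IsConj TwoB.w t) ∨
      IsPGroup 3 (centralizer ({g} : Set Co1)) := by
  have := finite_co1
  obtain ⟨m, hm⟩ := h9
  have hm0 : m ≠ 0 := by
    rintro rfl
    have := (orderOf_pos g :)
    omega
  have hx : orderOf (g ^ m) = 9 := by
    rw [orderOf_pow_of_dvd hm0 ⟨9, by rw [hm, mul_comm]⟩, hm]
    exact Nat.mul_div_cancel _ (Nat.pos_of_ne_zero hm0)
  have hxg : g ^ m ∈ zpowers g := ⟨m, by simp⟩
  rcases step hxg (fun x' hxx' hc => no_w_nine (x := x') (by
      obtain ⟨c, hc⟩ := isConj_iff.1 hxx'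
      rw [← hx, ← hc]
      exact MulEquiv.orderOf_eq (MulAut.conj c) _) hc) with h | h2
  · exact Or.inl h
  right
  have h0 : Nat.card (centralizer ({g} : Set Co1)) ≠ 0 := Nat.card_pos.ne'
  -- primes
  have hprime : ∀ p : ℕ, p.Prime → (∀ y : Co1, orderOf y = p → g ^ m * y = y * g ^ m → False) →
      ¬ p ∣ Nat.card (centralizer ({g} : Set Co1)) := by
    intro p hp hno hd
    have : Fact p.Prime := ⟨hp⟩
    obtain ⟨y, hy⟩ := exists_prime_orderOf_dvd_card' (G := centralizer ({g} : Set Co1)) p hd
    have hyg := mem_centralizer_singleton_iff.1 y.2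
    exact hno y ((orderOf_coe y).trans hy) ((show Commute g (y : Co1) from hyg.symm).pow_left m)
  have hp5 := hprime 5 (by norm_num) fun y hy hc => no_five_nine hx hy hc
  have hp7 := hprime 7 (by norm_num) fun y hy hc => H713.B0R.CoOne.co1_no hy hx hc.symm
  have hp13 := hprime 13 (by norm_num) fun y hy hc => by
    obtain ⟨a, rfl, ha5, ha⟩ := exists_lift (by norm_num) (by norm_num) hy
    obtain ⟨b, hb1, hb⟩ := exists_lift' (by decide : Odd 9) hx
    rw [← hb1] at hc
    exact H518.Co13.no_nine ha hb (LThreeBX.NoSeven.comm_of_mk (by decide : Odd 13) ha5 hc.symm).symm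
  have hbig : ∀ (p B : ℕ) (y : Co1), p.Prime → p ≠ 3 → orderOf y = p → B < p * 9 →
      H55.CoOneBd.OddLe (Nat.card (centralizer ({y} : Set Co1))) B → p ≠ 2 → g ^ m * y = y * g ^ m → False := by
    rintro p B y hp hp3 hy hB ⟨k, hk0, hkB, hk⟩ hp2 hc
    have h3 : 9 ∣ Nat.card (centralizer ({y} : Set Co1)) := by
      rw [← hx, ← orderOf_mk (g ^ m) (mem_centralizer_singleton_iff.2 hc : g ^ m ∈ centralizer ({y} : Set Co1))]
      exact _root_.orderOf_dvd_natCard _
    have h4 : p ∣ Nat.card (centralizer ({y} : Set Co1)) := by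
      rw [← hy, ← orderOf_mk y (mem_centralizer_singleton_iff.2 rfl : y ∈ centralizer ({y} : Set Co1))]
      exact _root_.orderOf_dvd_natCard _
    have hcop : Nat.Coprime p 9 := by
      rw [show (9 : ℕ) = 3 ^ 2 by norm_num]
      exact Nat.Coprime.pow_right 2 ((Nat.coprime_primes hp Nat.prime_three).2 hp3)
    have h5 : p * 9 ∣ 2 ^ 22 * k := (hcop.mul_dvd_of_dvd_of_dvd h4 h3).trans hk
    have h6 : Nat.Coprime (p * 9) (2 ^ 22) := by
      refine Nat.Coprime.pow_right 22 (Nat.Coprime.mul_left ?_ (by norm_num))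
      exact (Nat.coprime_primes hp Nat.prime_two).2 hp2
    have h7 := Nat.le_of_dvd (Nat.pos_of_ne_zero hk0) (h6.dvd_of_dvd_mul_left h5)
    omega
  have hp11 := hprime 11 (by norm_num) fun y hy hc => hbig 11 33 y (by norm_num) (by norm_num) hy (by norm_num)
    (H55.CoOneBd.bd_eleven hy) (by norm_num) hc
  have hp23 := hprime 23 (by norm_num) fun y hy hc => hbig 23 46 y (by norm_num) (by norm_num) hy (by norm_num)
    (H55.CoOneBd.bd_23 hy) (by norm_num) hc
  have hd : Nat.card (centralizer ({g} : Set Co1)) ∣ 4157776806543360000 := by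
    rw [← card_co1]; exact Subgroup.card_subgroup_dvd_card _
  have h1 := H813.CoSevenCard.reduce (p := 2) (by norm_num) 21 0 h0 (M := 3 ^ 9 * (5 ^ 4 * (7 ^ 2 * (11 * (13 * 23)))))
    (hd.trans (by norm_num)) (by rw [zero_add, pow_one]; exact h2)
  have h3 := H813.CoSevenCard.reduce (p := 5) (by norm_num) 4 0 h0 (M := 3 ^ 9 * (7 ^ 2 * (11 * (13 * 23))))
    (h1.trans (by norm_num)) (by rw [zero_add, pow_one]; exact hp5)
  have h4 := H813.CoSevenCard.reduce (p := 7) (by norm_num) 2 0 h0 (M := 3 ^ 9 * (11 * (13 * 23)))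
    (h3.trans (by norm_num)) (by rw [zero_add, pow_one]; exact hp7)
  have h5 := H813.CoSevenCard.reduce (p := 11) (by norm_num) 1 0 h0 (M := 3 ^ 9 * (13 * 23))
    (h4.trans (by norm_num)) (by rw [zero_add, pow_one]; exact hp11)
  have h6 := H813.CoSevenCard.reduce (p := 13) (by norm_num) 1 0 h0 (M := 3 ^ 9 * 23)
    (h5.trans (by norm_num)) (by rw [zero_add, pow_one]; exact hp13)
  have h7 := H813.CoSevenCard.reduce (p := 23) (by norm_num) 1 0 h0 (M := 3 ^ 9)
    (h6.trans (by norm_num)) (by rw [zero_add, pow_one]; exact hp23)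
  obtain ⟨k, -, hk⟩ := (Nat.dvd_prime_pow Nat.prime_three).1 (h7.trans (by norm_num : _ ∣ 3 ^ 9))
  exact IsPGroup.of_card hk

end Cfsg.Agent.H868.QS
end

-- part: H253/Co1/Nine
section
/-!
# 3-groups centralising an element of order 9 of `Co1` (helper253)

`bound` : `A` a 3-group acting on `F_2^24`, `g ∈ Z(A)`, `g^9 = 1`, `|C_V(g^3)| = 2^12`, every element of order 3 of `A` fixes at
most `2^12` vectors: `|A| ≤ 729` (three orbits of length at most 9).
-/

set_option autoImplicit false

namespace Cfsg.Agent.H253.CoNine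

open MulAction Module

section orb

variable {A : Type*} [Group A]

theorem dvd_of_orbits {X : Type*} [Finite X] [MulAction A X] (m : ℕ) (h : ∀ x : X, m ∣ Nat.card (orbit A x)) :
    m ∣ Nat.card X := by
  classical
  have := Fintype.ofFinite (Quotient (MulAction.orbitRel A X))
  rw [Nat.card_congr (MulAction.selfEquivSigmaOrbits A X), Nat.card_sigma]
  exact Finset.dvd_sum fun ω _ => h _

theorem exists_small [Finite A] (hA : IsPGroup 3 A) {X : Type*} [Finite X] [MulAction A X] (h : ¬ 27 ∣ Nat.card X) :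
    ∃ x : X, (stabilizer A x).index ≤ 9 := by
  by_contra hcon
  push Not at hcon
  apply h
  apply dvd_of_orbits (A := A)
  intro x
  have h1 := hcon x
  obtain ⟨n, hn⟩ := IsPGroup.iff_card.1 hA
  have h2 : (stabilizer A x).index ∣ 3 ^ n := by
    rw [← hn]
    exact Subgroup.index_dvd_card _
  obtain ⟨k, -, hk⟩ := (Nat.dvd_prime_pow Nat.prime_three).1 h2
  have h3 : Nat.card (orbit A x) = 3 ^ k := by
    rw [← hk, index_stabilizer, Nat.card_coe_set_eq]
  rw [hk] at h1
  have h4 : 3 ≤ k := by
    by_contra h5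
    have : 3 ^ k ≤ 3 ^ 2 := Nat.pow_le_pow_right (by norm_num) (by omega)
    omega
  rw [h3, show 27 = 3 ^ 3 by norm_num]
  exact pow_dvd_pow 3 h4

/-- a small orbit of a 3-subgroup `B` on an invariant set -/
theorem step [Finite A] {B : Subgroup A} (hB : IsPGroup 3 B) {X : Type*} [Finite X] [MulAction A X] (S : Set X)
    (hS : ∀ b ∈ B, ∀ x ∈ S, b • x ∈ S) (h : ¬ 27 ∣ S.ncard) :
    ∃ x ∈ S, Nat.card B ≤ 9 * Nat.card ↥(B ⊓ stabilizer A x) := by
  let M : MulAction B S :=
    { smul := fun b x => ⟨(b : A) • (x : X), hS b b.2 x x.2⟩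
      one_smul := fun x => Subtype.ext (one_smul A (x : X))
      mul_smul := fun a b x => Subtype.ext (mul_smul (a : A) (b : A) (x : X)) }
  obtain ⟨x, hx⟩ := exists_small (A := B) (X := S) hB (by rwa [Nat.card_coe_set_eq])
  refine ⟨x, x.2, ?_⟩
  have h1 : stabilizer B x = (stabilizer A (x : X)).subgroupOf B := by
    ext b
    rw [mem_stabilizer_iff, Subgroup.mem_subgroupOf, mem_stabilizer_iff]
    exact Subtype.ext_iff
  rw [h1] at hx
  change (stabilizer A (x : X)).relIndex B ≤ 9 at hx
  have h2 : (⊥ : Subgroup A).relIndex (B ⊓ stabilizer A (x : X)) * (B ⊓ stabilizer A (x : X)).relIndex B =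
      (⊥ : Subgroup A).relIndex B := Subgroup.relIndex_mul_relIndex _ _ _ bot_le inf_le_left
  rw [Subgroup.relIndex_bot_left, Subgroup.relIndex_bot_left, Subgroup.inf_relIndex_left] at h2
  rw [← h2, mul_comm]
  exact Nat.mul_le_mul_right _ hx

end orb

section lin

variable {A V : Type*} [Group A] [AddCommGroup V] [Module (ZMod 2) V] [DistribMulAction A V]

/-- the vectors fixed by `B` -/
def Fx (V : Type*) [AddCommGroup V] [Module (ZMod 2) V] [DistribMulAction A V] (B : Subgroup A) :
    Submodule (ZMod 2) V where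
  carrier := {v | ∀ b ∈ B, b • v = v}
  zero_mem' := fun b _ => smul_zero b
  add_mem' := fun {v w} hv hw b hb => by rw [smul_add, hv b hb, hw b hb]
  smul_mem' := fun r v hv b hb => by
    have hr : r = 0 ∨ r = 1 := by revert r; decide
    rcases hr with rfl | rfl
    · rw [zero_smul, smul_zero]
    · rw [one_smul, hv b hb]

theorem card_sub [Finite V] (W : Submodule (ZMod 2) V) : Nat.card W = 2 ^ finrank (ZMod 2) W := by
  rw [Module.natCard_eq_pow_finrank (K := ZMod 2), Nat.card_zmod]

theorem ncard_sub [Finite V] (W : Submodule (ZMod 2) V) : (W : Set V).ncard = 2 ^ finrank (ZMod 2) W := by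
  rw [← card_sub W, ← Nat.card_coe_set_eq]; rfl

theorem arith : ∀ a < 25, ∀ b < 25, b ≤ a → 9 ∣ 2 ^ a - 2 ^ b → 6 ∣ a - b := by decide +kernel

/-- dimension of a `g`-invariant subspace modulo the fixed points of `g ^ 3` -/
theorem six_dvd [Finite V] (hV : finrank (ZMod 2) V = 24) {g : A} (h9 : g ^ 9 = 1) (F : Submodule (ZMod 2) V)
    (hF : ∀ v, v ∈ F ↔ g ^ 3 • v = v) (W : Submodule (ZMod 2) V) (hW : ∀ v ∈ W, g • v ∈ W) :
    ∃ c, finrank (ZMod 2) W = finrank (ZMod 2) ↥(W ⊓ F) + 6 * c := by
  have hfd : FiniteDimensional (ZMod 2) V := Module.Finite.of_finite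
  have hWk : ∀ k : ℕ, ∀ v ∈ W, g ^ k • v ∈ W := by
    intro k
    induction k with
    | zero => intro v hv; rw [pow_zero, one_smul]; exact hv
    | succ k ih => intro v hv; rw [pow_succ, mul_smul]; exact ih _ (hW v hv)
  have hgF : ∀ v, g • v ∈ F → v ∈ F := by
    intro v hv
    rw [hF] at hv ⊢
    rw [← mul_smul, ← pow_succ, pow_succ', mul_smul] at hv
    exact (smul_left_cancel g hv)
  have hgkF : ∀ (k : ℕ) (v : V), g ^ k • v ∈ F → v ∈ F := by
    intro k
    induction k with
    | zero => intro v hv; rwa [pow_zero, one_smul] at hv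
    | succ k ih => intro v hv; rw [pow_succ, mul_smul] at hv; exact hgF v (ih _ hv)
  have hz : ∀ b ∈ Subgroup.zpowers g, ∃ k : ℕ, b = g ^ k := by
    intro b hb
    have hfin : IsOfFinOrder g := isOfFinOrder_iff_pow_eq_one.2 ⟨9, by norm_num, h9⟩
    rw [← hfin.mem_powers_iff_mem_zpowers] at hb
    obtain ⟨k, hk⟩ := hb
    exact ⟨k, hk.symm⟩
  let X : Set V := (W : Set V) \ (W ⊓ F : Submodule (ZMod 2) V)
  have hX : ∀ b ∈ Subgroup.zpowers g, ∀ x ∈ X, b • x ∈ X := by
    intro b hb x hx
    obtain ⟨k, rfl⟩ := hz b hb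
    exact ⟨hWk k x hx.1, fun h => hx.2 ⟨hx.1, hgkF k x h.2⟩⟩
  let M : MulAction (Subgroup.zpowers g) X :=
    { smul := fun b x => ⟨(b : A) • (x : V), hX b b.2 x x.2⟩
      one_smul := fun x => Subtype.ext (one_smul A (x : V))
      mul_smul := fun a b x => Subtype.ext (mul_smul (a : A) (b : A) (x : V)) }
  have hfinz : Finite (Subgroup.zpowers g) := by
    have hfin : IsOfFinOrder g := isOfFinOrder_iff_pow_eq_one.2 ⟨9, by norm_num, h9⟩
    exact hfin.finite_zpowers
  have h1 : 9 ∣ Nat.card X := by
    apply dvd_of_orbits (A := Subgroup.zpowers g)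
    intro x
    have e1 : Nat.card (orbit (Subgroup.zpowers g) x) = (stabilizer (Subgroup.zpowers g) x).index := by
      rw [index_stabilizer, Nat.card_coe_set_eq]
    rw [e1]
    have e2 : (stabilizer (Subgroup.zpowers g) x).index ∣ 9 := by
      refine (Subgroup.index_dvd_card _).trans ?_
      rw [Nat.card_zpowers]
      exact orderOf_dvd_of_pow_eq_one h9
    have e3 : ¬ (stabilizer (Subgroup.zpowers g) x).index ∣ 3 := by
      rintro ⟨m, hm⟩
      let γ : Subgroup.zpowers g := ⟨g, Subgroup.mem_zpowers g⟩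
      have h2 : γ ^ (stabilizer (Subgroup.zpowers g) x).index ∈ stabilizer (Subgroup.zpowers g) x :=
        Subgroup.pow_index_mem _ _
      have h3 : γ ^ 3 ∈ stabilizer (Subgroup.zpowers g) x := by
        rw [hm, pow_mul]
        exact Subgroup.pow_mem _ h2 m
      have h4 : γ ^ 3 • x = x := h3
      have h5 : g ^ 3 • (x : V) = x := congrArg Subtype.val h4
      exact x.2.2 ⟨x.2.1, (hF _).2 h5⟩
    have h6 : ∀ d : ℕ, d ≤ 9 → d ∣ 9 → ¬ d ∣ 3 → 9 ∣ d := by decide
    exact h6 _ (Nat.le_of_dvd (by norm_num) e2) e2 e3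
  have h2 : Nat.card X = 2 ^ finrank (ZMod 2) W - 2 ^ finrank (ZMod 2) ↥(W ⊓ F) := by
    rw [Nat.card_coe_set_eq, Set.ncard_sdiff (fun v hv => hv.1) (Set.toFinite _), ncard_sub, ncard_sub]
  rw [h2] at h1
  have h3 : finrank (ZMod 2) ↥(W ⊓ F) ≤ finrank (ZMod 2) W := Submodule.finrank_mono inf_le_left
  have h4 : finrank (ZMod 2) W ≤ 24 := hV ▸ Submodule.finrank_le W
  obtain ⟨c, hc⟩ := arith _ (by omega) _ (by omega) h3 h1
  exact ⟨c, by omega⟩

/-- **The bound.** -/
theorem bound [Finite A] [Finite V] (hV : finrank (ZMod 2) V = 24) (hA : IsPGroup 3 A) {g : A}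
    (hg : ∀ a, a * g = g * a) (h9 : g ^ 9 = 1) (hF : Nat.card {v : V // g ^ 3 • v = v} = 2 ^ 12)
    (h3 : ∀ x : A, orderOf x = 3 → Nat.card {v : V // x • v = v} ≤ 2 ^ 12) : Nat.card A ≤ 729 := by
  have hfd : FiniteDimensional (ZMod 2) V := Module.Finite.of_finite
  let F : Submodule (ZMod 2) V :=
    { carrier := {v | g ^ 3 • v = v}
      zero_mem' := smul_zero _
      add_mem' := fun {v w} hv hw => by
        show g ^ 3 • (v + w) = v + w
        rw [smul_add]
        exact congrArg₂ (· + ·) hv hw
      smul_mem' := fun r v hv => by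
        have hr : r = 0 ∨ r = 1 := by revert r; decide
        rcases hr with rfl | rfl
        · rw [zero_smul]; exact smul_zero _
        · rwa [one_smul] }
  have memF : ∀ v, v ∈ F ↔ g ^ 3 • v = v := fun v => Iff.rfl
  have hcF : finrank (ZMod 2) F = 12 := by
    have h1 : Nat.card F = 2 ^ 12 := hF
    rw [card_sub] at h1
    exact Nat.pow_right_injective (le_refl 2) h1
  have hFinv : ∀ (a : A), ∀ v ∈ F, a • v ∈ F := by
    intro a v hv
    rw [memF] at hv ⊢
    have e : g ^ 3 * a = a * g ^ 3 := by
      have h1 : Commute a g := hg a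
      exact (h1.pow_right 3).symm
    rw [← mul_smul, e, mul_smul, hv]
  have hFxg : ∀ B : Subgroup A, ∀ v ∈ Fx V B, g • v ∈ Fx V B := by
    intro B v hv b hb
    rw [← mul_smul, hg, mul_smul, hv b hb]
  have hsup : ∀ W : Submodule (ZMod 2) V, finrank (ZMod 2) ↥(W ⊔ F) + finrank (ZMod 2) ↥(W ⊓ F) =
      finrank (ZMod 2) W + 12 := by
    intro W
    rw [Submodule.finrank_sup_add_finrank_inf_eq, hcF]
  have hle24 : ∀ W : Submodule (ZMod 2) V, finrank (ZMod 2) W ≤ 24 := fun W => hV ▸ Submodule.finrank_le W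
  have hsub : ∀ B : Subgroup A, IsPGroup 3 B := fun B => hA.to_subgroup B
  have huniv : (Set.univ : Set V).ncard = 2 ^ 24 := by
    rw [Set.ncard_univ, Module.natCard_eq_pow_finrank (K := ZMod 2), Nat.card_zmod, hV]
  -- reduction to a subgroup of index at most 81 with fixed points complementing `F`
  obtain ⟨B, hB81, hBF⟩ : ∃ B : Subgroup A, Nat.card A ≤ 81 * Nat.card B ∧ Fx V B ⊔ F = ⊤ := by
    obtain ⟨v1, hv1, hs1⟩ := step (B := (⊤ : Subgroup A)) (hsub ⊤) (X := V) ((Set.univ : Set V) \ F)
      (fun b _ x hx => ⟨trivial, fun h => hx.2 (by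
        have := hFinv b⁻¹ _ h
        rwa [inv_smul_smul] at this)⟩) (by
        rw [Set.ncard_sdiff (Set.subset_univ _) (Set.toFinite _), huniv, ncard_sub, hcF]
        norm_num)
    rw [Subgroup.card_top, top_inf_eq] at hs1
    set B1 := stabilizer A v1
    have hv1' : v1 ∈ Fx V B1 := fun b hb => hb
    obtain ⟨c, hc⟩ := six_dvd hV h9 F memF (Fx V B1) (hFxg B1)
    have e1 := hsup (Fx V B1)
    have e2 := hle24 (Fx V B1 ⊔ F)
    have hc0 : c ≠ 0 := by
      rintro rfl
      have h1 : Fx V B1 ⊓ F = Fx V B1 := Submodule.eq_of_le_of_finrank_eq inf_le_left (by omega)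
      have h2 : v1 ∈ Fx V B1 ⊓ F := by rw [h1]; exact hv1'
      exact hv1.2 h2.2
    rcases Nat.lt_or_ge c 2 with hc1 | hc2
    · have hc1' : c = 1 := by omega
      subst hc1'
      have e3 : finrank (ZMod 2) ↥(Fx V B1 ⊔ F) = 18 := by omega
      obtain ⟨v2, hv2, hs2⟩ := step (hsub B1) (X := V) ((Set.univ : Set V) \ (Fx V B1 ⊔ F : Submodule (ZMod 2) V))
        (fun b hb x hx => ⟨trivial, fun h => hx.2 (by
          obtain ⟨y, hy, z, hz, hyz⟩ := Submodule.mem_sup.1 h
          have h1 : x = y + b⁻¹ • z := by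
            have h2 : b⁻¹ • (y + z) = x := by rw [hyz, inv_smul_smul]
            rw [← h2, smul_add, hy b⁻¹ (B1.inv_mem hb)]
          rw [h1]
          exact Submodule.add_mem_sup hy (hFinv _ z hz))⟩) (by
          rw [Set.ncard_sdiff (Set.subset_univ _) (Set.toFinite _), huniv, ncard_sub, e3]
          norm_num)
      refine ⟨B1 ⊓ stabilizer A v2, by omega, ?_⟩
      set B2 := B1 ⊓ stabilizer A v2
      have hv2' : v2 ∈ Fx V B2 := fun b hb => hb.2
      have hmono : Fx V B1 ≤ Fx V B2 := fun v hv b hb => hv b hb.1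
      obtain ⟨d, hd⟩ := six_dvd hV h9 F memF (Fx V B2) (hFxg B2)
      have e4 := hsup (Fx V B2)
      have e5 := hle24 (Fx V B2 ⊔ F)
      have e6 : finrank (ZMod 2) ↥(Fx V B1 ⊔ F) < finrank (ZMod 2) ↥(Fx V B2 ⊔ F) := by
        apply Submodule.finrank_lt_finrank_of_lt
        refine lt_of_le_of_ne (sup_le_sup_right hmono F) fun h => hv2.2 ?_
        rw [h]
        exact Submodule.mem_sup_left hv2'
      apply Submodule.eq_top_of_finrank_eq
      rw [hV]
      omega
    · refine ⟨B1, by omega, ?_⟩
      apply Submodule.eq_top_of_finrank_eq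
      rw [hV]
      omega
  obtain ⟨v3, hv3, hs3⟩ := step (hsub B) (X := V) ((F : Set V) \ {0})
    (fun b _ x hx => ⟨hFinv b x hx.1, fun h => hx.2 (by
      have h1 : b • x = 0 := h
      have h2 : b⁻¹ • b • x = b⁻¹ • (0 : V) := by rw [h1]
      rw [inv_smul_smul, smul_zero] at h2
      exact h2)⟩) (by
      rw [Set.ncard_sdiff (Set.singleton_subset_iff.2 F.zero_mem) (Set.toFinite _), ncard_sub, hcF, Set.ncard_singleton]
      norm_num)
  set C := B ⊓ stabilizer A v3
  have hC : Nat.card C = 1 := by
    by_contra hcon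
    obtain ⟨n, hn⟩ := IsPGroup.iff_card.1 (hsub C)
    have hn0 : n ≠ 0 := by
      rintro rfl
      exact hcon (by rw [hn, pow_zero])
    have : Fact (Nat.Prime 3) := ⟨Nat.prime_three⟩
    obtain ⟨x, hx⟩ := exists_prime_orderOf_dvd_card' (G := C) 3 (by rw [hn]; exact dvd_pow_self 3 hn0)
    have hx' : orderOf (x : A) = 3 := by rw [Subgroup.orderOf_coe, hx]
    have h4 := h3 x hx'
    let W : Submodule (ZMod 2) V := Fx V (Subgroup.zpowers (x : A))
    have h5 : Nat.card W ≤ 2 ^ 12 := by
      refine le_trans (le_of_eq ?_) h4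
      apply Nat.card_congr
      exact
        { toFun := fun v => ⟨v, v.2 _ (Subgroup.mem_zpowers _)⟩
          invFun := fun v => ⟨v, fun b hb => by
            have h6 : Subgroup.zpowers (x : A) ≤ stabilizer A (v : V) :=
              (Subgroup.zpowers_le).2 (mem_stabilizer_iff.2 v.2)
            exact h6 hb⟩
          left_inv := fun _ => rfl
          right_inv := fun _ => rfl }
    rw [card_sub] at h5
    have h6 : finrank (ZMod 2) W ≤ 12 := by
      by_contra h7
      have : 2 ^ 13 ≤ 2 ^ finrank (ZMod 2) W := Nat.pow_le_pow_right (by norm_num) (by omega)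
      omega
    have hzC : Subgroup.zpowers (x : A) ≤ C := (Subgroup.zpowers_le).2 x.2
    have h7 : Fx V B ≤ W := fun v hv b hb => hv b (hzC hb).1
    have h8 : v3 ∈ W := fun b hb => (hzC hb).2
    have h9' : W ⊔ F = ⊤ := top_le_iff.1 (hBF ▸ sup_le_sup_right h7 F)
    have e1 := hsup W
    rw [h9', finrank_top, hV] at e1
    have e2 : finrank (ZMod 2) ↥(W ⊓ F) = 0 := by omega
    have e3 : W ⊓ F = ⊥ := Submodule.finrank_eq_zero.1 e2
    have e4 : v3 ∈ W ⊓ F := ⟨h8, hv3.1⟩
    rw [e3, Submodule.mem_bot] at e4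
    exact hv3.2 e4
  omega

end lin

/-! ### `Co1` -/

section co

open Cfsg.Spor Cfsg.Agent.LThreeMB Cfsg.Agent.MonsterU.Lam2

theorem finrank_L2 : finrank (ZMod 2) L2 = 24 := by
  have h1 := Module.natCard_eq_pow_finrank (K := ZMod 2) (V := L2)
  rw [card_L2, Nat.card_zmod] at h1
  exact (Nat.pow_right_injective (le_refl 2) h1).symm

theorem fr_le {s : Co1} (hs : orderOf s = 3) : fr s ≤ 2 ^ 12 := by
  rcases Cfsg.Agent.LThreeCo1.Ranks.ranks s hs with h | h | h | h <;> rw [h] <;> norm_num

/-- a 3-subgroup centralising `g` of order 9 with `fr (g ^ 3) = 2 ^ 12` and containing `g` -/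
theorem card_le {g : Co1} (h9 : g ^ 9 = 1) (hfr : fr (g ^ 3) = 2 ^ 12) {S : Subgroup Co1} (hS : IsPGroup 3 S)
    (hgS : g ∈ S) (hc : ∀ s ∈ S, s * g = g * s) : Nat.card S ≤ 729 := by
  have hfin : Finite Co1 := inferInstance
  refine bound (V := L2) finrank_L2 hS (g := ⟨g, hgS⟩) (fun a => Subtype.ext (hc a a.2)) (Subtype.ext h9) hfr ?_
  intro x hx
  rw [← Subgroup.orderOf_coe] at hx
  exact fr_le hx

end co

end Cfsg.Agent.H253.CoNine
end

-- part: H253/Co1/NineAll
section
/-!
# 3-groups centralising an element of order 9 of `Co1`: all cases (helper253)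

`bound_all` : `A` a 3-group acting on `F_2^24`, `g ∈ Z(A)`, `g^9 = 1`, `|C_V(g^3)| ≤ 2^6`, every element of order 3 of `A` fixes
at most `2^12` vectors: `|A| ≤ 2187`.
-/

set_option autoImplicit false

namespace Cfsg.Agent.H253.CoNine

open MulAction Module

section orb

variable {A : Type*} [Group A]

theorem exists_small' [Finite A] (hA : IsPGroup 3 A) {X : Type*} [Finite X] [MulAction A X] {k : ℕ}
    (h : ¬ 3 ^ (k + 1) ∣ Nat.card X) : ∃ x : X, (stabilizer A x).index ≤ 3 ^ k := by
  by_contra hcon
  push Not at hcon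
  apply h
  apply dvd_of_orbits (A := A)
  intro x
  have h1 := hcon x
  obtain ⟨n, hn⟩ := IsPGroup.iff_card.1 hA
  have h2 : (stabilizer A x).index ∣ 3 ^ n := by
    rw [← hn]
    exact Subgroup.index_dvd_card _
  obtain ⟨j, -, hj⟩ := (Nat.dvd_prime_pow Nat.prime_three).1 h2
  have h3 : Nat.card (orbit A x) = 3 ^ j := by
    rw [← hj, index_stabilizer, Nat.card_coe_set_eq]
  rw [hj] at h1
  have h4 : k < j := (Nat.pow_lt_pow_iff_right (by norm_num : 1 < 3)).1 h1
  rw [h3]
  exact pow_dvd_pow 3 h4

theorem step' [Finite A] {B : Subgroup A} (hB : IsPGroup 3 B) {X : Type*} [Finite X] [MulAction A X] (S : Set X)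
    (hS : ∀ b ∈ B, ∀ x ∈ S, b • x ∈ S) {k : ℕ} (h : ¬ 3 ^ (k + 1) ∣ S.ncard) :
    ∃ x ∈ S, Nat.card B ≤ 3 ^ k * Nat.card ↥(B ⊓ stabilizer A x) := by
  let M : MulAction B S :=
    { smul := fun b x => ⟨(b : A) • (x : X), hS b b.2 x x.2⟩
      one_smul := fun x => Subtype.ext (one_smul A (x : X))
      mul_smul := fun a b x => Subtype.ext (mul_smul (a : A) (b : A) (x : X)) }
  obtain ⟨x, hx⟩ := exists_small' (A := B) (X := S) hB (by rwa [Nat.card_coe_set_eq])
  refine ⟨x, x.2, ?_⟩
  have h1 : stabilizer B x = (stabilizer A (x : X)).subgroupOf B := by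
    ext b
    rw [mem_stabilizer_iff, Subgroup.mem_subgroupOf, mem_stabilizer_iff]
    exact Subtype.ext_iff
  rw [h1] at hx
  change (stabilizer A (x : X)).relIndex B ≤ 3 ^ k at hx
  have h2 : (⊥ : Subgroup A).relIndex (B ⊓ stabilizer A (x : X)) * (B ⊓ stabilizer A (x : X)).relIndex B =
      (⊥ : Subgroup A).relIndex B := Subgroup.relIndex_mul_relIndex _ _ _ bot_le inf_le_left
  rw [Subgroup.relIndex_bot_left, Subgroup.relIndex_bot_left, Subgroup.inf_relIndex_left] at h2
  rw [← h2, mul_comm]
  exact Nat.mul_le_mul_right _ hx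

end orb

section lin

variable {A V : Type*} [Group A] [AddCommGroup V] [Module (ZMod 2) V] [DistribMulAction A V]

/-- the situation -/
structure NS (V : Type*) [AddCommGroup V] [Module (ZMod 2) V] [DistribMulAction A V] (g : A)
    (F : Submodule (ZMod 2) V) : Prop where
  hV : finrank (ZMod 2) V = 24
  hA : IsPGroup 3 A
  hg : ∀ a, a * g = g * a
  h9 : g ^ 9 = 1
  hF : ∀ v, v ∈ F ↔ g ^ 3 • v = v
  h3 : ∀ x : A, orderOf x = 3 → Nat.card {v : V // x • v = v} ≤ 2 ^ 12

/-- the fixed points of `g ^ 3` -/
def F3 (V : Type*) [AddCommGroup V] [Module (ZMod 2) V] [DistribMulAction A V] (g : A) :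
    Submodule (ZMod 2) V where
  carrier := {v | g ^ 3 • v = v}
  zero_mem' := smul_zero _
  add_mem' := fun {v w} hv hw => by
    show g ^ 3 • (v + w) = v + w
    rw [smul_add]
    exact congrArg₂ (· + ·) hv hw
  smul_mem' := fun r v hv => by
    have hr : r = 0 ∨ r = 1 := by revert r; decide
    rcases hr with rfl | rfl
    · rw [zero_smul]; exact smul_zero _
    · rwa [one_smul]

variable {g : A} {F : Submodule (ZMod 2) V}

theorem NS.inv (h : NS V g F) (a : A) : ∀ v ∈ F, a • v ∈ F := by
  intro v hv
  rw [h.hF] at hv ⊢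
  have e : g ^ 3 * a = a * g ^ 3 := by
    have h1 : Commute a g := h.hg a
    exact (h1.pow_right 3).symm
  rw [← mul_smul, e, mul_smul, hv]

theorem NS.sup [Finite V] (h : NS V g F) (B : Subgroup A) :
    ∃ c, finrank (ZMod 2) ↥(Fx V B ⊔ F) = finrank (ZMod 2) F + 6 * c := by
  obtain ⟨c, hc⟩ := six_dvd h.hV h.h9 F h.hF (Fx V B) (by
    intro v hv b hb
    rw [← mul_smul, h.hg, mul_smul, hv b hb])
  have hfd : FiniteDimensional (ZMod 2) V := Module.Finite.of_finite
  have h1 := Submodule.finrank_sup_add_finrank_inf_eq (Fx V B) F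
  exact ⟨c, by omega⟩

theorem NS.grow [Finite A] [Finite V] (h : NS V g F) (B : Subgroup A) {k : ℕ}
    (hk : ¬ 3 ^ (k + 1) ∣ 2 ^ 24 - 2 ^ finrank (ZMod 2) ↥(Fx V B ⊔ F)) :
    ∃ B' : Subgroup A, Nat.card B ≤ 3 ^ k * Nat.card B' ∧
      finrank (ZMod 2) ↥(Fx V B ⊔ F) + 6 ≤ finrank (ZMod 2) ↥(Fx V B' ⊔ F) := by
  have hfd : FiniteDimensional (ZMod 2) V := Module.Finite.of_finite
  have huniv : (Set.univ : Set V).ncard = 2 ^ 24 := by
    rw [Set.ncard_univ, Module.natCard_eq_pow_finrank (K := ZMod 2), Nat.card_zmod, h.hV]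
  obtain ⟨v, hv, hs⟩ := step' (h.hA.to_subgroup B) (X := V)
    ((Set.univ : Set V) \ (Fx V B ⊔ F : Submodule (ZMod 2) V))
    (fun b hb x hx => ⟨trivial, fun h' => hx.2 (by
      obtain ⟨y, hy, z, hz, hyz⟩ := Submodule.mem_sup.1 h'
      have h1 : x = y + b⁻¹ • z := by
        have h2 : b⁻¹ • (y + z) = x := by rw [hyz, inv_smul_smul]
        rw [← h2, smul_add, hy b⁻¹ (B.inv_mem hb)]
      rw [h1]
      exact Submodule.add_mem_sup hy (h.inv _ z hz))⟩) (k := k) (by
      rw [Set.ncard_sdiff (Set.subset_univ _) (Set.toFinite _), huniv, ncard_sub]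
      exact hk)
  refine ⟨B ⊓ stabilizer A v, hs, ?_⟩
  obtain ⟨c, hc⟩ := h.sup B
  obtain ⟨d, hd⟩ := h.sup (B ⊓ stabilizer A v)
  have hmono : Fx V B ≤ Fx V (B ⊓ stabilizer A v) := fun w hw b hb => hw b hb.1
  have e6 : finrank (ZMod 2) ↥(Fx V B ⊔ F) < finrank (ZMod 2) ↥(Fx V (B ⊓ stabilizer A v) ⊔ F) := by
    apply Submodule.finrank_lt_finrank_of_lt
    refine lt_of_le_of_ne (sup_le_sup_right hmono F) fun h' => hv.2 ?_
    rw [h']
    exact Submodule.mem_sup_left (fun b hb => hb.2)
  omega

/-- a subgroup with more than `2 ^ 12` fixed points is trivial -/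
theorem NS.one_of [Finite A] [Finite V] (h : NS V g F) (B : Subgroup A)
    (hB : 12 < finrank (ZMod 2) (Fx V B)) : Nat.card B ≤ 1 := by
  have hfd : FiniteDimensional (ZMod 2) V := Module.Finite.of_finite
  by_contra hcon
  obtain ⟨n, hn⟩ := IsPGroup.iff_card.1 (h.hA.to_subgroup B)
  have hn0 : n ≠ 0 := by
    rintro rfl
    exact hcon (by rw [hn, pow_zero])
  have : Fact (Nat.Prime 3) := ⟨Nat.prime_three⟩
  obtain ⟨x, hx⟩ := exists_prime_orderOf_dvd_card' (G := B) 3 (by rw [hn]; exact dvd_pow_self 3 hn0)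
  have hx' : orderOf (x : A) = 3 := by rw [Subgroup.orderOf_coe, hx]
  have h4 := h.h3 x hx'
  have h5 : Nat.card (Fx V B) ≤ 2 ^ 12 := by
    refine le_trans (Nat.card_le_card_of_injective
      (fun v : Fx V B => (⟨v, v.2 _ x.2⟩ : {v : V // (x : A) • v = v})) ?_) h4
    intro v w hvw
    exact Subtype.ext (congrArg (fun z : {v : V // (x : A) • v = v} => (z : V)) hvw)
  rw [card_sub] at h5
  have : 2 ^ 13 ≤ 2 ^ finrank (ZMod 2) (Fx V B) := Nat.pow_le_pow_right (by norm_num) (by omega)
  omega

theorem NS.dim_le [Finite V] (h : NS V g F) (B : Subgroup A) :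
    finrank (ZMod 2) ↥(Fx V B ⊔ F) ≤ finrank (ZMod 2) (Fx V B) + finrank (ZMod 2) F := by
  have hfd : FiniteDimensional (ZMod 2) V := Module.Finite.of_finite
  exact Submodule.finrank_add_le_finrank_add_finrank _ _

/-- `|C_V(g ^ 3)| = 2 ^ 6` -/
theorem NS.six [Finite A] [Finite V] (h : NS V g F) (hf : finrank (ZMod 2) F = 6) : Nat.card A ≤ 2187 := by
  have hfd : FiniteDimensional (ZMod 2) V := Module.Finite.of_finite
  have hle24 : ∀ W : Submodule (ZMod 2) V, finrank (ZMod 2) W ≤ 24 := fun W => h.hV ▸ Submodule.finrank_le W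
  have L24 : ∀ B : Subgroup A, 24 ≤ finrank (ZMod 2) ↥(Fx V B ⊔ F) → Nat.card B ≤ 1 := by
    intro B hB
    have h1 := h.dim_le B
    exact h.one_of B (by omega)
  have L18 : ∀ B : Subgroup A, 18 ≤ finrank (ZMod 2) ↥(Fx V B ⊔ F) → Nat.card B ≤ 9 := by
    intro B hB
    obtain ⟨c, hc⟩ := h.sup B
    have h1 := hle24 (Fx V B ⊔ F)
    rcases Nat.lt_or_ge (finrank (ZMod 2) ↥(Fx V B ⊔ F)) 24 with h2 | h2
    · obtain ⟨B', h3, h4⟩ := h.grow B (k := 2) (by
        have : finrank (ZMod 2) ↥(Fx V B ⊔ F) = 18 := by omega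
        rw [this]; norm_num)
      have := L24 B' (by omega)
      omega
    · have := L24 B h2
      omega
  have L12 : ∀ B : Subgroup A, 12 ≤ finrank (ZMod 2) ↥(Fx V B ⊔ F) → Nat.card B ≤ 81 := by
    intro B hB
    obtain ⟨c, hc⟩ := h.sup B
    have h1 := hle24 (Fx V B ⊔ F)
    rcases Nat.lt_or_ge (finrank (ZMod 2) ↥(Fx V B ⊔ F)) 18 with h2 | h2
    · obtain ⟨B', h3, h4⟩ := h.grow B (k := 2) (by
        have : finrank (ZMod 2) ↥(Fx V B ⊔ F) = 12 := by omega
        rw [this]; norm_num)
      have := L18 B' (by omega)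
      omega
    · have := L18 B h2
      omega
  obtain ⟨c, hc⟩ := h.sup (⊤ : Subgroup A)
  have hct : Nat.card (⊤ : Subgroup A) = Nat.card A := Subgroup.card_top
  rcases Nat.lt_or_ge (finrank (ZMod 2) ↥(Fx V (⊤ : Subgroup A) ⊔ F)) 12 with h2 | h2
  · obtain ⟨B', h3, h4⟩ := h.grow (⊤ : Subgroup A) (k := 3) (by
      have : finrank (ZMod 2) ↥(Fx V (⊤ : Subgroup A) ⊔ F) = 6 := by omega
      rw [this]; norm_num)
    have := L12 B' (by omega)
    omega
  · have := L12 ⊤ h2
    omega

/-- `|C_V(g ^ 3)| = 1` -/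
theorem NS.zero [Finite A] [Finite V] (h : NS V g F) (hf : finrank (ZMod 2) F = 0) : Nat.card A ≤ 2187 := by
  have hfd : FiniteDimensional (ZMod 2) V := Module.Finite.of_finite
  have hle24 : ∀ W : Submodule (ZMod 2) V, finrank (ZMod 2) W ≤ 24 := fun W => h.hV ▸ Submodule.finrank_le W
  have L18 : ∀ B : Subgroup A, 18 ≤ finrank (ZMod 2) ↥(Fx V B ⊔ F) → Nat.card B ≤ 1 := by
    intro B hB
    have h1 := h.dim_le B
    exact h.one_of B (by omega)
  have L12 : ∀ B : Subgroup A, 12 ≤ finrank (ZMod 2) ↥(Fx V B ⊔ F) → Nat.card B ≤ 9 := by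
    intro B hB
    obtain ⟨c, hc⟩ := h.sup B
    have h1 := hle24 (Fx V B ⊔ F)
    rcases Nat.lt_or_ge (finrank (ZMod 2) ↥(Fx V B ⊔ F)) 18 with h2 | h2
    · obtain ⟨B', h3, h4⟩ := h.grow B (k := 2) (by
        have : finrank (ZMod 2) ↥(Fx V B ⊔ F) = 12 := by omega
        rw [this]; norm_num)
      have := L18 B' (by omega)
      omega
    · have := L18 B h2
      omega
  have L6 : ∀ B : Subgroup A, 6 ≤ finrank (ZMod 2) ↥(Fx V B ⊔ F) → Nat.card B ≤ 243 := by
    intro B hB
    obtain ⟨c, hc⟩ := h.sup B
    have h1 := hle24 (Fx V B ⊔ F)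
    rcases Nat.lt_or_ge (finrank (ZMod 2) ↥(Fx V B ⊔ F)) 12 with h2 | h2
    · obtain ⟨B', h3, h4⟩ := h.grow B (k := 3) (by
        have : finrank (ZMod 2) ↥(Fx V B ⊔ F) = 6 := by omega
        rw [this]; norm_num)
      have := L12 B' (by omega)
      omega
    · have := L12 B h2
      omega
  obtain ⟨c, hc⟩ := h.sup (⊤ : Subgroup A)
  have hct : Nat.card (⊤ : Subgroup A) = Nat.card A := Subgroup.card_top
  rcases Nat.lt_or_ge (finrank (ZMod 2) ↥(Fx V (⊤ : Subgroup A) ⊔ F)) 6 with h2 | h2
  · obtain ⟨B', h3, h4⟩ := h.grow (⊤ : Subgroup A) (k := 2) (by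
      have : finrank (ZMod 2) ↥(Fx V (⊤ : Subgroup A) ⊔ F) = 0 := by omega
      rw [this]; norm_num)
    have := L6 B' (by omega)
    omega
  · have := L6 ⊤ h2
    omega

end lin

/-! ### `Co1` -/

section co

open Cfsg.Spor Cfsg.Agent.LThreeMB Cfsg.Agent.MonsterU.Lam2

/-- `fr (g ^ 3) ≠ 2 ^ 8`, and the possible values -/
theorem fr_cube {g : Co1} (h9 : orderOf g = 9) : fr (g ^ 3) = 1 ∨ fr (g ^ 3) = 2 ^ 6 ∨ fr (g ^ 3) = 2 ^ 12 := by
  have ho : orderOf (g ^ 3) = 3 := by rw [orderOf_pow, h9]; norm_num
  rcases Cfsg.Agent.LThreeCo1.Ranks.ranks _ ho with h | h | h | h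
  · exact Or.inl h
  · exact Or.inr (Or.inl h)
  · exfalso
    have hg9 : g ^ 9 = 1 := by rw [← h9, pow_orderOf_eq_one]
    have hF : finrank (ZMod 2) (F3 L2 g) = 8 := by
      have h1 : Nat.card (F3 L2 g) = 2 ^ 8 := h
      rw [card_sub] at h1
      exact Nat.pow_right_injective (le_refl 2) h1
    obtain ⟨c, hc⟩ := six_dvd (V := L2) finrank_L2 hg9 (F3 L2 g) (fun v => Iff.rfl) ⊤ (fun v _ => Submodule.mem_top)
    rw [top_inf_eq, hF, finrank_top, finrank_L2] at hc
    omega
  · exact Or.inr (Or.inr h)

/-- **All cases**: a 3-group `S` containing `h` of order 9 and centralising it -/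
theorem card_le_all {h : Co1} (h9 : orderOf h = 9) {S : Subgroup Co1} (hS : IsPGroup 3 S)
    (hgS : h ∈ S) (hc : ∀ s ∈ S, s * h = h * s) : Nat.card S ≤ 2187 := by
  have hfin : Finite Co1 := inferInstance
  have hg9 : h ^ 9 = 1 := by rw [← h9, pow_orderOf_eq_one]
  have hns : NS (A := S) L2 ⟨h, hgS⟩ (F3 L2 (⟨h, hgS⟩ : S)) :=
    ⟨finrank_L2, hS, fun a => Subtype.ext (hc a a.2), Subtype.ext hg9, fun v => Iff.rfl, fun x hx => by
      rw [← Subgroup.orderOf_coe] at hx
      exact fr_le hx⟩
  have hcard : Nat.card (F3 L2 (⟨h, hgS⟩ : S)) = fr (h ^ 3) := rfl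
  rcases fr_cube h9 with h1 | h1 | h1
  · rw [h1, card_sub] at hcard
    have h2 : finrank (ZMod 2) (F3 L2 (⟨h, hgS⟩ : S)) = 0 := by
      rcases Nat.eq_zero_or_pos (finrank (ZMod 2) (F3 L2 (⟨h, hgS⟩ : S))) with h3 | h3
      · exact h3
      · have : 2 ^ 1 ≤ 2 ^ finrank (ZMod 2) (F3 L2 (⟨h, hgS⟩ : S)) := Nat.pow_le_pow_right (by norm_num) h3
        omega
    exact hns.zero h2
  · rw [h1, card_sub] at hcard
    exact hns.six (Nat.pow_right_injective (le_refl 2) hcard)
  · exact (card_le hg9 h1 hS hgS hc).trans (by norm_num)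

/-- **helper868's form**: `h ∈ ⟨g⟩` of order 9, `C(g)` a 3-group -/
theorem bd_nine_all {g h : Co1} (hh : h ∈ Subgroup.zpowers g) (h9 : orderOf h = 9)
    (hC : IsPGroup 3 (Subgroup.centralizer ({g} : Set Co1))) :
    Nat.card (Subgroup.centralizer ({g} : Set Co1)) ≤ 2187 ∧
      (fr (h ^ 3) = 2 ^ 12 → Nat.card (Subgroup.centralizer ({g} : Set Co1)) ≤ 729) := by
  obtain ⟨n, rfl⟩ := Subgroup.mem_zpowers_iff.1 hh
  have hmem : g ^ n ∈ Subgroup.centralizer ({g} : Set Co1) :=
    Subgroup.mem_centralizer_singleton_iff.2 ((Commute.refl g).zpow_left n).eq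
  have hcm : ∀ s ∈ Subgroup.centralizer ({g} : Set Co1), s * g ^ n = g ^ n * s := fun s hs => by
    have h1 : Commute s g := Subgroup.mem_centralizer_singleton_iff.1 hs
    exact (h1.zpow_right n).eq
  exact ⟨card_le_all h9 hC hmem hcm, fun hfr => card_le (by rw [← h9, pow_orderOf_eq_one]) hfr hC hmem hcm⟩

end co

end Cfsg.Agent.H253.CoNine
end

-- part: H253/Co1/Odd
section
/-!
# Elements of `Co1` with centralizer of odd order and a power of order 5 or 7 (helper253)

`y ∈ ⟨g⟩`, `|C(g)|` odd.

* `five_one` : `|y| = 5`, `fr y = 1`: `|C(g)| ≤ 3375`;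
* `five_eight` : `|y| = 5`, `fr y = 2^8`: `|C(g)| ≤ 1125`;
* `five_four` : `|y| = 5`, `fr y = 2^4`, `3 ∣ |g|`: `|C(g)| ≤ 225`;
* `seven` : `|y| = 7`: `|C(g)| ≤ 2205`.
-/

set_option autoImplicit false

namespace Cfsg.Agent.H253.CoOdd

open Cfsg Subgroup
open Cfsg.Agent.LThreeMB (fr XX Zx)
open Cfsg.Agent.H55.CoOneBd
open Cfsg.Spor (Co1)

theorem odd_le {n B k : ℕ} (h : OddLe n B) (hk : k ∣ n) (h2 : ¬ 2 ∣ k) : k ≤ B := by
  obtain ⟨m, h0, h1, h3⟩ := h
  have h4 : Nat.Coprime k (2 ^ 22) :=
    Nat.Coprime.pow_right 22 ((Nat.Prime.coprime_iff_not_dvd Nat.prime_two).2 h2).symm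
  exact (Nat.le_of_dvd (Nat.pos_of_ne_zero h0) (h4.dvd_of_dvd_mul_left (hk.trans h3))).trans h1

theorem cent_le {g x : Co1} (hxg : x ∈ zpowers g) : centralizer ({g} : Set Co1) ≤ centralizer ({x} : Set Co1) := by
  intro c hc
  rw [mem_centralizer_singleton_iff] at hc ⊢
  obtain ⟨n, rfl⟩ := hxg
  exact (show Commute c g from hc).zpow_right n

theorem cent_dvd {g x : Co1} (hxg : x ∈ zpowers g) :
    Nat.card (centralizer ({g} : Set Co1)) ∣ Nat.card (centralizer ({x} : Set Co1)) :=
  Subgroup.card_dvd_of_le (cent_le hxg)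

/-- **order seven** -/
theorem seven {g y : Co1} (hy : orderOf y = 7) (hyg : y ∈ zpowers g)
    (hodd : ¬ 2 ∣ Nat.card (centralizer ({g} : Set Co1))) : Nat.card (centralizer ({g} : Set Co1)) ≤ 2205 :=
  odd_le (bd_seven hy) (cent_dvd hyg) hodd

/-- **order five, 256 fixed points** -/
theorem five_eight {g y : Co1} (hy : orderOf y = 5) (hf : fr y = 2 ^ 8) (hyg : y ∈ zpowers g)
    (hodd : ¬ 2 ∣ Nat.card (centralizer ({g} : Set Co1))) : Nat.card (centralizer ({g} : Set Co1)) ≤ 1125 := by
  refine odd_le (n := Nat.card (centralizer ({y} : Set Co1))) ?_ (cent_dvd hyg) hodd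
  rw [MFiveHN.UpEight.card_cent hy hf]
  exact ⟨1125, by norm_num, by norm_num, by norm_num⟩

/-- the centralizers of the elements of order three -/
theorem three_no {s : Co1} (hs : orderOf s = 3) : ¬ 125 ∣ Nat.card (centralizer ({s} : Set Co1)) := by
  rcases LThreeCo1.Ranks.ranks s hs with h | h | h | h
  · rw [card_zero hs h]
    norm_num
  · obtain ⟨g, hg⟩ := LThreeCo1.Ranks.conj_rep LThreeCo1.Ranks.uniq6 hs h
    rw [card_cent_conj (isConj_iff.2 ⟨g, hg⟩)]
    intro h5
    have h1 := h5.trans ((card_cent_dvd (n := 3) (by decide) (by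
      rw [← LThreeCo1.Class.order_c6, pow_orderOf_eq_one])).trans
      (H55.CoOneLow.six_dvd LThreeCo1.Class.order_c6 LThreeCo1Six.Data.dx LThreeCo1Six.Data.reg))
    norm_num at h1
  · obtain ⟨t, ht, hft, ⟨e⟩, -⟩ := LThreeMB.CEight.nine
    obtain ⟨g, hg⟩ := LThreeCo1.Ranks.eight s t hs ht h hft
    have h9 := LThreeCo1Twelve.Elim.card_alt 9 (by norm_num)
    have h9' : Nat.card ↥(alternatingGroup (Fin 9)) = 181440 := by
      have : (9 : ℕ).factorial = 362880 := by decide
      omega
    rw [card_cent_conj (isConj_iff.2 ⟨g, hg⟩), card_cent_XX, ht, Nat.card_congr e.toEquiv, h9']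
    norm_num
  · obtain ⟨t, ht, hft, hct, -⟩ := LThreeMB.CoOneFin.coOne.psu
    obtain ⟨g, hg⟩ := LThreeCo1.Ranks.twelve s t hs ht h hft
    obtain ⟨E, M, iE, iM, K, iK, iK', hEM, hE, hM, hK, ⟨e⟩⟩ := hct.chain
    have h1 : Nat.card ↥M = Nat.card (↥M ⧸ E.subgroupOf M) * Nat.card ↥(E.subgroupOf M) :=
      Subgroup.card_eq_card_quotient_mul_card_subgroup _
    rw [Nat.card_congr e.toEquiv, LThreeB.card_psu hK,
      Nat.card_congr (Subgroup.subgroupOfEquivOfLe hEM).toEquiv, hE] at h1
    have h2 := M.card_mul_index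
    rw [h1, hM] at h2
    rw [card_cent_conj (isConj_iff.2 ⟨g, hg⟩), card_cent_XX, ht, ← h2]
    norm_num

/-- a power of prime order -/
theorem exists_pow {p : ℕ} {g : Co1} (h : p ∣ orderOf g) : ∃ z ∈ zpowers g, orderOf z = p := by
  obtain ⟨m, hm⟩ := h
  have hm0 : m ≠ 0 := by
    rintro rfl
    have := (orderOf_pos g :)
    omega
  refine ⟨g ^ m, ⟨m, by simp⟩, ?_⟩
  rw [orderOf_pow_of_dvd hm0 ⟨p, by rw [hm, mul_comm]⟩, hm]
  exact Nat.mul_div_cancel _ (Nat.pos_of_ne_zero hm0)

/-- **order five, 16 fixed points, `3` divides the order** -/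
theorem five_four {g y : Co1} (hy : orderOf y = 5) (hf : fr y = 2 ^ 4) (hyg : y ∈ zpowers g) (h3 : 3 ∣ orderOf g)
    (hodd : ¬ 2 ∣ Nat.card (centralizer ({g} : Set Co1))) : Nat.card (centralizer ({g} : Set Co1)) ≤ 225 := by
  obtain ⟨z, hzg, hz⟩ := exists_pow h3
  have h4 := H572.CoFiveThree.cent_five_four hy hf
  have hd1 := cent_dvd hyg
  have hd2 : Nat.card (centralizer ({y} : Set Co1)) ∣ 2 ^ 22 * 455625 := by
    obtain ⟨a, rfl, ha, hao⟩ := exists_lift (by norm_num) (by norm_num) hy
    exact (card_cent_dvd (by decide) ha).trans (H55.CoOneLow.five_dvd hao (CoFiveC.Main.finrank_of_fr hao hf))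
  have h0 : Nat.card (centralizer ({g} : Set Co1)) ≠ 0 := Nat.card_pos.ne'
  have h5 := H813.CoSevenCard.reduce (p := 2) (by norm_num) 22 0 h0 (M := 455625) (hd1.trans hd2) (by
    rw [zero_add, pow_one]; exact hodd)
  have h6 := H813.CoSevenCard.reduce (p := 3) (by norm_num) 6 2 h0 (M := 625) (h5.trans (by norm_num))
    (fun h => h4 (h.trans hd1))
  have h7 := H813.CoSevenCard.reduce (p := 5) (by norm_num) 4 2 h0 (M := 9) (h6.trans (by norm_num))
    (fun h => three_no hz (((by norm_num : (125 : ℕ) ∣ 5 ^ (2 + 1)).trans h).trans (cent_dvd hzg)))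
  exact Nat.le_of_dvd (by norm_num) (h7.trans (by norm_num))

/-- `|C(z) ∩ C(y)|` for `z` of order 7 and `y` of order 5 with one fixed point -/
theorem card_inf {y z : Co1} (hy : orderOf y = 5) (hf : fr y = 1) (hz : orderOf z = 7) (hzy : z * y = y * z) :
    Nat.card (centralizer ({z} : Set Co1) ⊓ centralizer ({y} : Set Co1) : Subgroup Co1) ≤ 35 := by
  have hJ := MFive.JTwo.isoJ2 hy hf
  obtain ⟨t, u, Q, v, ρ, D⟩ := KFacts.J2.Facts.exists_dat_of hJ
  have : Finite (XX y) := Quotient.finite _
  -- the image of `z`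
  set! zb : XX y := LThreeMB.mk y hzy with hzb
  have hzb7 : orderOf zb = 7 := by
    have : Fact (Nat.Prime 7) := ⟨by norm_num⟩
    refine orderOf_eq_prime ?_ ?_
    · have hck : z ^ 7 * y = y * z ^ 7 := (show Commute z y from hzy).pow_left 7
      have h2 : zb ^ 7 = LThreeMB.mk y hck := rfl
      rw [h2, LThreeMB.mk_eq_one]
      exact ⟨0, by rw [zpow_zero, ← hz, pow_orderOf_eq_one]⟩
    · intro h
      rw [hzb, LThreeMB.mk_eq_one] at h
      obtain ⟨i, hi⟩ := h
      have h3 : z ^ 5 = 1 := by
        rw [← hi, ← zpow_natCast, ← zpow_mul, mul_comm, zpow_mul, zpow_natCast, ← hy, pow_orderOf_eq_one, one_zpow]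
      have h4 := orderOf_dvd_of_pow_eq_one h3
      rw [hz] at h4
      norm_num at h4
  have h7 := H8.Ore.JBound.seven D.F hzb7
  set! K : Subgroup Co1 := centralizer ({z} : Set Co1) ⊓ centralizer ({y} : Set Co1) with hK; rewrite [← hK]
  let f : ↥K →* XX y := (QuotientGroup.mk' (Zx y)).comp (Subgroup.inclusion inf_le_right)
  have hrange : f.range ≤ centralizer ({zb} : Set (XX y)) := by
    rintro _ ⟨k, rfl⟩
    rw [mem_centralizer_singleton_iff]
    have h1 := mem_centralizer_singleton_iff.1 (k.2.1)
    have h2 := mem_centralizer_singleton_iff.1 (k.2.2)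
    change (QuotientGroup.mk (⟨(k : Co1), _⟩ : centralizer ({y} : Set Co1)) : XX y) * QuotientGroup.mk ⟨z, _⟩ =
      QuotientGroup.mk ⟨z, _⟩ * QuotientGroup.mk ⟨(k : Co1), _⟩
    rw [← QuotientGroup.mk_mul, ← QuotientGroup.mk_mul]
    exact congrArg _ (Subtype.ext h1)
  have hker : Nat.card f.ker ≤ 5 := by
    have h1 : f.ker.map K.subtype ≤ zpowers y := by
      rintro _ ⟨k, hk, rfl⟩
      have h2 := mem_centralizer_singleton_iff.1 (k.2.2)
      have h3 : LThreeMB.mk y h2 = 1 := hk
      rw [LThreeMB.mk_eq_one] at h3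
      obtain ⟨i, hi⟩ := h3
      exact ⟨i, hi⟩
    have h2 := Subgroup.card_le_of_le h1
    rwa [Subgroup.card_map_of_injective K.subtype_injective, Nat.card_zpowers, hy] at h2
  have hcard : Nat.card K = Nat.card f.ker * Nat.card f.range := by
    rw [← Subgroup.card_mul_index f.ker, Subgroup.index_ker]
  rw [hcard]
  have h8 := Subgroup.card_le_of_le hrange
  rw [h7] at h8
  calc Nat.card f.ker * Nat.card f.range ≤ 5 * 7 := Nat.mul_le_mul hker h8
    _ = 35 := by norm_num

/-- **order five, one fixed point** -/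
theorem five_one {g y : Co1} (hy : orderOf y = 5) (hf : fr y = 1) (hyg : y ∈ zpowers g)
    (hodd : ¬ 2 ∣ Nat.card (centralizer ({g} : Set Co1))) : Nat.card (centralizer ({g} : Set Co1)) ≤ 3375 := by
  have hJ := MFive.JTwo.isoJ2 hy hf
  have hJc : Nat.card (centralizer ({y} : Set Co1)) = 3024000 := by
    obtain ⟨e⟩ := hJ
    have h2 : Nat.card Cfsg.Spor.J2 = 604800 := Cfsg.Agent.S1619.result.2.2.2
    rw [card_cent_XX, hy, Nat.card_congr e.toEquiv, h2]
  have hle := cent_le hyg
  have hd := cent_dvd hyg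
  by_cases h7 : 7 ∣ Nat.card (centralizer ({g} : Set Co1))
  · refine le_trans ?_ (by norm_num : (35 : ℕ) ≤ 3375)
    have f7 : Fact (Nat.Prime 7) := ⟨by norm_num⟩
    obtain ⟨z, hz⟩ := exists_prime_orderOf_dvd_card' (G := centralizer ({g} : Set Co1)) 7 h7
    have hz' : orderOf (z : Co1) = 7 := (orderOf_coe z).trans hz
    have hzg := mem_centralizer_singleton_iff.1 z.2
    have hzy := mem_centralizer_singleton_iff.1 (hle z.2)
    have hK := card_inf hy hf hz' hzy
    set! K : Subgroup Co1 := centralizer ({(z : Co1)} : Set Co1) ⊓ centralizer ({y} : Set Co1) with hKdef; rewrite [← hKdef] at hK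
    have hgK : g ∈ K := by
      refine ⟨mem_centralizer_singleton_iff.2 hzg.symm, hle (mem_centralizer_singleton_iff.2 rfl)⟩
    have hzK : (z : Co1) ∈ K := ⟨mem_centralizer_singleton_iff.2 rfl, hle z.2⟩
    have hyK : y ∈ K := ⟨mem_centralizer_singleton_iff.2 hzy.symm, mem_centralizer_singleton_iff.2 rfl⟩
    have h35 : Nat.card K = 35 := by
      have h1 : 5 ∣ Nat.card K := by
        rw [← hy, ← Subgroup.orderOf_mk y hyK]
        exact _root_.orderOf_dvd_natCard _
      have h2 : 7 ∣ Nat.card K := by
        rw [← hz', ← Subgroup.orderOf_mk (z : Co1) hzK]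
        exact _root_.orderOf_dvd_natCard _
      have h3 : 0 < Nat.card K := Nat.card_pos
      (clear * - hK h1 h2 h3; omega)
    have hgd : orderOf g ∣ 35 := by
      rw [← h35, ← Subgroup.orderOf_mk g hgK]
      exact _root_.orderOf_dvd_natCard _
    have h5g : 5 ∣ orderOf g := by
      obtain ⟨n, rfl⟩ := hyg
      rw [← hy]
      apply orderOf_dvd_of_pow_eq_one
      rw [← zpow_natCast, ← zpow_mul, mul_comm, zpow_mul, zpow_natCast, pow_orderOf_eq_one, one_zpow]
    obtain ⟨m, hm⟩ := h5g
    rw [hm] at hgd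
    have hm7 : m ∣ 7 := by
      have : 5 * m ∣ 5 * 7 := by simpa only [_root_.Nat.reduceMul] using hgd
      exact Nat.dvd_of_mul_dvd_mul_left (by norm_num) this
    rcases (Nat.dvd_prime (by norm_num : Nat.Prime 7)).1 hm7 with rfl | rfl
    · exfalso
      -- `⟨g⟩ = ⟨y⟩`
      have h1 : zpowers y = zpowers g := by
        refine Subgroup.eq_of_le_of_card_ge (by rw [zpowers_le]; exact hyg) ?_
        rw [Nat.card_zpowers, Nat.card_zpowers, hy, hm]
      have h2 : g ∈ zpowers y := by rw [h1]; exact mem_zpowers g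
      have h3 := cent_dvd h2
      rw [hJc] at h3
      exact hodd ((by norm_num : (2 : ℕ) ∣ 3024000).trans h3)
    · have h1 : zpowers g = K := by
        refine Subgroup.eq_of_le_of_card_ge (by rw [zpowers_le]; exact hgK) ?_
        rw [Nat.card_zpowers, hm, h35]
      have h2 : (z : Co1) ∈ zpowers g := by rw [h1]; exact hzK
      exact (Subgroup.card_le_of_le (le_inf (cent_le h2) hle)).trans hK
  · have h0 : Nat.card (centralizer ({g} : Set Co1)) ≠ 0 := Nat.card_pos.ne'
    rw [hJc] at hd
    have h5 := H813.CoSevenCard.reduce (p := 2) (by norm_num) 7 0 h0 (M := 23625) (hd.trans (by norm_num)) (by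
      rw [zero_add, pow_one]; exact hodd)
    have h6 := H813.CoSevenCard.reduce (p := 7) (by norm_num) 1 0 h0 (M := 3375) (h5.trans (by norm_num)) (by
      rw [zero_add, pow_one]; exact h7)
    exact Nat.le_of_dvd (by norm_num) (h6.trans (by norm_num))

end Cfsg.Agent.H253.CoOdd
end

-- part: H11/QO/Monom
section
/-!
# The monomial subgroup `2^12:M24` of `Co0`: every element is a commutator (helper11, rows of S2491 / S2492)

* `oreM` : every `l ≠ 1` of `M24` is `[a, b]` with `a` of order 23 and no letter fixed by `a` and `b`;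
* `code_eq` : every code word is `(u + b u) + (v + a v)` for such `a`, `b`;
* `isC_sign` : every sign change of `Co0` is a commutator of `Co0`; `isC_N` : every element of `2^12:M24`;
* `isC_of_F`, `isC_two`, `isC_isD` : the lifts of the elements of `2^11:M24`, of the 2-elements and of the elements
  commuting with a dodecad involution.
-/

set_option autoImplicit false

namespace Cfsg.Agent.H11.QO.Monom

open Cfsg Cfsg.Agent.SporadicA.GolayBase Cfsg.Agent.SporadicA.GolayPerm
open Cfsg.Agent.SporadicStructure.M24El Cfsg.Agent.H517.Ore.MBase Cfsg.Agent.H517.Ore.MCheck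
open Cfsg.Agent.H517.Ore.MPat Cfsg.Agent.H517.Ore.MAll
open Cfsg.Agent.SporadicA.Co0Mono Cfsg.Agent.SporadicA.Co1Simple
open Cfsg.Agent.H777.Ore (IsC)
open scoped Pointwise

/-- the action on the points (shortcut for the instance search) -/
@[reducible] noncomputable def smulPt : SMul M24 GolayPt := inferInstance

attribute [local instance] smulPt

/-! ### Pairs of `M24` -/

/-- `[a, b]` with `a` of order 23 and no common fixed letter -/
def OreM (l : M24) : Prop :=
  ∃ a b : M24, l = a * b * a⁻¹ * b⁻¹ ∧ orderOf a = 23 ∧ ∀ p : GolayPt, a • p = p → b • p ≠ p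

theorem OreM.conj {l : M24} (h : OreM l) (x : M24) : OreM (x * l * x⁻¹) := by
  obtain ⟨a, b, hl, ho, hp⟩ := h
  refine ⟨x * a * x⁻¹, x * b * x⁻¹, by rw [hl]; group, ?_, ?_⟩
  · rw [← ho]
    exact MulEquiv.orderOf_eq (MulAut.conj x) a
  · intro p h1 h2
    rw [mul_smul, mul_smul] at h1 h2
    exact hp (x⁻¹ • p) (eq_inv_smul_iff.2 h1) (eq_inv_smul_iff.2 h2)

theorem OreM.of_conj {l x : M24} (h : OreM (x * l * x⁻¹)) : OreM l := by
  have h1 := h.conj x⁻¹
  have h2 : x⁻¹ * (x * l * x⁻¹) * x⁻¹⁻¹ = l := by group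
  rwa [h2] at h1

/-- no common fixed letter -/
def mvb (t : ℕ × ℕ × ℕ) : Bool :=
  (List.range 24).all fun i => !(Nat.beq (papp t.2.1 i) i && Nat.beq (papp t.2.2 i) i)

theorem wit_specM {t : ℕ × ℕ × ℕ} (h : wit [] 23 t = true) (hm : mvb t = true) : OreM (el t.1) := by
  obtain ⟨r, a, b⟩ := t
  have h' := h
  simp only [wit, Bool.and_eq_true, Bool.not_eq_true'] at h
  obtain ⟨⟨⟨⟨⟨⟨⟨hr, ha⟩, hb⟩, hfa⟩, hfb⟩, hab⟩, hne⟩, hpw⟩ := h
  have h1 := congrArg el (Nat.eq_of_beq_eq_true hab)
  rw [el_pcomp ha hb, el_pcomp hr (ok_pcomp hb ha), el_pcomp hb ha] at h1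
  refine ⟨el a, el b, ?_, ?_, ?_⟩
  · show el r = _
    rw [h1]; group
  · have : Fact (Nat.Prime 23) := ⟨by norm_num⟩
    apply orderOf_eq_prime
    · rw [← el_pw ha, Nat.eq_of_beq_eq_true hpw, el_idP]
    · intro h2
      have h3 : fixL a (List.range 24) = true := by
        rw [fixL_iff ha (fun i hi => List.mem_range.1 hi)]
        intro i _
        rw [h2, one_smul]
      rw [h3] at hne
      exact absurd hne (by decide)
  · intro p h2 h3
    have h4 := List.all_eq_true.1 hm (idx p) (List.mem_range.2 (idx_lt p))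
    have h5 : papp a (idx p) = idx p := by rw [← idx_el_smul ha, h2]
    have h6 : papp b (idx p) = idx p := by rw [← idx_el_smul hb, h3]
    simp only [h5, h6] at h4
    simp at h4

theorem one_specM {RT : List (ℕ × ℕ × ℕ)} (hR : RT.all (wit [] 23) = true) (hM : RT.all mvb = true) {g m : ℕ}
    (hg : ok g = true) (h : one [] RT g m = true) : OreM (el g) := by
  simp only [one, Bool.and_eq_true] at h
  obtain ⟨⟨⟨h1, -⟩, h3⟩, h4⟩ := h
  have h5 := Nat.eq_of_beq_eq_true h4
  have h3' : m % 32 < RT.length := Nat.blt_eq.mp h3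
  rw [List.getD_eq_getElem _ _ h3'] at h5
  have h6 := List.all_eq_true.1 hR _ (List.getElem_mem h3')
  have h6' := List.all_eq_true.1 hM _ (List.getElem_mem h3')
  have hP := wit_specM h6 h6'
  have hr := (wit_spec (n := 23) (by norm_num) (by decide) h6).1
  refine OreM.of_conj (x := el (m / 32)) ?_
  have h7 := congrArg el h5
  rw [el_pcomp h1 hg, el_pcomp hr h1] at h7
  rw [h7, mul_inv_cancel_right]
  exact hP

/-- **cosets** -/
theorem cosetM {RT : List (ℕ × ℕ × ℕ)} {HT : List (List (List ℕ))} {c : ℕ}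
    (h : chkC [] 23 c RT HT = true) (hM : RT.all mvb = true) (g : M24)
    (hg : ∀ j ∈ [23, 0, 1, 2], g • pt j = pt (papp c j)) : OreM g := by
  simp only [chkC, Bool.and_eq_true] at h
  obtain ⟨⟨hc, hR⟩, hU⟩ := h
  have hk : ∀ j ∈ [23, 0, 1, 2], ((el c)⁻¹ * g) • pt j = pt j := by
    intro j hj
    have hj24 : ∀ j ∈ [23, 0, 1, 2], j < 24 := by decide
    rw [mul_smul, inv_smul_eq_iff, hg j hj, el_smul_pt hc, idx_pt (hj24 j hj)]
  obtain ⟨u, hu, v, hv, w, hw, huo, hvo, hwo, he⟩ := factor _ hk
  obtain ⟨m, hm⟩ := chkU_spec hU u hu v hv w hw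
  have h1 := one_specM hR hM (ok_pcomp (ok_pcomp (ok_pcomp hc huo) hvo) hwo) hm
  rw [el_pcomp (ok_pcomp (ok_pcomp hc huo) hvo) hwo, el_pcomp (ok_pcomp hc huo) hvo,
    el_pcomp hc huo] at h1
  have h2 : g = el c * el u * el v * el w := by
    have : g = el c * ((el c)⁻¹ * g) := by group
    rw [this, he]; group
  rw [h2]
  exact h1

theorem useM {RT : List (ℕ × ℕ × ℕ)} {HT : List (List (List ℕ))} {c : ℕ}
    (h : chkC [] 23 c RT HT = true) (hM : RT.all mvb = true) {l x : M24} {p0 p1 p2 p3 : GolayPt} (h0 : x • p0 = pt 23)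
    (h1 : x • p1 = pt 0) (h2 : x • p2 = pt 1) (h3 : x • p3 = pt 2) {i0 i1 i2 i3 : ℕ}
    (hi : papp c 23 = i0 ∧ papp c 0 = i1 ∧ papp c 1 = i2 ∧ papp c 2 = i3)
    (q0 : x • l • p0 = pt i0) (q1 : x • l • p1 = pt i1) (q2 : x • l • p2 = pt i2)
    (q3 : x • l • p3 = pt i3) : OreM l := by
  refine OreM.of_conj (x := x) (cosetM h hM _ ?_)
  obtain ⟨e0, e1, e2, e3⟩ := hi
  intro j hj
  simp only [List.mem_cons, List.not_mem_nil, or_false] at hj
  rcases hj with rfl | rfl | rfl | rfl
  · rw [e0, ← h0, mul_smul, mul_smul, inv_smul_smul, q0]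
  · rw [e1, ← h1, mul_smul, mul_smul, inv_smul_smul, q1]
  · rw [e2, ← h2, mul_smul, mul_smul, inv_smul_smul, q2]
  · rw [e3, ← h3, mul_smul, mul_smul, inv_smul_smul, q3]

theorem mA : H517.Ore.M24a.RT.all mvb = true := by decide +kernel
theorem mB : H517.Ore.M24b.RT.all mvb = true := by decide +kernel
theorem mC : H517.Ore.M24c.RT.all mvb = true := by decide +kernel
theorem mD : H517.Ore.M24d.RT.all mvb = true := by decide +kernel

/-- **pairs of `M24`** -/
theorem oreM (l : M24) (hl : l ≠ 1) : OreM l := by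
  have inj : ∀ {a b : GolayPt}, l • a = l • b → a = b := fun h => smul_left_cancel l h
  by_cases hA : ∃ p : GolayPt, l • l • p ≠ p ∧ l • l • l • p ≠ p
  · obtain ⟨p, h2, h3⟩ := hA
    have n1 : l • p ≠ p := fun e => h2 (by rw [e, e])
    by_cases h4 : l • l • l • l • p = p
    · obtain ⟨e, he⟩ := exists_new [p, l • p, l • l • p, l • l • l • p] (by norm_num)
      have hn : [p, l • p, l • l • p, l • l • l • p, e].Nodup := by
        simp only [List.nodup_cons, List.mem_cons, List.not_mem_nil, or_false, not_or,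
          not_false_eq_true, List.nodup_nil, and_true] at he ⊢
        exact ⟨⟨n1.symm, h2.symm, h3.symm, fun x => he.1 x.symm⟩,
          ⟨fun x => n1.symm (inj x), fun x => h2.symm (inj x), fun x => he.2.1 x.symm⟩,
          ⟨fun x => n1.symm (inj (inj x)), fun x => he.2.2.1 x.symm⟩, fun x => he.2.2.2 x.symm⟩
      obtain ⟨x, x0, x1, x2, x3, x4⟩ := toBase hn
      exact useM H517.Ore.M24b.chk mB x0 x1 x2 x3 (i0 := 0) (i1 := 1) (i2 := 2) (i3 := 23)
        (by decide +kernel) x1 x2 x3 (by rw [h4, x0])
    · have hn : [p, l • p, l • l • p, l • l • l • p, l • l • l • l • p].Nodup := by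
        simp only [List.nodup_cons, List.mem_cons, List.not_mem_nil, or_false, not_or,
          not_false_eq_true, List.nodup_nil, and_true]
        exact ⟨⟨n1.symm, h2.symm, h3.symm, fun x => h4 x.symm⟩,
          ⟨fun x => n1.symm (inj x), fun x => h2.symm (inj x), fun x => h3.symm (inj x)⟩,
          ⟨fun x => n1.symm (inj (inj x)), fun x => h2.symm (inj (inj x))⟩,
          fun x => n1.symm (inj (inj (inj x)))⟩
      obtain ⟨x, x0, x1, x2, x3, x4⟩ := toBase hn
      exact useM H517.Ore.M24a.chk mA x0 x1 x2 x3 (i0 := 0) (i1 := 1) (i2 := 2) (i3 := 3)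
        (by decide +kernel) x1 x2 x3 x4
  · push Not at hA
    by_cases hC : ∃ p : GolayPt, l • l • p ≠ p
    · obtain ⟨p, h2⟩ := hC
      have h3 := hA p h2
      have n1 : l • p ≠ p := fun e => h2 (by rw [e, e])
      by_cases hq : ∃ q, q ≠ p ∧ q ≠ l • p ∧ q ≠ l • l • p ∧ l • q ≠ q
      · obtain ⟨q, q1, q2, q3, q4⟩ := hq
        have hn : [p, l • p, l • l • p, q, l • q].Nodup := by
          simp only [List.nodup_cons, List.mem_cons, List.not_mem_nil, or_false, not_or,
            not_false_eq_true, List.nodup_nil, and_true]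
          refine ⟨⟨n1.symm, h2.symm, q1.symm, fun x => ?_⟩,
            ⟨fun x => n1.symm (inj x), q2.symm, fun x => q1 (inj x).symm⟩,
            ⟨q3.symm, fun x => q2 (inj x).symm⟩, q4.symm⟩
          rw [← h3] at x
          exact q3 (inj x).symm
        obtain ⟨x, x0, x1, x2, x3, x4⟩ := toBase hn
        exact useM H517.Ore.M24c.chk mC x0 x1 x2 x3 (i0 := 0) (i1 := 1) (i2 := 23) (i3 := 3)
          (by decide +kernel) x1 x2 (by rw [h3, x0]) x4
      · push Not at hq
        exfalso
        refine hl (eq_one_of_three (a := p) (b := l • p) (c := l • l • p) ?_ fun q a b c => hq q a b c)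
        simp only [List.nodup_cons, List.mem_cons, List.not_mem_nil, or_false, not_or,
          not_false_eq_true, List.nodup_nil, and_true]
        exact ⟨⟨n1.symm, h2.symm⟩, fun x => n1.symm (inj x)⟩
    · push Not at hC
      obtain ⟨p, n1⟩ := exists_moved hl
      have h2 := hC p
      by_cases hq : ∃ q, q ≠ p ∧ q ≠ l • p ∧ l • q ≠ q
      · obtain ⟨q, q1, q2, q4⟩ := hq
        have h3 := hC q
        obtain ⟨e, he⟩ := exists_new [p, l • p, q, l • q] (by norm_num)
        have hn : [p, l • p, q, l • q, e].Nodup := by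
          simp only [List.nodup_cons, List.mem_cons, List.not_mem_nil, or_false, not_or,
            not_false_eq_true, List.nodup_nil, and_true] at he ⊢
          refine ⟨⟨n1.symm, q1.symm, fun x => ?_, fun x => he.1 x.symm⟩,
            ⟨q2.symm, fun x => q1 (inj x).symm, fun x => he.2.1 x.symm⟩,
            ⟨q4.symm, fun x => he.2.2.1 x.symm⟩, fun x => he.2.2.2 x.symm⟩
          rw [← h2] at x
          exact q2 (inj x).symm
        obtain ⟨x, x0, x1, x2, x3, x4⟩ := toBase hn
        exact useM H517.Ore.M24d.chk mD x0 x1 x2 x3 (i0 := 0) (i1 := 23) (i2 := 2) (i3 := 1)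
          (by decide +kernel) x1 (by rw [h2, x0]) x3 (by rw [h3, x2])
      · push Not at hq
        exfalso
        obtain ⟨e, he⟩ := exists_new [p, l • p] (by norm_num)
        refine hl (eq_one_of_three (a := p) (b := l • p) (c := e) ?_ fun q a b _ => hq q a b)
        simp only [List.nodup_cons, List.mem_cons, List.not_mem_nil, or_false, not_or,
          not_false_eq_true, List.nodup_nil, and_true] at he ⊢
        exact ⟨⟨n1.symm, fun x => he.1 x.symm⟩, fun x => he.2 x.symm⟩

/-! ### The code -/

theorem wp_add (σ : M24) (c d : golayCode) : wordPerm σ (c + d) = wordPerm σ c + wordPerm σ d := rfl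

theorem add_self (c : golayCode) : c + c = 0 := signCo0_add_self c

theorem fin_code : Finite golayCode := by
  have : Finite (GolayPt → ZMod 2) := inferInstance
  infer_instance

theorem card_pt : Nat.card GolayPt = 24 := by
  rw [Nat.card_eq_fintype_card]; decide

/-- two elements of order 23 -/
theorem exists_pow {a s : M24} (ha : orderOf a = 23) (hs : orderOf s = 23) :
    ∃ (g : M24) (k : ℕ), (g * a * g⁻¹) ^ k = s := by
  classical
  have : Fact (Nat.Prime 23) := ⟨by norm_num⟩
  have hfin : Finite M24 := inferInstance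
  have hcard : Nat.card M24 = 244823040 := Cfsg.Agent.S0364.result
  have hsyl : ∀ x : M24, orderOf x = 23 → ∃ S : Sylow 23 M24, (S : Subgroup M24) = Subgroup.zpowers x := by
    intro x hx
    have h1 : Nat.card (Subgroup.zpowers x) = 23 := by rw [Nat.card_zpowers, hx]
    have h2 : IsPGroup 23 (Subgroup.zpowers x) := IsPGroup.of_card (n := 1) (by rw [h1, pow_one])
    have h3 : ¬ 23 ∣ (Subgroup.zpowers x).index := by
      have h4 := Subgroup.card_mul_index (Subgroup.zpowers x)
      rw [h1, hcard] at h4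
      have h5 : (Subgroup.zpowers x).index = 10644480 := by omega
      rw [h5]; norm_num
    exact ⟨h2.toSylow h3, rfl⟩
  obtain ⟨S, hS⟩ := hsyl a ha
  obtain ⟨T, hT⟩ := hsyl s hs
  obtain ⟨g, hg⟩ := MulAction.exists_smul_eq M24 S T
  refine ⟨g, ?_⟩
  have h1 : s ∈ (g • S : Sylow 23 M24) := by
    rw [hg]
    show s ∈ (T : Subgroup M24)
    rw [hT]
    exact Subgroup.mem_zpowers s
  have h2 : s ∈ (MulAut.conj g) • (S : Subgroup M24) := h1
  rw [hS, Subgroup.mem_smul_pointwise_iff_exists] at h2
  obtain ⟨y, hy, e⟩ := h2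
  have hy' : y ∈ Submonoid.powers a := (mem_powers_iff_mem_zpowers).2 hy
  obtain ⟨k, rfl⟩ := hy'
  refine ⟨k, ?_⟩
  rw [← e]
  show _ = g * a ^ k * g⁻¹
  rw [conj_pow]

/-- code words fixed by an element of order 23 -/
theorem fixed_word {a : M24} (ha : orderOf a = 23) {c : golayCode} (hc : wordPerm a c = c) : c = 0 ∨ c = allOne := by
  have hs : orderOf shift = 23 := by
    have : Fact (Nat.Prime 23) := ⟨by norm_num⟩
    apply orderOf_eq_prime shift_pow_23
    intro h
    apply x23_ne_one
    show permCo0 shift = 1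
    rw [h, map_one]
  obtain ⟨g, k, e⟩ := exists_pow ha hs
  have h1 : wordPerm (g * a * g⁻¹) (wordPerm g c) = wordPerm g c := by
    rw [wordPerm_mul, wordPerm_mul, ← wordPerm_mul g⁻¹ g, inv_mul_cancel, wordPerm_one, hc]
  have h2 : ∀ n : ℕ, wordPerm ((g * a * g⁻¹) ^ n) (wordPerm g c) = wordPerm g c := by
    intro n
    induction n with
    | zero => rw [pow_zero, wordPerm_one]
    | succ n ih => rw [pow_succ, wordPerm_mul, h1, ih]
  have h3 : wordPerm shift (wordPerm g c) = wordPerm g c := by rw [← e]; exact h2 k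
  have h4 : c = wordPerm g⁻¹ (wordPerm g c) := by rw [← wordPerm_mul, inv_mul_cancel, wordPerm_one]
  rcases MonsterU.CoFrameF.eq_of_shift h3 with h | h
  · left
    rw [h4, h]; rfl
  · right
    rw [h4, h]; rfl

theorem exists_fixed {a : M24} (ha : orderOf a = 23) : ∃ p : GolayPt, a • p = p := by
  have : Fact (Nat.Prime 23) := ⟨by norm_num⟩
  have hp : IsPGroup 23 (Subgroup.zpowers a) := IsPGroup.of_card (n := 1) (by rw [Nat.card_zpowers, ha, pow_one])
  have h1 : ¬ 23 ∣ Nat.card GolayPt := by rw [card_pt]; norm_num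
  obtain ⟨p, hp⟩ := hp.nonempty_fixed_point_of_prime_not_dvd_card GolayPt h1
  exact ⟨p, hp ⟨a, Subgroup.mem_zpowers a⟩⟩

/-- words vanishing at the letter fixed by an element of order 23 -/
theorem exists_half {a : M24} (ha : orderOf a = 23) {p : GolayPt} (hp : a • p = p) {c : golayCode}
    (hc : (c : GolayPt → ZMod 2) p = 0) : ∃ v : golayCode, c = v + wordPerm a v := by
  have hfin := fin_code
  let W := {c : golayCode // (c : GolayPt → ZMod 2) p = 0}
  have hfix : ∀ d : golayCode, (wordPerm a d : GolayPt → ZMod 2) p = (d : GolayPt → ZMod 2) p := by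
    intro d
    have e : (a : Equiv.Perm GolayPt).symm p = p := (Equiv.symm_apply_eq _).2 hp.symm
    rw [wordPerm_apply, e]
  let f : W → W := fun v => ⟨v.1 + wordPerm a v.1, by
    show (v.1 : GolayPt → ZMod 2) p + (wordPerm a v.1 : GolayPt → ZMod 2) p = 0
    rw [hfix, v.2, add_zero]⟩
  have hinj : Function.Injective f := by
    intro v w h
    have h1 : v.1 + wordPerm a v.1 = w.1 + wordPerm a w.1 := congrArg Subtype.val h
    have h2 : wordPerm a (v.1 + w.1) = v.1 + w.1 := by
      rw [wp_add]
      calc wordPerm a v.1 + wordPerm a w.1 = (v.1 + v.1) + (wordPerm a v.1 + wordPerm a w.1) := by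
            rw [add_self, zero_add]
        _ = v.1 + (v.1 + wordPerm a v.1) + wordPerm a w.1 := by abel
        _ = v.1 + (w.1 + wordPerm a w.1) + wordPerm a w.1 := by rw [h1]
        _ = v.1 + w.1 + (wordPerm a w.1 + wordPerm a w.1) := by abel
        _ = v.1 + w.1 := by rw [add_self, add_zero]
    have h3 : v.1 + w.1 = 0 := by
      rcases fixed_word ha h2 with h3 | h3
      · exact h3
      · exfalso
        have h4 : ((v.1 + w.1 : golayCode) : GolayPt → ZMod 2) p = 1 := by rw [h3]; rfl
        have h5 : ((v.1 + w.1 : golayCode) : GolayPt → ZMod 2) p = 0 := by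
          show (v.1 : GolayPt → ZMod 2) p + (w.1 : GolayPt → ZMod 2) p = 0
          rw [v.2, w.2, add_zero]
        rw [h5] at h4
        exact absurd h4 (by decide)
    apply Subtype.ext
    calc v.1 = v.1 + (w.1 + w.1) := by rw [add_self, add_zero]
      _ = (v.1 + w.1) + w.1 := by abel
      _ = w.1 := by rw [h3, zero_add]
  obtain ⟨v, hv⟩ := (Finite.surjective_of_injective hinj) ⟨c, hc⟩
  exact ⟨v.1, (congrArg Subtype.val hv).symm⟩

/-- code words separate letters -/
theorem exists_sep {p r : GolayPt} (h : p ≠ r) : ∃ c : golayCode, (c : GolayPt → ZMod 2) p ≠ (c : GolayPt → ZMod 2) r := by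
  obtain ⟨e, he⟩ := exists_new [p, r] (by norm_num)
  obtain ⟨f, hf⟩ := exists_new [p, r, e] (by norm_num)
  obtain ⟨g, hg⟩ := exists_new [p, r, e, f] (by norm_num)
  have hn : [p, r, e, f, g].Nodup := by
    simp only [List.nodup_cons, List.mem_cons, List.not_mem_nil, or_false, not_or,
      not_false_eq_true, List.nodup_nil, and_true] at he hf hg ⊢
    exact ⟨⟨h, fun x => he.1 x.symm, fun x => hf.1 x.symm, fun x => hg.1 x.symm⟩,
      ⟨fun x => he.2 x.symm, fun x => hf.2.1 x.symm, fun x => hg.2.1 x.symm⟩,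
      ⟨fun x => hf.2.2 x.symm, fun x => hg.2.2.1 x.symm⟩, fun x => hg.2.2.2 x.symm⟩
  obtain ⟨x, x0, x1, -, -, -⟩ := toBase hn
  refine ⟨wordPerm x⁻¹ (q 0), ?_⟩
  have hx : ∀ s : GolayPt, (wordPerm x⁻¹ (q 0) : GolayPt → ZMod 2) s = qrWord 0 (x • s) := fun s => rfl
  rw [hx, hx, x0, x1]
  decide +kernel

/-- **the code is `(1 + b) C + (1 + a) C`** -/
theorem code_eq {a b : M24} (ha : orderOf a = 23) (hab : ∀ p : GolayPt, a • p = p → b • p ≠ p) (c : golayCode) :
    ∃ u v : golayCode, c = (u + wordPerm b u) + (v + wordPerm a v) := by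
  obtain ⟨p, hp⟩ := exists_fixed ha
  by_cases hc : (c : GolayPt → ZMod 2) p = 0
  · obtain ⟨v, hv⟩ := exists_half ha hp hc
    refine ⟨0, v, ?_⟩
    rw [← hv]
    show c = (0 + wordPerm b 0) + c
    rw [show wordPerm b 0 = 0 from rfl, add_zero, zero_add]
  · have hc1 : (c : GolayPt → ZMod 2) p = 1 :=
      (Cfsg.Agent.SporadicStructure.LeechBase.zmod2_cases _).resolve_left hc
    have hbp : p ≠ b⁻¹ • p := by
      intro h
      apply hab p hp
      conv_lhs => rw [h]
      rw [smul_inv_smul]
    obtain ⟨u, hu⟩ := exists_sep hbp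
    have hd : ((u + wordPerm b u : golayCode) : GolayPt → ZMod 2) p = 1 := by
      show (u : GolayPt → ZMod 2) p + (u : GolayPt → ZMod 2) (b⁻¹ • p) = 1
      generalize (u : GolayPt → ZMod 2) p = s at hu ⊢
      generalize (u : GolayPt → ZMod 2) (b⁻¹ • p) = t at hu ⊢
      revert s t
      decide
    have h0 : ((c + (u + wordPerm b u) : golayCode) : GolayPt → ZMod 2) p = 0 := by
      show (c : GolayPt → ZMod 2) p + ((u + wordPerm b u : golayCode) : GolayPt → ZMod 2) p = 0
      rw [hc1, hd]; decide
    obtain ⟨v, hv⟩ := exists_half ha hp h0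
    refine ⟨u, v, ?_⟩
    rw [← hv]
    calc c = c + 0 := (add_zero c).symm
      _ = c + ((u + wordPerm b u) + (u + wordPerm b u)) := by rw [add_self]
      _ = (u + wordPerm b u) + (c + (u + wordPerm b u)) := by abel

/-! ### `Co0` -/

theorem comm_sign (σ : M24) (c : golayCode) :
    signCo0 c * permCo0 σ * (signCo0 c)⁻¹ * (permCo0 σ)⁻¹ = signCo0 (c + wordPerm σ c) := by
  rw [signCo0_inv, mul_assoc (signCo0 c), mul_assoc, perm_mul_sign_mul_inv, ← signCo0_add]

/-- the involution `x ↦ -1/x` -/
noncomputable def J : M24 := ⟨projInv, Cfsg.Agent.S0372.result⟩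

theorem q0_J : q 0 + wordPerm J (q 0) = allOne := by
  apply Subtype.ext
  funext p
  show qrWord 0 p + qrWord 0 ((projInv).symm p) = 1
  revert p
  decide +kernel

/-- **every sign change is a commutator** -/
theorem isC_sign (c : golayCode) : IsC (signCo0 c) := by
  by_cases h : c = allOne
  · refine ⟨signCo0 (q 0), permCo0 J, ?_⟩
    rw [comm_sign, q0_J, h]
  · obtain ⟨p, hp⟩ : ∃ p, (c : GolayPt → ZMod 2) p = 0 := by
      by_contra hno
      push Not at hno
      apply h
      apply Subtype.ext
      funext p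
      exact (Cfsg.Agent.SporadicStructure.LeechBase.zmod2_cases _).resolve_left (hno p)
    -- an element of order 23 fixing `p`
    obtain ⟨a, ha, hap⟩ : ∃ a : M24, orderOf a = 23 ∧ a • p = p := by
      have hs : orderOf shift = 23 := by
        have : Fact (Nat.Prime 23) := ⟨by norm_num⟩
        apply orderOf_eq_prime shift_pow_23
        intro h
        apply x23_ne_one
        show permCo0 shift = 1
        rw [h, map_one]
      obtain ⟨e1, he1⟩ := exists_new [p] (by norm_num)
      obtain ⟨e2, he2⟩ := exists_new [p, e1] (by norm_num)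
      obtain ⟨e3, he3⟩ := exists_new [p, e1, e2] (by norm_num)
      obtain ⟨e4, he4⟩ := exists_new [p, e1, e2, e3] (by norm_num)
      have hn : [p, e1, e2, e3, e4].Nodup := by
        simp only [List.nodup_cons, List.mem_cons, List.not_mem_nil, or_false, not_or,
          not_false_eq_true, List.nodup_nil, and_true] at he1 he2 he3 he4 ⊢
        exact ⟨⟨fun x => he1 x.symm, fun x => he2.1 x.symm, fun x => he3.1 x.symm, fun x => he4.1 x.symm⟩,
          ⟨fun x => he2.2 x.symm, fun x => he3.2.1 x.symm, fun x => he4.2.1 x.symm⟩,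
          ⟨fun x => he3.2.2 x.symm, fun x => he4.2.2.1 x.symm⟩, fun x => he4.2.2.2 x.symm⟩
      obtain ⟨x, x0, -, -, -, -⟩ := toBase hn
      refine ⟨x⁻¹ * shift * x, ?_, ?_⟩
      · rw [← hs]
        have h1 : x⁻¹ * shift * x = MulAut.conj x⁻¹ shift := by
          rw [MulAut.conj_apply, inv_inv]
        rw [h1]
        exact MulEquiv.orderOf_eq (MulAut.conj x⁻¹) shift
      · rw [mul_smul, mul_smul, x0, pt23]
        have h1 : shift • (none : GolayPt) = none := rfl
        rw [h1, ← pt23, ← x0, inv_smul_smul]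
    obtain ⟨v, hv⟩ := exists_half ha hap hp
    refine ⟨signCo0 v, permCo0 a, ?_⟩
    rw [comm_sign, ← hv]

open MonsterU.CoFrameF (sp_mul) in
/-- **every element of `2^12:M24` is a commutator** -/
theorem isC_sp (c : golayCode) (l : M24) : IsC (signCo0 c * permCo0 l) := by
  by_cases hl : l = 1
  · rw [hl, map_one, mul_one]
    exact isC_sign c
  obtain ⟨a, b, hab, ha, hf⟩ := oreM l hl
  have ha' : orderOf a⁻¹ = 23 := by rw [orderOf_inv, ha]
  have hf' : ∀ p : GolayPt, a⁻¹ • p = p → b • p ≠ p := by
    intro p hp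
    apply hf
    rw [inv_smul_eq_iff] at hp
    exact hp.symm
  obtain ⟨U, V, hUV⟩ := code_eq ha' hf' (wordPerm a⁻¹ c)
  have hinv : ∀ (x : M24) (d : golayCode), wordPerm x (wordPerm x⁻¹ d) = d := fun x d => by
    rw [← wordPerm_mul, mul_inv_cancel, wordPerm_one]
  -- the pair
  set! u : golayCode := wordPerm a (U + (V + wordPerm a⁻¹ V)) with hu
  set! v : golayCode := wordPerm b V with hv
  refine ⟨signCo0 u * permCo0 a, signCo0 v * permCo0 b, ?_⟩
  have h1 : (signCo0 c * permCo0 l) * ((signCo0 v * permCo0 b) * (signCo0 u * permCo0 a)) =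
      (signCo0 u * permCo0 a) * (signCo0 v * permCo0 b) := by
    rw [sp_mul, sp_mul, sp_mul]
    have e1 : l * (b * a) = a * b := by rw [hab]; group
    rw [e1]
    congr 2
    -- the equation in the code
    have h2 : c = wordPerm a (U + wordPerm b U + (V + wordPerm a⁻¹ V)) := by rw [← hUV, hinv]
    have h3 : wordPerm l (v + wordPerm b u) = wordPerm (a * b * a⁻¹) V + wordPerm (a * b) (U + (V + wordPerm a⁻¹ V)) := by
      rw [wp_add, hv, hu, ← wordPerm_mul, ← wordPerm_mul, ← wordPerm_mul]
      have e2 : l * b = a * b * a⁻¹ := by rw [hab]; group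
      have e3 : l * b * a = a * b := by rw [e2]; group
      rw [e3, e2]
    have h4 : wordPerm (a * b * a⁻¹) V = wordPerm (a * b) (wordPerm a⁻¹ V) := wordPerm_mul _ _ _
    rw [h3, h4, h2, ← wp_add]
    have h5 : wordPerm a⁻¹ V + (U + (V + wordPerm a⁻¹ V)) = U + V := by
      calc wordPerm a⁻¹ V + (U + (V + wordPerm a⁻¹ V)) = U + V + (wordPerm a⁻¹ V + wordPerm a⁻¹ V) := by abel
        _ = U + V := by rw [add_self, add_zero]
    rw [h5, hu, hv, wordPerm_mul, ← wp_add, ← wp_add]
    congr 1
    rw [wp_add b]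
    calc U + wordPerm b U + (V + wordPerm a⁻¹ V) + (wordPerm b U + wordPerm b V)
        = U + (V + wordPerm a⁻¹ V) + wordPerm b V + (wordPerm b U + wordPerm b U) := by abel
      _ = U + (V + wordPerm a⁻¹ V) + wordPerm b V := by rw [add_self, add_zero]
  calc signCo0 c * permCo0 l = (signCo0 c * permCo0 l) * ((signCo0 v * permCo0 b) * (signCo0 u * permCo0 a)) *
        (signCo0 u * permCo0 a)⁻¹ * (signCo0 v * permCo0 b)⁻¹ := by group
    _ = _ := by rw [h1]

theorem isC_N {y : Co0} (hy : y ∈ N) : IsC y := by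
  obtain ⟨c, σ, h⟩ := exists_sign_perm hy
  rw [h]
  exact isC_sp c σ

open MonsterU.CoFrameF (F pr_mem_F) in
open Cfsg.Agent.CoOneType.CoOneE (pr) in
theorem isC_of_F {x h : Co0} (hx : pr h * pr x * (pr h)⁻¹ ∈ F) : IsC x := by
  rw [← map_inv, ← map_mul, ← map_mul, pr_mem_F] at hx
  exact (isC_N hx).of_conj h

open Cfsg.Agent.CoOneType.CoOneE (pr pr_surjective) in
/-- **the lifts of 2-elements** -/
theorem isC_two (g : Spor.Co1) (hg : ∃ i : ℕ, g ^ 2 ^ i = 1) (x : Co0) (hx : pr x = g) : IsC x := by
  obtain ⟨c, hc⟩ := H518.Ore.CoOneN.exists_conj_F hg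
  obtain ⟨t, rfl⟩ := pr_surjective c
  refine isC_of_F (h := t⁻¹) ?_
  rw [map_inv, inv_inv, hx]
  exact hc

open Cfsg.Agent.CoOneType.CoOneE (pr pr_surjective centralizer_dodecad_le) in
/-- **the lifts of the elements commuting with a dodecad involution** -/
theorem isC_isD (g u : Spor.Co1) (hu : ∃ d : golayCode, CoOneType.SignFacts.wt d = 12 ∧ IsConj (pr (signCo0 d)) u)
    (hg : g * u = u * g) (x : Co0) (hx : pr x = g) : IsC x := by
  obtain ⟨d, hd, hdu⟩ := hu
  obtain ⟨h, hh⟩ := isConj_iff.1 hdu.symm
  obtain ⟨t, rfl⟩ := pr_surjective h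
  refine isC_of_F (h := t) (centralizer_dodecad_le d hd ?_)
  rw [Subgroup.mem_centralizer_singleton_iff, hx, ← hh]
  calc pr t * g * (pr t)⁻¹ * (pr t * u * (pr t)⁻¹) = pr t * (g * u) * (pr t)⁻¹ := by group
    _ = pr t * u * (pr t)⁻¹ * (pr t * g * (pr t)⁻¹) := by rw [hg]; group

end Cfsg.Agent.H11.QO.Monom
end

-- part: H868/QS/CoAsm
section
/-!
# `2.Co₁` (S2491, S2492): the case division (helper868, pieces E8d and E8)

* `InQ` : the remaining inputs: elements commuting with an involution of class 2A (`inA`), and the bounds for the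
  centralizers of the elements of `C(w)` outside `Z × L` (`out3`, `out5`, `out7`);
* `InQ.all` : every element of `Co₀` is a commutator; `InQ.row` : `RowA Co1`.
-/

set_option autoImplicit false

open Subgroup

namespace Cfsg.Agent.H868.QS

open Cfsg Cfsg.Agent.SporadicA Cfsg.Agent.SporadicA.Co0Mono Cfsg.Agent.SporadicA.GolayBase
open Cfsg.Agent.SporadicA.Co1Simple (allOne)
open Cfsg.Agent.KFacts.Co1D4 Cfsg.Agent.CoOneType
open Cfsg.Agent.CoOneType.ClosingFacts (mk mk_mul mk_inv exists_mk mk_eq_one mk_eq)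
open Cfsg.Agent.Co2Type.Mono (tr8)
open Cfsg.Agent.SigZeroCo2.Rank (fix mem_fix)
open Cfsg.Agent.SigZeroCo2.Lin (rep Sp)
open Cfsg.Agent.LThreeMB (fr fr_conj)
open Cfsg.Agent.H630.Ore.Co1
open Cfsg.Agent.H777.Ore
open Cfsg.Spor (Co1)
open Module (finrank)

/-- both lifts are commutators -/
def PP (g : Co1) : Prop := ∀ x : Co0, CoOneType.ClosingFacts.mk x = g → IsC x

theorem PP.of_conj {g k : Co1} (h : (PP (k * g * k⁻¹) :)) : PP g := by
  intro x hx
  obtain ⟨κ, hκ⟩ := exists_mk k
  exact IsC.of_conj κ (h (κ * x * κ⁻¹) (by rw [mk_mul, mk_mul, mk_inv, hκ, hx]))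

/-- the remaining inputs -/
structure InQ : Prop where
  inA : ∀ x : Co0, InA (CoOneType.ClosingFacts.mk x) → (∀ n : ℕ, CoOneType.ClosingFacts.mk x ^ 2 ^ n ≠ 1) → IsC x
  out3 : ∀ g y : Co1, TwoB.w ∈ zpowers g → g ∉ Main.setup.ZL → y ∈ zpowers g → orderOf y = 3 → fr y = 2 ^ 8 → Bd 1218 g
  out5 : ∀ g y : Co1, TwoB.w ∈ zpowers g → g ∉ Main.setup.ZL → y ∈ zpowers g → orderOf y = 5 → Bd 11007 g
  out7 : ∀ g y : Co1, TwoB.w ∈ zpowers g → g ∉ Main.setup.ZL → y ∈ zpowers g → orderOf y = 7 → Bd 11007 g

/-! ### small tools -/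

theorem not_two {g : Co1} {p : ℕ} (hp : p.Prime) (h2 : p ≠ 2) (h : p ∣ orderOf g) : ∀ n : ℕ, g ^ 2 ^ n ≠ 1 := by
  intro n hn
  have h1 := h.trans (orderOf_dvd_of_pow_eq_one hn)
  exact h2 ((Nat.prime_dvd_prime_iff_eq hp Nat.prime_two).1 (hp.dvd_of_dvd_pow h1))

theorem dvd_order {g y : Co1} {p : ℕ} (hy : orderOf y = p) (h : y ∈ zpowers g) : p ∣ orderOf g := by
  rw [← hy]
  exact orderOf_dvd_of_mem_zpowers h

theorem conj_mem {g y k : Co1} (h : y ∈ zpowers g) : k * y * k⁻¹ ∈ (zpowers (k * g * k⁻¹) :) := by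
  obtain ⟨n, rfl⟩ := h
  exact ⟨n, (conj_zpow (a := k) (b := g) (i := n))⟩

theorem orderOf_conj (k y : Co1) : orderOf (k * y * k⁻¹) = orderOf y := MulEquiv.orderOf_eq (MulAut.conj k) y

theorem ZL_of {g : Co1} (h : g ∈ Main.setup.ZL) : PP g := by
  obtain ⟨a, ha, l, hl, hal⟩ := Main.setup.mem_ZL.1 h
  intro x hx
  exact isC_ZL (Main.setup.mem_Z.1 ha) hl (hx.trans hal)

section

variable (I : InQ)

include I

theorem InQ.step {g u : Co1} (h2 : ∀ n : ℕ, g ^ 2 ^ n ≠ 1) (huu : u * u = 1) (hu1 : u ≠ 1) (hgu : g * u = u * g) :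
    PP g ∨ ∃ k : Co1, k * u * k⁻¹ = TwoB.w := by
  rcases inv_cases huu hu1 with h | h | h
  · exact Or.inl fun x hx => I.inA x ⟨u, h, by rw [hx]; exact hgu⟩ (by rw [hx]; exact h2)
  · exact Or.inl fun x hx => H11.QO.Monom.isC_isD g u h hgu x hx
  · obtain ⟨c, hc⟩ := isConj_iff.1 h
    exact Or.inr ⟨c⁻¹, by rw [← hc]; group⟩

/-- odd order, even centralizer -/
theorem InQ.of_odd {g : Co1} {p : ℕ} (hp : p.Prime) (hpg : p ∣ orderOf g) (ho : Odd (orderOf g))
    (hev : 2 ∣ Nat.card (centralizer ({g} : Set Co1))) : PP g := by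
  have := LThree.fin_co1
  have : Fact (Nat.Prime 2) := ⟨Nat.prime_two⟩
  obtain ⟨t, ht⟩ := exists_prime_orderOf_dvd_card' (G := centralizer ({g} : Set Co1)) 2 hev
  have htg := mem_centralizer_singleton_iff.1 t.2
  have ht' : orderOf (t : Co1) = 2 := (orderOf_coe t).trans ht
  have hp2 : p ≠ 2 := by
    rintro rfl
    exact absurd (even_iff_two_dvd.2 hpg) (Nat.not_even_iff_odd.2 ho)
  rcases I.step (u := (t : Co1)) (not_two hp hp2 hpg) (by rw [← pow_two, ← ht', pow_orderOf_eq_one]) (by
    intro h1
    rw [h1, orderOf_one] at ht'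
    norm_num at ht') htg.symm with h | ⟨k, hk⟩
  · exact h
  · refine PP.of_conj (k := k) ?_
    have hc : k * g * k⁻¹ * TwoB.w = TwoB.w * (k * g * k⁻¹) := by
      rw [← hk]
      calc k * g * k⁻¹ * (k * t * k⁻¹) = k * (g * t) * k⁻¹ := by group
        _ = k * (t * g) * k⁻¹ := by rw [htg]
        _ = k * t * k⁻¹ * (k * g * k⁻¹) := by group
    have hL := odd_mem_L (by rw [orderOf_conj]; exact ho) hc
    intro x hx
    exact isC_of_mem_L (by rw [hx]; exact hL)

/-- even order -/
theorem InQ.of_even {g u : Co1} (h2 : ∀ n : ℕ, g ^ 2 ^ n ≠ 1) (hu : orderOf u = 2) (hug : u ∈ zpowers g) :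
    PP g ∨ ∃ k : Co1, TwoB.w ∈ (zpowers (k * g * k⁻¹) :) ∧ k * g * k⁻¹ ∉ Main.setup.ZL := by
  rcases I.step (u := u) h2 (by rw [← pow_two, ← hu, pow_orderOf_eq_one]) (by
    intro h1
    rw [h1, orderOf_one] at hu
    norm_num at hu) (by
      obtain ⟨n, rfl⟩ := hug
      exact ((Commute.refl g).zpow_right n).eq) with h | ⟨k, hk⟩
  · exact Or.inl h
  · by_cases hZ : k * g * k⁻¹ ∈ Main.setup.ZL
    · exact Or.inl (ZL_of hZ).of_conj
    · refine Or.inr ⟨k, ?_, hZ⟩
      rw [← hk]
      exact conj_mem hug

omit I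

/-- the sieve -/
theorem sieve {g : Co1} {c : ℕ} (hc : Bd c g) {t : ℤ} (ht : ∀ x : Co0, CoOneType.ClosingFacts.mk x = g → 8 * t ≤ tr8 x)
    (h : (t = 0 ∧ c = 11007) ∨ (t = -1 ∧ c = 10099) ∨ (t = -2 ∧ c = 9245) ∨ (t = -3 ∧ c = 8420) ∨ (t = -4 ∧ c = 7633) ∨
      (t = -5 ∧ c = 6897) ∨ (t = -6 ∧ c = 6183) ∨ (t = -7 ∧ c = 5522) ∨ (t = -8 ∧ c = 4887) ∨ (t = -9 ∧ c = 4294) ∨
      (t = -10 ∧ c = 3737) ∨ (t = -11 ∧ c = 3222) ∨ (t = -12 ∧ c = 2752) ∨ (t = -13 ∧ c = 2308) ∨
      (t = -14 ∧ c = 1908) ∨ (t = -15 ∧ c = 1544) ∨ (t = -16 ∧ c = 1218)) : PP g := by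
  intro x hx
  exact H264.QS.CoSieve.isC_bd (by rw [hx]; exact hc) (ht x hx) h

/-! ### order 11, 13, 23 -/

theorem big_one {g y : Co1} (h : orderOf y = 11 ∨ orderOf y = 13 ∨ orderOf y = 23) (hyg : y ∈ zpowers g) : PP g := by
  rcases h with h | h | h
  · refine sieve (c := 6183) (t := -6) (le_trans (bd_of_le hyg (H8.Ore.CoOneB.bound_eleven h)) (by norm_num)) ?_ (by norm_num)
    intro x hx
    exact tr_eleven h (by rw [hx]; exact hyg)
  · refine sieve (c := 9245) (t := -2) (le_trans (bd_of_le hyg (H8.Ore.CoOneB.bound_thirteen h)) (by norm_num)) ?_ (by norm_num)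
    intro x hx
    exact tr_thirteen h (by rw [hx]; exact hyg)
  · refine sieve (c := 8420) (t := -3) (le_trans (bd_of_le hyg (H8.Ore.CoOneB.bound_23 h)) (by norm_num)) ?_ (by norm_num)
    intro x hx
    exact tr_23 h (by rw [hx]; exact hyg)

include I

/-- the frame for a prime `p` at least five -/
theorem InQ.prime_step {g y : Co1} {p : ℕ} (hp : p.Prime) (hp2 : p ≠ 2) (hy : orderOf y = p) (hyg : y ∈ zpowers g)
    (hodd : ¬ 2 ∣ Nat.card (centralizer ({g} : Set Co1)) → PP g)
    (hout : ∀ k : Co1, TwoB.w ∈ (zpowers (k * g * k⁻¹) :) → k * g * k⁻¹ ∉ Main.setup.ZL → PP (k * g * k⁻¹)) : PP g := by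
  have := LThree.fin_co1
  by_cases hev : 2 ∣ Nat.card (centralizer ({g} : Set Co1))
  · by_cases ho : Odd (orderOf g)
    · exact I.of_odd hp (dvd_order hy hyg) ho hev
    · obtain ⟨u, hug, hu⟩ := exists_pow Nat.prime_two (even_iff_two_dvd.1 (Nat.not_odd_iff_even.1 ho))
      rcases I.of_even (not_two hp hp2 (dvd_order hy hyg)) hu hug with h | ⟨k, h1, h2⟩
      · exact h
      · exact (hout k h1 h2).of_conj
  · exact hodd hev

/-- order seven -/
theorem InQ.seven {g y : Co1} (hy : orderOf y = 7) (hyg : y ∈ zpowers g) : PP g := by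
  refine I.prime_step (by norm_num) (by norm_num) hy hyg (fun hodd => ?_) fun k hw hZ => ?_
  · refine sieve (c := 4294) (t := -9) ((H253.CoOdd.seven hy hyg hodd).trans (by norm_num)) ?_ (by norm_num)
    intro x hx
    exact tr_seven hy (by rw [hx]; exact hyg)
  · refine sieve (c := 11007) (t := 0) ((I.out7 _ (k * y * k⁻¹) hw hZ (conj_mem hyg) (by rw [orderOf_conj, hy]) :)) ?_ (by norm_num)
    intro x hx
    rw [tr_w (by rw [hx]; exact hw)]
    norm_num

omit I

/-- elements of order a power of five over class 5C -/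
theorem tr_five_pow {x : Co0} {y : Co1} (hy : orderOf y = 5) (hyx : y ∈ zpowers (CoOneType.ClosingFacts.mk x)) (hf : fr y = 2 ^ 4) {k : ℕ}
    (hk : orderOf (CoOneType.ClosingFacts.mk x) = 5 ^ k) : 8 * (-6) ≤ tr8 x := by
  have hpos := Nat.pos_of_ne_zero (show k ≠ 0 by
    rintro rfl
    rw [pow_zero, orderOf_eq_one_iff] at hk
    rw [hk, zpowers_one_eq_bot, mem_bot] at hyx
    rw [hyx, orderOf_one] at hy
    norm_num at hy)
  obtain ⟨m, rfl⟩ := Nat.exists_eq_succ_of_ne_zero hpos.ne'
  set! z : Co1 := CoOneType.ClosingFacts.mk x ^ 5 ^ m with hz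
  have hzo : orderOf z = 5 := by
    rw [hz, orderOf_pow_of_dvd (pow_ne_zero _ (by norm_num)) (by rw [hk]; exact pow_dvd_pow 5 (Nat.le_succ m)), hk,
      Nat.pow_div (Nat.le_succ m) (by norm_num)]
    norm_num
  have hyz : y ∈ zpowers z := by
    obtain ⟨n, hn⟩ := exists_nat_pow hyx
    have h1 : 5 ^ (m + 1) ∣ n * 5 := by
      rw [← hk]
      refine orderOf_dvd_of_pow_eq_one ?_
      rw [pow_mul, hn, ← hy, pow_orderOf_eq_one]
    have h2 : 5 ^ m ∣ n := by
      rw [pow_succ] at h1
      exact Nat.dvd_of_mul_dvd_mul_right (by norm_num) h1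
    obtain ⟨c, rfl⟩ := h2
    rw [← hn, pow_mul]
    exact pow_mem (mem_zpowers _) c
  have hfz : fr z = 2 ^ 4 := by
    rw [← hf]
    have hzy := BpSpor.MBigCo.mem_swap (by norm_num) hy hzo hyz
    exact Nat.card_congr (Equiv.subtypeEquivRight fun v =>
      ⟨fun h => BpSpor.MBigCo.fix_of_mem hyz h, fun h => BpSpor.MBigCo.fix_of_mem hzy h⟩)
  rcases Nat.eq_zero_or_pos m with rfl | hm
  · -- order five
    have hz1 : z = CoOneType.ClosingFacts.mk x := by rw [hz, pow_zero, pow_one]
    rw [hz1] at hfz hzo
    have key : ∀ c : Co0, CoOneType.ClosingFacts.mk c = CoOneType.ClosingFacts.mk x → c ^ 5 = 1 → tr8 c = -8 := by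
      intro c hc hc5
      have hco : orderOf c = 5 := by
        refine orderOf_eq_prime (p := 5) hc5 ?_
        rintro rfl
        rw [← hc] at hzo
        have h7 : orderOf (ClosingFacts.mk 1) = 1 := orderOf_one
        rw [hzo] at h7
        norm_num at h7
      have h1 := CoFive.Dims.five_finrank hco
      have h2 := CoFiveC.Main.finrank_of_fr hco (show fr (CoOneType.ClosingFacts.mk c) = 2 ^ 4 by rw [hc]; exact hfz)
      rw [h2] at h1
      have h3 : (tr8 c : ℚ) = -8 := by push_cast at h1; linarith only [h1]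
      exact_mod_cast h3
    have hx5 : ClosingFacts.mk (x ^ 5) = 1 := by
      show CoOneType.ClosingFacts.mk x ^ 5 = 1
      rw [← hzo, pow_orderOf_eq_one]
    rcases (ClosingFacts.mk_eq_one _).1 hx5 with h5 | h5
    · rw [key x rfl h5]; norm_num
    · have h6 : tr8 (x * Co0Basic.negCo0) = -8 := by
        refine key _ ?_ ?_
        · rw [TwoB.negCo0_eq, mk_mul, TwoB.mk_allOne, mul_one]
        · have hcm : Commute x (signCo0 allOne) := SignFacts.sign_allOne_comm x
          rw [TwoB.negCo0_eq, hcm.mul_pow, h5, show (5 : ℕ) = 2 * 2 + 1 by norm_num, pow_succ, pow_mul, pow_two (signCo0 allOne),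
            signCo0_mul_self, one_pow, one_mul, signCo0_mul_self]
      rw [H752.CoInv.tr8_neg] at h6
      omega
  · obtain ⟨j, rfl⟩ := Nat.exists_eq_succ_of_ne_zero hm.ne'
    have h1 : (CoOneType.ClosingFacts.mk x ^ 5 ^ j) ^ 5 = z := by rw [hz, ← pow_mul, ← pow_succ]
    have h2 := tr_le_sq (x := x) (h := CoOneType.ClosingFacts.mk x ^ 5 ^ j) (p := 5) (f := 4) (by norm_num) (by norm_num)
      (by rw [h1, ← hzo, pow_orderOf_eq_one]) ((zpowers (CoOneType.ClosingFacts.mk x)).pow_mem (mem_zpowers _) _) (by rw [h1]; exact hfz)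
    have h3 := neg_abs_le (tr8 x)
    push_cast at h2
    omega

/-- the order of `g` -/
theorem five_order {g : Co1} (h : ∀ p : ℕ, p.Prime → p ∣ orderOf g → p = 5) : ∃ k, orderOf g = 5 ^ k := by
  have := LThree.fin_co1
  exact ⟨_, Nat.eq_prime_pow_of_unique_prime_dvd ((orderOf_pos g).ne' :) fun {d} hd hdm => h d hd hdm⟩

include I

/-- order five -/
theorem InQ.five {g y : Co1} (hy : orderOf y = 5) (hyg : y ∈ zpowers g) : PP g := by
  have := LThree.fin_co1
  by_cases hbig : ∃ p, p.Prime ∧ 7 ≤ p ∧ p ∣ orderOf g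
  · obtain ⟨p, hp, h7, h⟩ := hbig
    obtain ⟨z, hzg, hz⟩ := exists_pow hp h
    rcases prime_cases hp (h.trans (_root_.orderOf_dvd_natCard g)) with rfl | rfl | rfl | rfl | rfl | rfl | rfl
    · omega
    · omega
    · omega
    · exact I.seven hz hzg
    · exact big_one (Or.inl hz) hzg
    · exact big_one (Or.inr (Or.inl hz)) hzg
    · exact big_one (Or.inr (Or.inr hz)) hzg
  push Not at hbig
  refine I.prime_step (by norm_num) (by norm_num) hy hyg (fun hodd => ?_) fun k hw hZ => ?_
  · rcases CoFive.Ranks.ranks y hy with hf | hf | hf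
    · refine sieve (c := 6183) (t := -6) ((H253.CoOdd.five_one hy hf hyg hodd).trans (by norm_num)) ?_ (by norm_num)
      intro x hx
      rcases tr_five hy (by rw [hx]; exact hyg) with h | h | h
      · exact h.2
      · rw [hf] at h; norm_num at h
      · rw [hf] at h; norm_num at h
    · by_cases h3 : 3 ∣ orderOf g
      · refine sieve (c := 4294) (t := -9) ((H253.CoOdd.five_four hy hf hyg h3 hodd).trans (by norm_num)) ?_ (by norm_num)
        intro x hx
        rcases tr_five hy (by rw [hx]; exact hyg) with h | h | h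
        · rw [hf] at h; norm_num at h
        · exact h.2
        · rw [hf] at h; norm_num at h
      · rcases H868.Ore.Co1.fiveC hy hf hyg with ⟨t, ht, htg, -⟩ | hb
        · exfalso
          apply hodd
          rw [← ht, ← orderOf_mk t (mem_centralizer_singleton_iff.2 htg : t ∈ centralizer ({g} : Set Co1))]
          exact _root_.orderOf_dvd_natCard _
        · obtain ⟨k, hk⟩ := five_order (g := g) (by
            intro p hp hd
            have h7 : p < 7 := by
              by_contra h
              exact hbig p hp (not_lt.1 h) hd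
            have h2 := hp.two_le
            interval_cases p
            · exfalso
              apply hodd
              refine hd.trans ?_
              rw [← orderOf_mk g (mem_centralizer_singleton_iff.2 rfl : g ∈ centralizer ({g} : Set Co1))]
              exact _root_.orderOf_dvd_natCard _
            · exact absurd hd h3
            · exact absurd hp (by norm_num)
            · rfl
            · exact absurd hp (by norm_num))
          refine sieve (c := 6183) (t := -6) (hb.trans (by norm_num)) ?_ (by norm_num)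
          intro x hx
          exact tr_five_pow hy (by rw [hx]; exact hyg) hf (by rw [hx]; exact hk)
    · refine sieve (c := 2752) (t := -12) ((H253.CoOdd.five_eight hy hf hyg hodd).trans (by norm_num)) ?_ (by norm_num)
      intro x hx
      rcases tr_five hy (by rw [hx]; exact hyg) with h | h | h
      · rw [hf] at h; norm_num at h
      · rw [hf] at h; norm_num at h
      · exact h.2
  · refine sieve (c := 11007) (t := 0) ((I.out5 _ (k * y * k⁻¹) hw hZ (conj_mem hyg) (by rw [orderOf_conj, hy]) :)) ?_ (by norm_num)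
    intro x hx
    rw [tr_w (by rw [hx]; exact hw)]
    norm_num

/-- order divisible by nine -/
theorem InQ.nine {g : Co1} (h9 : 9 ∣ orderOf g) : PP g := by
  have := LThree.fin_co1
  rcases nine_pgroup h9 with ⟨t, ht, htg, hw⟩ | hP
  · rcases I.step (u := t) (not_two Nat.prime_three (by norm_num) ((by norm_num : 3 ∣ 9).trans h9))
      (by rw [← pow_two, ← ht, pow_orderOf_eq_one]) (by
        rintro rfl
        rw [orderOf_one] at ht
        norm_num at ht) htg.symm with h | ⟨k, hk⟩
    · exact h
    · exact absurd ((isConj_iff.2 ⟨k⁻¹, by rw [← hk]; group⟩ : _)) hw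
  · obtain ⟨m, hm⟩ := h9
    have hm0 : m ≠ 0 := by
      rintro rfl
      have := (orderOf_pos g :)
      omega
    have hx : orderOf (g ^ m) = 9 := by
      rw [orderOf_pow_of_dvd hm0 ⟨9, by rw [hm, mul_comm]⟩, hm]
      exact Nat.mul_div_cancel _ (Nat.pos_of_ne_zero hm0)
    have hxg : g ^ m ∈ zpowers g := ⟨m, by simp⟩
    refine sieve (c := 2752) (t := -12) (((H253.CoNine.bd_nine_all hxg hx hP).1).trans (by norm_num)) ?_ (by norm_num)
    intro x hx'
    rcases tr_nine (x := x) hx (by rw [hx']; exact hxg) with h | h | h | h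
    · exact le_trans (by norm_num) h.2
    · exact le_trans (by norm_num) h.2
    · exact le_trans (by norm_num) h.2
    · exact h.2

/-- `t s`, `|s| = 3`, `fr s = 2 ^ 8` -/
theorem InQ.eight {s t : Co1} (hs : orderOf s = 3) (hf : fr s = 2 ^ 8) (hts : t * s = s * t) (ht1 : t ≠ 1)
    (ht : ∃ n : ℕ, t ^ 2 ^ n = 1) : PP (t * s) := by
  have := LThree.fin_co1
  obtain ⟨n, hn⟩ := ht
  have hs3 : s ^ 3 = 1 := by rw [← hs, pow_orderOf_eq_one]
  have hsg : s ∈ zpowers (t * s) := by
    have h1 : (t * s) ^ 4 ^ n = s := by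
      have h4 : t ^ 4 ^ n = 1 := by
        rw [show (4 : ℕ) ^ n = 2 ^ n * 2 ^ n by rw [← mul_pow]; norm_num, pow_mul, hn, one_pow]
      have h5 : 4 ^ n % 3 = 1 := by
        rw [Nat.pow_mod]; simp
      rw [(show Commute t s from hts).mul_pow, h4, one_mul, ← Nat.div_add_mod (4 ^ n) 3, h5, pow_succ, pow_mul, hs3, one_pow, one_mul]
    have h6 : (t * s) ^ 4 ^ n ∈ zpowers (t * s) := pow_mem (mem_zpowers _) _
    rwa [h1] at h6
  have htg : t ∈ zpowers (t * s) := by
    have h6 : t * s * s⁻¹ ∈ zpowers (t * s) := mul_mem (mem_zpowers _) (inv_mem hsg)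
    rwa [mul_inv_cancel_right] at h6
  have ho : orderOf t ∣ 2 ^ n := orderOf_dvd_of_pow_eq_one hn
  obtain ⟨m, -, hm⟩ := (Nat.dvd_prime_pow Nat.prime_two).1 ho
  have h2 : 2 ∣ orderOf t := by
    rw [hm]
    refine dvd_pow_self 2 ?_
    rintro rfl
    rw [pow_zero, orderOf_eq_one_iff] at hm
    exact ht1 hm
  obtain ⟨u, hut, hu⟩ := exists_pow Nat.prime_two h2
  have hug : u ∈ zpowers (t * s) := (zpowers_le.2 htg) hut
  rcases I.of_even (not_two Nat.prime_three (by norm_num) (dvd_order hs hsg)) hu hug with h | ⟨k, hw, hZ⟩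
  · exact h
  · refine PP.of_conj (k := k) ?_
    refine sieve (c := 1218) (t := -16) (I.out3 _ (k * s * k⁻¹) hw hZ (conj_mem hsg) (by rw [orderOf_conj, hs])
      (by rw [fr_conj, hf])) ?_ (by norm_num)
    intro x hx
    exact (tr_three (y := k * s * k⁻¹) (by rw [orderOf_conj, hs]) (by rw [hx]; exact conj_mem hsg) (by rw [fr_conj, hf]) :)

/-- the frame of helper630 -/
theorem InQ.toP : InputsP PP where
  inA g h h1 := by
    intro x hx
    by_cases h2 : ∃ i : ℕ, g ^ 2 ^ i = 1
    · exact H11.QO.Monom.isC_two g h2 x hx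
    · push Not at h2
      exact I.inA x (by rw [hx]; exact h) (by rw [hx]; exact h2)
  isD g u h hg := fun x hx => H11.QO.Monom.isC_isD g u h hg x hx
  two g h := fun x hx => H11.QO.Monom.isC_two g h x hx
  prime s h := by
    rcases h with h | h
    · obtain ⟨t, ht, hts⟩ := Even.evC h
      refine I.of_odd Nat.prime_three (by rw [h]) (by rw [h]; decide) ?_
      rw [← ht, ← orderOf_mk t (mem_centralizer_singleton_iff.2 hts : t ∈ centralizer ({s} : Set Co1))]
      have := LThree.fin_co1
      exact _root_.orderOf_dvd_natCard _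
    · exact I.five h (mem_zpowers s)
  fiveA _ _ hy _ hyg _ := I.five hy hyg
  fiveB _ _ hy _ hyg _ := I.five hy hyg
  fiveC _ _ hy _ hyg _ := I.five hy hyg
  big _ _ h hyg := by
    rcases h with h | h
    · exact I.seven h hyg
    · exact big_one h hyg
  nine _ h := I.nine h
  eight _ _ hs hf hts ht1 ht := I.eight hs hf hts ht1 ht

/-- **every element of `Co₀` is a commutator** -/
theorem InQ.all : AllC Co0 := fun x => I.toP.all (ClosingFacts.mk x) x rfl

/-- **the row `Co₁`** -/
theorem InQ.row : H6.QO.RowA Co1 := by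
  have hπ : H51.Mult.PCE (QuotientGroup.mk' (center Co0)) := by
    refine ⟨QuotientGroup.mk'_surjective _, ?_, ConwayFacts.AutCo1.commutator_Co0⟩
    rw [QuotientGroup.ker_mk']
  refine H6.QO.RowA.of_univ S2043.result hπ ?_ I.all
  rw [QuotientGroup.ker_mk', Nat.card_congr Multiplicative.toAdd, Nat.card_zmod]
  exact S0398.result

end

end Cfsg.Agent.H868.QS
end

private theorem dce_63b6d330034f : _root_.True := by
  try have : _root_.True := by simp only [_root_.Cfsg.Agent.H868.QS.Even.vl.eq_1]
  exact _root_.True.intro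
end
end
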